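import Cfsg.Agent.Coprime.Action

/-!
Glauberman's lemma, invariant Sylow subgroups, Burnside's Frattini criterion, the abelian
decomposition and the `P × Q` lemma.
-/

set_option linter.style.haveILetI false
set_option linter.unusedSectionVars false

namespace Cfsg.Lib.Coprime

open Subgroup
open scoped Pointwise commutatorElement

variable {G : Type*} [Group G]

theorem card_sup_mul_card_inf [Finite G] {N H : Subgroup G} (h : H ≤ normalizer (N : Set G)) :
    Nat.card ↥(N ⊔ H) * Nat.card ↥(N ⊓ H) = Nat.card N * Nat.card H := by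
  haveI := Subgroup.normal_subgroupOf_of_le_normalizer h
  haveI := Subgroup.normal_subgroupOf_sup_of_le_normalizer h
  have he : N.relIndex H = N.relIndex (H ⊔ N) :=
    Nat.card_congr (QuotientGroup.quotientInfEquivProdNormalizerQuotient H N h).toEquiv
  have e1 : Nat.card N * N.relIndex (H ⊔ N) = Nat.card ↥(H ⊔ N) := by
    rw [← relIndex_bot_left, relIndex_mul_relIndex _ _ _ bot_le le_sup_right, relIndex_bot_left]
  have e2 : Nat.card ↥(N ⊓ H) * N.relIndex H = Nat.card H := by
    rw [← inf_relIndex_right N H, ← relIndex_bot_left,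
      relIndex_mul_relIndex _ _ _ bot_le inf_le_right, relIndex_bot_left]
  rw [sup_comm, ← e1, he.symm, mul_assoc, mul_comm (N.relIndex H), e2]

theorem le_normalizer_map_subtype_iff {K : Subgroup G} {P : Subgroup K} {A : Subgroup G} :
    A ≤ normalizer (P.map K.subtype : Set G) ↔
      ∀ a ∈ A, conjMap a (P.map K.subtype) = P.map K.subtype :=
  ⟨fun h a ha => conjMap_eq_self (h ha), fun h a ha => conjMap_eq_self_iff.mp (h a ha)⟩

theorem map_subtype_smul {p : ℕ} {K : Subgroup G} (k : K) (P : Sylow p K) :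
    ((k • P : Sylow p K) : Subgroup K).map K.subtype
      = conjMap (k : G) ((P : Subgroup K).map K.subtype) := by
  rw [Sylow.coe_subgroup_smul, conj_smul_eq, map_conjMap]
  rfl

/-- invariant Sylow subgroups exist -/
theorem exists_invariant_sylow [Finite G] {A K : Subgroup G} (hAK : A ≤ normalizer (K : Set G))
    (hcop : (Nat.card A).Coprime (Nat.card K)) (hsol : Group.IsSolvable A ∨ Group.IsSolvable K)
    (p : ℕ) [Fact p.Prime] :
    ∃ P : Sylow p K, A ≤ normalizer (((P : Subgroup K).map K.subtype : Subgroup G) : Set G) := by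
  obtain ⟨P⟩ := (inferInstance : Nonempty (Sylow p K))
  set P₀ := (P : Subgroup K).map K.subtype with hP₀
  set L := (K ⊔ A) ⊓ normalizer (P₀ : Set G) with hL
  have hLK : L ≤ normalizer (K : Set G) := inf_le_left.trans (sup_le_normalizer hAK)
  have hFr : K ⊔ L = K ⊔ A := by
    refine le_antisymm (sup_le le_sup_left inf_le_left) fun g hg => ?_
    have hgK : g ∈ normalizer (K : Set G) := sup_le_normalizer hAK hg
    have hle : conjMap g P₀ ≤ K := by
      have := conjMap_mono (g := g) (map_subtype_le (P : Subgroup K))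
      rwa [conjMap_eq_self hgK] at this
    obtain ⟨k, hk⟩ := MulAction.exists_smul_eq K P (Sylow.ofCard ((conjMap g P₀).subgroupOf K) (by
      rw [Nat.card_congr (subgroupOfEquivOfLe hle).toEquiv, card_conjMap, hP₀,
        Subgroup.card_map_of_injective K.subtype_injective, P.card_eq_multiplicity]))
    have h2 : conjMap (k : G) P₀ = conjMap g P₀ := by
      rw [hP₀, ← map_subtype_smul, hk, Sylow.coe_ofCard, map_subgroupOf_eq_of_le hle]
    have h3 : (k : G)⁻¹ * g ∈ L := by
      refine ⟨mul_mem (Subgroup.inv_mem _ (mem_sup_left k.2)) hg, ?_⟩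
      show (k : G)⁻¹ * g ∈ normalizer (P₀ : Set G)
      rw [← conjMap_eq_self_iff, ← conjMap_mul, ← h2, conjMap_inv_conjMap]
    have : g = (k : G) * ((k : G)⁻¹ * g) := by group
    rw [this]
    exact mul_mem_sup k.2 h3
  set N := K ⊓ L with hN
  have hNn : L ≤ normalizer (N : Set G) := le_normalizer_inf hLK le_normalizer
  have hcard := card_sup_mul_card_inf hLK
  rw [hFr, card_sup_coprime hAK hcop.symm, ← hN, mul_assoc] at hcard
  have hcard' := Nat.eq_of_mul_eq_mul_left Nat.card_pos hcard
  have hrel : N.relIndex L = Nat.card A := by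
    apply Nat.eq_of_mul_eq_mul_left (Nat.card_pos (α := N))
    rw [← relIndex_bot_left, relIndex_mul_relIndex _ _ _ bot_le inf_le_right, relIndex_bot_left,
      relIndex_bot_left, ← hcard', mul_comm]
  have hcopN : (Nat.card N).Coprime (N.relIndex L) :=
    hrel ▸ (coprime_of_le inf_le_left hcop).symm
  obtain ⟨B, hBL, -, hBc⟩ := exists_complement_in inf_le_right hNn hcopN
  rw [hrel] at hBc
  have hBK : B ≤ normalizer (K : Set G) := hBL.trans hLK
  have hAle : B ≤ K ⊔ A := hBL.trans inf_le_left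
  obtain ⟨k, hk, hkB⟩ := exists_conj_eq_of_coprime hAK hcop.symm hsol.symm hAle hBc
  refine ⟨(⟨k, hk⟩ : K)⁻¹ • P, ?_⟩
  intro a ha
  rw [map_subtype_smul, normalizer_conjMap, mem_conjMap]
  have hb : k * a * k⁻¹ ∈ B := by
    rw [hkB, mem_conjMap]
    simpa [mul_assoc] using ha
  have h := (hBL hb).2
  simp only [Subgroup.coe_inv, inv_inv]
  exact h

/-- invariant Sylow subgroups are conjugate under `C_K(A)` -/
theorem invariant_sylow_conj [Finite G] {A K : Subgroup G} (hAK : A ≤ normalizer (K : Set G))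
    (hcop : (Nat.card A).Coprime (Nat.card K)) (hsol : Group.IsSolvable A ∨ Group.IsSolvable K)
    (p : ℕ) [Fact p.Prime] (P Q : Sylow p K)
    (hP : A ≤ normalizer (((P : Subgroup K).map K.subtype : Subgroup G) : Set G))
    (hQ : A ≤ normalizer (((Q : Subgroup K).map K.subtype : Subgroup G) : Set G)) :
    ∃ c : K, (c : G) ∈ centralizer (A : Set G) ∧ c • P = Q := by
  obtain ⟨k, hk⟩ := MulAction.exists_smul_eq K P Q
  set P₀ := (P : Subgroup K).map K.subtype with hP₀
  set D := K ⊓ normalizer (P₀ : Set G) with hD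
  have hAD : A ≤ normalizer (D : Set G) := le_normalizer_inf hAK (hP.trans le_normalizer)
  obtain ⟨d, hd, hc⟩ := exists_fixed_in_coset hAD (coprime_of_le inf_le_left hcop)
    (isSolvable_or_of_le inf_le_left hsol) (k := (k : G)) (by
      intro a ha
      refine ⟨?_, ?_⟩
      · show (k : G)⁻¹ * a * k * a⁻¹ ∈ K
        rw [show (k : G)⁻¹ * a * k * a⁻¹ = (k : G)⁻¹ * (a * k * a⁻¹) by group]
        exact mul_mem (inv_mem k.2) ((mem_normalizer_iff.mp (hAK ha) _).mp k.2)
      · show (k : G)⁻¹ * a * k * a⁻¹ ∈ normalizer (P₀ : Set G)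
        rw [← conjMap_eq_self_iff, ← conjMap_mul, conjMap_eq_self (inv_mem (hP ha)), ← conjMap_mul,
          hP₀, ← map_subtype_smul, hk, ← conjMap_mul, conjMap_eq_self (hQ ha), ← hk,
          map_subtype_smul, conjMap_inv_conjMap])
  refine ⟨k * ⟨d, hd.1⟩, hc, ?_⟩
  apply Sylow.ext
  apply Subgroup.map_injective K.subtype_injective
  rw [map_subtype_smul, Subgroup.coe_mul, ← conjMap_mul, conjMap_eq_self hd.2, ← map_subtype_smul,
    hk]

/-- an invariant `p`-subgroup lies in an invariant Sylow subgroup -/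
theorem exists_invariant_sylow_ge [Finite G] {A K : Subgroup G}
    (hAK : A ≤ normalizer (K : Set G)) (hcop : (Nat.card A).Coprime (Nat.card K))
    (hsol : Group.IsSolvable A ∨ Group.IsSolvable K) (p : ℕ) [Fact p.Prime] {U : Subgroup G}
    (hUK : U ≤ K) (hU : IsPGroup p U) (hUA : A ≤ normalizer (U : Set G)) :
    ∃ P : Sylow p K, U ≤ (P : Subgroup K).map K.subtype ∧
      A ≤ normalizer (((P : Subgroup K).map K.subtype : Subgroup G) : Set G) := by
  obtain ⟨V, ⟨hVK, hVp, hVA, hUV⟩, hmax⟩ := WellFounded.has_min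
    (wellFounded_gt (α := Subgroup G))
    {V | V ≤ K ∧ IsPGroup p V ∧ A ≤ normalizer (V : Set G) ∧ U ≤ V} ⟨U, hUK, hU, hUA, le_rfl⟩
  set M := K ⊓ normalizer (V : Set G) with hM
  obtain ⟨R, hR⟩ := exists_invariant_sylow (le_normalizer_inf hAK (hVA.trans le_normalizer))
    (coprime_of_le (N := M) inf_le_left hcop) (isSolvable_or_of_le inf_le_left hsol) p
  have hVM : V ≤ M := le_inf hVK le_normalizer
  haveI : (V.subgroupOf M).Normal := (normal_subgroupOf_iff_le_normalizer hVM).mpr inf_le_right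
  have hVR : V ≤ (R : Subgroup M).map M.subtype := by
    obtain ⟨S, hS⟩ := (hVp.of_equiv (subgroupOfEquivOfLe hVM).symm).exists_le_sylow
    obtain ⟨m, hm⟩ := MulAction.exists_smul_eq M S R
    have h := Subgroup.map_mono (f := M.subtype) hS
    rw [map_subgroupOf_eq_of_le hVM] at h
    have h2 := conjMap_mono (g := (m : G)) h
    rwa [conjMap_eq_self m.2.2, ← map_subtype_smul, hm] at h2
  have hRK : (R : Subgroup M).map M.subtype ≤ K := (map_subtype_le _).trans inf_le_left
  have hRe : (R : Subgroup M).map M.subtype = V := by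
    by_contra hne
    exact hmax _ ⟨hRK, R.2.map _, hR, hUV.trans hVR⟩ (lt_of_le_of_ne hVR (Ne.symm hne))
  -- `V` is a Sylow subgroup of its normalizer in `K`, hence of `K`
  obtain ⟨P, hP⟩ := (hVp.of_equiv (subgroupOfEquivOfLe hVK).symm).exists_le_sylow
  have hVP : V ≤ (P : Subgroup K).map K.subtype := by
    have h := Subgroup.map_mono (f := K.subtype) hP
    rwa [map_subgroupOf_eq_of_le hVK] at h
  refine ⟨P, hUV.trans hVP, ?_⟩
  suffices hPV : (P : Subgroup K).map K.subtype = V by rw [hPV]; exact hVA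
  set P₀ := (P : Subgroup K).map K.subtype with hP₀
  by_contra hne
  haveI := (P.2.map K.subtype).isNilpotent
  have hlt : V.subgroupOf P₀ < ⊤ := lt_top_iff_ne_top.mpr fun h =>
    hne (le_antisymm (subgroupOf_eq_top.mp h) hVP)
  have hgrow := Group.normalizerCondition_of_isNilpotent (G := P₀) _ hlt
  obtain ⟨x, hxn, hxV⟩ := SetLike.exists_of_lt hgrow
  rw [← subgroupOf_normalizer_eq hVP] at hxn
  have hxM : (x : G) ∈ M := ⟨map_subtype_le _ x.2, hxn⟩
  set W := P₀ ⊓ normalizer (V : Set G) with hW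
  have hWM : W ≤ M := inf_le_inf_right _ (map_subtype_le _)
  obtain ⟨S, hS⟩ := (((P.2.map K.subtype).to_le inf_le_left).of_equiv
    (subgroupOfEquivOfLe hWM).symm).exists_le_sylow (p := p)
  have hcardle : Nat.card W ≤ Nat.card V := by
    rw [← hRe, Subgroup.card_map_of_injective M.subtype_injective,
      Sylow.card_eq_multiplicity R, ← Sylow.card_eq_multiplicity S,
      ← Nat.card_congr (subgroupOfEquivOfLe hWM).toEquiv]
    exact Nat.le_of_dvd Nat.card_pos (Subgroup.card_dvd_of_le hS)
  have hWV : V = W := Subgroup.eq_of_le_of_card_ge (le_inf hVP le_normalizer) hcardle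
  exact hxV (mem_subgroupOf.mpr (hWV ▸ ⟨x.2, hxn⟩))

/-- Glauberman's lemma -/
theorem exists_fixed_point [Finite G] {X : Type*} [MulAction G X] {K H : Subgroup G} [K.Normal]
    (hc : Subgroup.IsComplement' K H) (hcop : (Nat.card K).Coprime K.index)
    (hsol : Group.IsSolvable K ∨ Group.IsSolvable H)
    (htrans : ∀ x y : X, ∃ k ∈ K, k • x = y) (x₀ : X) : ∃ x : X, ∀ h ∈ H, h • x = x := by
  set S := MulAction.stabilizer G x₀ with hS
  have htop : K ⊔ S = ⊤ := eq_top_iff.mpr fun g _ => by
    obtain ⟨k, hk, hkx⟩ := htrans x₀ (g • x₀)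
    have hs : k⁻¹ * g ∈ S := by rw [hS, MulAction.mem_stabilizer_iff, mul_smul, ← hkx, inv_smul_smul]
    rw [show g = k * (k⁻¹ * g) by group]
    exact mul_mem_sup hk hs
  have hidx : K.index = Nat.card H := hc.symm.index_eq_card
  have hrel : (K ⊓ S).relIndex S = K.index := by
    rw [inf_relIndex_right, ← relIndex_sup_left, htop, relIndex_top_right]
  obtain ⟨B, hBS, -, hBc⟩ := exists_complement_in (inf_le_right : K ⊓ S ≤ S)
    (le_normalizer_inf le_normalizer_of_normal le_normalizer)
    (by rw [hrel]; exact hcop.coprime_dvd_left (Subgroup.card_dvd_of_le inf_le_left))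
  rw [hrel, hidx] at hBc
  obtain ⟨k, hk, hkB⟩ := exists_conj_eq_of_coprime (N := K) (H := H) (K := B)
    le_normalizer_of_normal (hidx ▸ hcop) hsol (hc.sup_eq_top.symm ▸ le_top) hBc
  refine ⟨k⁻¹ • x₀, fun h hh => ?_⟩
  have : k * h * k⁻¹ ∈ S := hBS (by rw [hkB, mem_conjMap]; simpa [mul_assoc] using hh)
  rw [hS, MulAction.mem_stabilizer_iff, mul_smul, mul_smul] at this
  rw [← smul_left_cancel_iff k, smul_inv_smul]
  exact this

theorem fixed_point_conj [Finite G] {X : Type*} [MulAction G X] {K H : Subgroup G} [K.Normal]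
    (hcop : (Nat.card H).Coprime (Nat.card K)) (hsol : Group.IsSolvable H ∨ Group.IsSolvable K)
    (htrans : ∀ x y : X, ∃ k ∈ K, k • x = y) {x y : X} (hx : ∀ h ∈ H, h • x = x)
    (hy : ∀ h ∈ H, h • y = y) : ∃ k ∈ K ⊓ centralizer (H : Set G), k • x = y := by
  obtain ⟨k, hk, hkx⟩ := htrans x y
  set D := K ⊓ MulAction.stabilizer G x with hD
  have hHD : H ≤ normalizer (D : Set G) :=
    le_normalizer_inf le_normalizer_of_normal
      ((show H ≤ MulAction.stabilizer G x from fun h hh => hx h hh).trans le_normalizer)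
  obtain ⟨d, hd, hc⟩ := exists_fixed_in_coset hHD (coprime_of_le inf_le_left hcop)
    (isSolvable_or_of_le inf_le_left hsol) (k := k) (by
      intro h hh
      refine ⟨?_, ?_⟩
      · show k⁻¹ * h * k * h⁻¹ ∈ K
        rw [show k⁻¹ * h * k * h⁻¹ = k⁻¹ * (h * k * h⁻¹) by group]
        exact mul_mem (inv_mem hk) (Subgroup.Normal.conj_mem inferInstance k hk h)
      · show k⁻¹ * h * k * h⁻¹ ∈ MulAction.stabilizer G x
        rw [MulAction.mem_stabilizer_iff, mul_smul, mul_smul, mul_smul, hx _ (inv_mem hh), hkx,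
          hy h hh, ← hkx, inv_smul_smul])
  exact ⟨k * d, ⟨mul_mem hk hd.1, hc⟩, by rw [mul_smul, hd.2, hkx]⟩

/-- coprime action trivial modulo the Frattini subgroup is trivial -/
theorem le_centralizer_of_frattini [Finite G] {A K : Subgroup G}
    (hAK : A ≤ normalizer (K : Set G))
    (hcop : (Nat.card A).Coprime (Nat.card (frattini K)))
    (htriv : ∀ a ∈ A, ∀ k ∈ K, a * k * a⁻¹ * k⁻¹ ∈ (frattini K).map K.subtype) :
    A ≤ centralizer (K : Set G) := by
  set F := (frattini K).map K.subtype with hF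
  intro a ha
  set C := zpowers a
  have hCA : C ≤ A := zpowers_le.mpr ha
  have hKF : ∀ g ∈ normalizer (K : Set G), ∀ x ∈ F, g * x * g⁻¹ ∈ F := by
    rintro g hg - ⟨y, hy, rfl⟩
    have hc := (characteristic_iff_map_eq.mp (frattini_characteristic (G := K)))
      (K.normalizerMonoidHom ⟨g, hg⟩)
    refine ⟨K.normalizerMonoidHom ⟨g, hg⟩ y, ?_, ?_⟩
    · exact hc.le ⟨y, hy, rfl⟩
    · rfl
  have hnF : normalizer (K : Set G) ≤ normalizer (F : Set G) := fun g hg =>
    mem_normalizer_of_conj_mem (hKF g hg) (fun x hx => by simpa using hKF _ (inv_mem hg) x hx)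
  have hCF : C ≤ normalizer (F : Set G) := hCA.trans (hAK.trans hnF)
  have hCsol : Group.IsSolvable C := by infer_instance
  have hsup : (K ⊓ centralizer (C : Set G)) ⊔ F = K := by
    refine le_centralizer_sup hCF ?_ (Or.inl hCsol) (map_subtype_le _) fun k hk b hb => ?_
    · rw [hF, Subgroup.card_map_of_injective K.subtype_injective]
      exact hcop.coprime_dvd_left (Subgroup.card_dvd_of_le hCA)
    · have h := htriv b (hCA hb) k hk
      have h2 := (mem_normalizer_iff''.mp (hnF (le_normalizer hk)) _).mp h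
      simpa [mul_assoc] using h2
  have htop : (centralizer (C : Set G)).subgroupOf K = ⊤ := by
    refine frattini_nongenerating ?_
    apply Subgroup.map_injective K.subtype_injective
    rw [Subgroup.map_sup, subgroupOf_map_subtype, inf_comm, ← hF, hsup, ← MonoidHom.range_eq_map,
      range_subtype]
  rw [mem_centralizer_iff]
  intro k hk
  have := mem_centralizer_iff.mp (subgroupOf_eq_top.mp htop hk) a (mem_zpowers a)
  exact this.symm

/-- abelian coprime action: `V = C_V(A) × [V, A]` -/
theorem abelian_coprime_decomp [Finite G] {A V : Subgroup G} [IsMulCommutative V]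
    (hAV : A ≤ normalizer (V : Set G)) (hcop : (Nat.card A).Coprime (Nat.card V)) :
    (V ⊓ centralizer (A : Set G)) ⊓ ⁅V, A⁆ = ⊥ ∧
      (V ⊓ centralizer (A : Set G)) ⊔ ⁅V, A⁆ = V := by
  have hsol : Group.IsSolvable V := Group.isSolvable_of_comm fun a b => mul_comm' a b
  refine ⟨?_, by rw [sup_comm]; exact commutator_sup_centralizer hAV hcop (Or.inr hsol)⟩
  letI : CommGroup V := { mul_comm := mul_comm' }
  haveI := Fintype.ofFinite A
  let ρ : A →* MulAut V := (V.normalizerMonoidHom).comp (Subgroup.inclusion hAV)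
  let ν : V →* V := ∏ a : A, (ρ a).toMonoidHom
  have hν : ∀ v, ν v = ∏ a : A, ρ a v := fun v => MonoidHom.finsetProd_apply _ _ v
  have hkill : ∀ (a : A) (v : V), ν (ρ a v) = ν v := by
    intro a v
    rw [hν, hν]
    refine Fintype.prod_equiv (Equiv.mulRight a) _ _ fun b => ?_
    simp [map_mul, MulAut.mul_apply]
  rw [eq_bot_iff]
  rintro x ⟨⟨hxV, hxC⟩, hxc⟩
  rw [mem_bot]
  have h1 : ν ⟨x, hxV⟩ = ⟨x, hxV⟩ ^ Nat.card A := by
    rw [hν, Nat.card_eq_fintype_card, ← Finset.card_univ, ← Finset.prod_const]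
    refine Finset.prod_congr rfl fun a _ => Subtype.ext ?_
    show (a : G) * x * (a : G)⁻¹ = x
    rw [mem_centralizer_iff.mp hxC a a.2, mul_inv_cancel_right]
  have hle : ⁅V, A⁆ ≤ (ν.ker).map V.subtype := by
    rw [commutator_le]
    intro v hv a ha
    refine ⟨⟨v, hv⟩ * (ρ ⟨a, ha⟩ ⟨v, hv⟩)⁻¹, ?_, ?_⟩
    · rw [SetLike.mem_coe, MonoidHom.mem_ker, map_mul, map_inv, hkill, mul_inv_cancel]
    · show v * (a * v * a⁻¹)⁻¹ = ⁅v, a⁆
      rw [commutatorElement_def]; group
  obtain ⟨y, hy, hyx⟩ := hle hxc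
  obtain rfl : y = ⟨x, hxV⟩ := Subtype.ext hyx
  rw [SetLike.mem_coe, MonoidHom.mem_ker, h1] at hy
  have := (powCoprime hcop.symm).injective (a₁ := (⟨x, hxV⟩ : V)) (a₂ := 1)
    (by simpa [powCoprime] using hy)
  exact congrArg Subtype.val this

theorem commutator_lt_of_isNilpotent [Finite G] {T U : Subgroup G} [hT : Group.IsNilpotent T]
    (hUT : U ≤ T) (hne : U ≠ ⊥) (hUn : T ≤ normalizer (U : Set G)) : ⁅U, T⁆ < U := by
  refine lt_of_le_of_ne (commutator_le_of_le_normalizer hUn) fun h => hne ?_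
  have key : ∀ n, U ≤ T.lowerCentralSeries n := by
    intro n
    induction n with
    | zero => exact hUT
    | succ n ih =>
      rw [Subgroup.lowerCentralSeries_succ, ← h]
      exact commutator_mono ih le_rfl
  obtain ⟨n, hn⟩ := (Subgroup.isNilpotent_iff_lowerCentralSeries T).mp hT
  rw [eq_bot_iff, ← hn]
  exact key n

/-- Thompson's `P × Q` lemma -/
theorem pq_lemma [Finite G] {p : ℕ} [Fact p.Prime] {P Q U : Subgroup G} (hP : IsPGroup p P)
    (hQ : (Nat.card Q).Coprime p) (hU : IsPGroup p U) (hPQ : P ≤ centralizer (Q : Set G))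
    (hPU : P ≤ normalizer (U : Set G)) (hQU : Q ≤ normalizer (U : Set G))
    (hC : U ⊓ centralizer (P : Set G) ≤ centralizer (Q : Set G)) :
    Q ≤ centralizer (U : Set G) := by
  obtain ⟨n, hn⟩ : ∃ n, Nat.card U ≤ n := ⟨_, le_rfl⟩
  induction n generalizing U with
  | zero => exact absurd hn (by have := Nat.card_pos (α := U); omega)
  | succ n ih =>
    by_cases hb : U = ⊥
    · subst hb
      intro q _
      rw [mem_centralizer_iff]
      intro u hu
      rw [SetLike.mem_coe, mem_bot] at hu
      simp [hu]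
    set T := U ⊔ P with hT
    have hTp : IsPGroup p T := hU.to_sup_of_normal_left' hP hPU
    haveI := hTp.isNilpotent
    set W := ⁅U, P⁆ with hW
    have hlt : W < U := lt_of_le_of_lt (commutator_mono le_rfl le_sup_right)
      (commutator_lt_of_isNilpotent (T := T) le_sup_left hb (sup_le le_normalizer hPU))
    have hPn : P ≤ normalizer (W : Set G) := le_normalizer_commutator_right P U
    have hQn : Q ≤ normalizer (W : Set G) := by
      intro q hq
      rw [← conjMap_eq_self_iff, hW, conjMap, map_commutator]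
      congr 1
      · exact conjMap_eq_self (hQU hq)
      · refine conjMap_eq_self (mem_normalizer_of_conj_mem (fun x hx => ?_) fun x hx => ?_)
        · rwa [mem_centralizer_iff.mp (hPQ hx) q hq, mul_inv_cancel_right]
        · rwa [mul_assoc, ← mem_centralizer_iff.mp (hPQ hx) q hq, inv_mul_cancel_left]
    have hWcard : Nat.card W ≤ n := by
      by_contra hcon
      exact hlt.ne (Subgroup.eq_of_le_of_card_ge hlt.le (by omega))
    have hWQ : Q ≤ centralizer (W : Set G) :=
      ih (hU.to_le hlt.le) hPn hQn ((inf_le_inf_right _ hlt.le).trans hC) hWcard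
    have h1 : ⁅⁅U, P⁆, Q⁆ = ⊥ := by
      rw [commutator_comm, commutator_eq_bot_iff_le_centralizer]
      exact hWQ
    have h2 : ⁅⁅P, Q⁆, U⁆ = ⊥ := by
      rw [commutator_eq_bot_iff_le_centralizer.mpr hPQ, commutator_bot_left]
    have h3 : ⁅⁅Q, U⁆, P⁆ = ⊥ := commutator_commutator_eq_bot_of_rotate h1 h2
    have hcopU : (Nat.card Q).Coprime (Nat.card U) := by
      obtain ⟨m, hm⟩ := IsPGroup.iff_card.mp hU
      rw [hm]; exact Nat.Coprime.pow_right m hQ
    have hQUU : ⁅Q, U⁆ ≤ U := by
      rw [commutator_comm]; exact commutator_le_of_le_normalizer hQU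
    have hQUQ : ⁅Q, U⁆ ≤ centralizer (Q : Set G) :=
      (le_inf hQUU (commutator_eq_bot_iff_le_centralizer.mp h3)).trans hC
    intro q hq
    rw [mem_centralizer_iff]
    intro u hu
    have hc : u ∈ centralizer (Q : Set G) := by
      refine centralizes_of_coprime_chain (D := ⁅Q, U⁆) (coprime_of_le hQUU hcopU) ?_ (k := u) ?_
      · intro x hx
        rw [mem_centralizer_iff]
        intro y hy
        exact (mem_centralizer_iff.mp (hQUQ hy) x hx).symm
      · intro a ha
        rw [commutator_comm]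
        have : u⁻¹ * a * u * a⁻¹ = ⁅u⁻¹, a⁆ := by simp [commutatorElement_def]
        rw [this]
        exact commutator_mem_commutator (inv_mem hu) ha
    exact (mem_centralizer_iff.mp hc q hq).symm

end Cfsg.Lib.Coprime
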