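import Cfsg.Agent.Coprime.SchurZassenhaus

/-!
Coprime action, internal form: `A ≤ normalizer K`.
-/

set_option linter.style.haveILetI false
set_option linter.unusedSectionVars false

namespace Cfsg.Lib.Coprime

open Subgroup
open scoped Pointwise commutatorElement

variable {G : Type*} [Group G]

/-- if `A` centralises `D` and stabilises the coset of `k`, the commutator map is a homomorphism -/
theorem centralizes_of_coprime_chain [Finite G] {A D : Subgroup G}
    (hcop : (Nat.card A).Coprime (Nat.card D)) (hAD : A ≤ centralizer (D : Set G)) {k : G}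
    (hk : ∀ a ∈ A, k⁻¹ * a * k * a⁻¹ ∈ D) : k ∈ centralizer (A : Set G) := by
  have hcomm : ∀ a ∈ A, ∀ d ∈ D, a * d = d * a := fun a ha d hd =>
    ((mem_centralizer_iff.mp (hAD ha)) d hd).symm
  let c : A →* D :=
    { toFun := fun a => ⟨k⁻¹ * a * k * (a : G)⁻¹, hk a a.2⟩
      map_one' := by ext; simp
      map_mul' := fun a b => by
        ext
        have h2 := hcomm a a.2 _ (hk b b.2)
        simp only [Subgroup.coe_mul, mul_inv_rev]
        calc k⁻¹ * (↑a * ↑b) * k * ((↑b)⁻¹ * (↑a)⁻¹)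
            = k⁻¹ * ↑a * k * (k⁻¹ * ↑b * k * (↑b)⁻¹) * (↑a)⁻¹ := by group
          _ = k⁻¹ * ↑a * k * (↑a)⁻¹ * (↑a * (k⁻¹ * ↑b * k * (↑b)⁻¹)) * (↑a)⁻¹ := by group
          _ = _ := by rw [h2]; group }
  rw [mem_centralizer_iff]
  intro a ha
  have h1 : orderOf (c ⟨a, ha⟩) ∣ Nat.card A :=
    (orderOf_map_dvd c _).trans (orderOf_dvd_natCard _)
  have h2 : orderOf (c ⟨a, ha⟩) ∣ Nat.card D := orderOf_dvd_natCard _
  have h3 : k⁻¹ * a * k * a⁻¹ = 1 :=
    congrArg Subtype.val (orderOf_eq_one_iff.mp (Nat.eq_one_of_dvd_coprimes hcop h1 h2))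
  rw [mul_inv_eq_one, mul_assoc, inv_mul_eq_iff_eq_mul] at h3
  exact h3

/-- a coset of `D` stabilised by a coprime `A` contains an element centralised by `A` -/
theorem exists_fixed_in_coset [Finite G] {A D : Subgroup G} (hAD : A ≤ normalizer (D : Set G))
    (hcop : (Nat.card A).Coprime (Nat.card D)) (hsol : Group.IsSolvable A ∨ Group.IsSolvable D)
    {k : G} (hk : ∀ a ∈ A, k⁻¹ * a * k * a⁻¹ ∈ D) :
    ∃ d ∈ D, k * d ∈ centralizer (A : Set G) := by
  have hle : conjMap k⁻¹ A ≤ D ⊔ A := by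
    intro x hx
    rw [mem_conjMap, inv_inv] at hx
    have := mul_mem_sup (hk _ hx) hx
    simpa [mul_assoc] using this
  obtain ⟨d, hd, he⟩ := exists_conj_eq_of_coprime hAD hcop.symm hsol.symm hle (card_conjMap _ _)
  refine ⟨d, hd, ?_⟩
  have hA : conjMap (k * d) A = A := by
    rw [← conjMap_mul, ← he, conjMap_conjMap_inv]
  have hA' : conjMap (k * d)⁻¹ A = A := by
    conv_lhs => rw [← hA]
    rw [conjMap_inv_conjMap]
  rw [mem_centralizer_iff]
  intro a ha
  have h1 : (k * d)⁻¹ * a * (k * d) ∈ A := by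
    have ha' : a ∈ conjMap (k * d) A := by rw [hA]; exact ha
    exact mem_conjMap.mp ha'
  have h2 : (k * d)⁻¹ * a * (k * d) * a⁻¹ ∈ D := by
    have : (k * d)⁻¹ * a * (k * d) * a⁻¹
        = d⁻¹ * (k⁻¹ * a * k * a⁻¹) * (a * d * a⁻¹) := by group
    rw [this]
    exact mul_mem (mul_mem (inv_mem hd) (hk a ha)) ((mem_normalizer_iff.mp (hAD ha) d).mp hd)
  have h3 := eq_one_of_coprime hcop (mul_mem h1 (inv_mem ha)) h2
  rw [mul_inv_eq_one, mul_assoc, inv_mul_eq_iff_eq_mul] at h3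
  exact h3

/-- fixed points on a quotient -/
theorem exists_fixed_of_commutator_mem [Finite G] {A N : Subgroup G}
    (hAN : A ≤ normalizer (N : Set G)) (hcop : (Nat.card A).Coprime (Nat.card N))
    (hsol : Group.IsSolvable A ∨ Group.IsSolvable N) {k : G} (hkN : k ∈ normalizer (N : Set G))
    (hfix : ∀ a ∈ A, a * k * a⁻¹ * k⁻¹ ∈ N) :
    ∃ n ∈ N, k * n ∈ centralizer (A : Set G) := by
  refine exists_fixed_in_coset hAN hcop hsol fun a ha => ?_
  have h := (mem_normalizer_iff''.mp hkN _).mp (hfix a ha)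
  simpa [mul_assoc] using h

theorem le_centralizer_sup [Finite G] {A D K : Subgroup G} (hAD : A ≤ normalizer (D : Set G))
    (hcop : (Nat.card A).Coprime (Nat.card D)) (hsol : Group.IsSolvable A ∨ Group.IsSolvable D)
    (hDK : D ≤ K) (hstab : ∀ k ∈ K, ∀ a ∈ A, k⁻¹ * a * k * a⁻¹ ∈ D) :
    (K ⊓ centralizer (A : Set G)) ⊔ D = K := by
  refine le_antisymm (sup_le inf_le_left hDK) fun k hk => ?_
  obtain ⟨d, hd, hc⟩ := exists_fixed_in_coset hAD hcop hsol (hstab k hk)
  have : k = k * d * d⁻¹ := by group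
  rw [this]
  exact mul_mem_sup ⟨mul_mem hk (hDK hd), hc⟩ (inv_mem hd)

theorem isSolvable_or_of_le {A N K : Subgroup G} (h : N ≤ K)
    (hsol : Group.IsSolvable A ∨ Group.IsSolvable K) : Group.IsSolvable A ∨ Group.IsSolvable N :=
  hsol.imp_right (isSolvable_of_le h)

theorem coprime_of_le {A N K : Subgroup G} (h : N ≤ K)
    (hcop : (Nat.card A).Coprime (Nat.card K)) : (Nat.card A).Coprime (Nat.card N) :=
  hcop.coprime_dvd_right (Subgroup.card_dvd_of_le h)

theorem coprime_of_le_left {A B K : Subgroup G} (h : B ≤ A)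
    (hcop : (Nat.card A).Coprime (Nat.card K)) : (Nat.card B).Coprime (Nat.card K) :=
  hcop.coprime_dvd_left (Subgroup.card_dvd_of_le h)

/-- membership form of `[K, A] ≤ K` -/
theorem commutator_le_of_le_normalizer {A K : Subgroup G} (hAK : A ≤ normalizer (K : Set G)) :
    ⁅K, A⁆ ≤ K := by
  rw [commutator_le]
  intro k hk a ha
  rw [commutatorElement_def, mul_assoc, mul_assoc, ← mul_assoc a]
  exact mul_mem hk ((mem_normalizer_iff.mp (hAK ha) _).mp (inv_mem hk))

theorem conj_commutator_mem {A K : Subgroup G} {a x : G} (ha : a ∈ A) (hx : x ∈ ⁅K, A⁆) :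
    a * x * a⁻¹ ∈ ⁅K, A⁆ := by
  have hle : ⁅K, A⁆ ≤ Subgroup.comap (MulAut.conj a).toMonoidHom ⁅K, A⁆ := by
    rw [commutator_le]
    intro k hk b hb
    show a * ⁅k, b⁆ * a⁻¹ ∈ ⁅K, A⁆
    have h2 : a * ⁅k, b⁆ * a⁻¹ = ⁅k, a⁆⁻¹ * ⁅k, a * b⁆ := by
      simp only [commutatorElement_def]; group
    rw [h2]
    exact mul_mem (inv_mem (commutator_mem_commutator hk ha))
      (commutator_mem_commutator hk (mul_mem ha hb))
  exact hle hx

theorem mem_normalizer_of_conj_mem {N : Subgroup G} {g : G}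
    (h1 : ∀ x ∈ N, g * x * g⁻¹ ∈ N) (h2 : ∀ x ∈ N, g⁻¹ * x * g ∈ N) :
    g ∈ normalizer (N : Set G) :=
  mem_normalizer_iff.mpr fun x => ⟨h1 x, fun h => by simpa [mul_assoc] using h2 _ h⟩

theorem le_normalizer_commutator_right (A K : Subgroup G) :
    A ≤ normalizer ((⁅K, A⁆ : Subgroup G) : Set G) := fun a ha =>
  mem_normalizer_of_conj_mem (fun _ hx => conj_commutator_mem ha hx)
    (fun x hx => by simpa using conj_commutator_mem (inv_mem ha) hx)

theorem le_normalizer_commutator_left (A K : Subgroup G) :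
    K ≤ normalizer ((⁅K, A⁆ : Subgroup G) : Set G) := by
  rw [commutator_comm]
  exact le_normalizer_commutator_right K A

theorem commutatorElement_mem_of {A D : Subgroup G} {k a : G} (h : k⁻¹ * a * k * a⁻¹ ∈ D) :
    ⁅k⁻¹, a⁆ ∈ D := by
  simpa [commutatorElement_def] using h

/-- `K = [K, A] C_K(A)` -/
theorem commutator_sup_centralizer [Finite G] {A K : Subgroup G}
    (hAK : A ≤ normalizer (K : Set G)) (hcop : (Nat.card A).Coprime (Nat.card K))
    (hsol : Group.IsSolvable A ∨ Group.IsSolvable K) :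
    ⁅K, A⁆ ⊔ (K ⊓ centralizer (A : Set G)) = K := by
  rw [sup_comm]
  have hle := commutator_le_of_le_normalizer hAK
  refine le_centralizer_sup (le_normalizer_commutator_right A K) (coprime_of_le hle hcop)
    (isSolvable_or_of_le hle hsol) hle fun k hk a ha => ?_
  have : k⁻¹ * a * k * a⁻¹ = ⁅k⁻¹, a⁆ := by simp [commutatorElement_def]
  rw [this]
  exact commutator_mem_commutator (inv_mem hk) ha

/-- `[K, A, A] = [K, A]` -/
theorem commutator_commutator_eq [Finite G] {A K : Subgroup G}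
    (hAK : A ≤ normalizer (K : Set G)) (hcop : (Nat.card A).Coprime (Nat.card K))
    (hsol : Group.IsSolvable A ∨ Group.IsSolvable K) : ⁅⁅K, A⁆, A⁆ = ⁅K, A⁆ := by
  have hle : ⁅⁅K, A⁆, A⁆ ≤ ⁅K, A⁆ :=
    commutator_le_of_le_normalizer (le_normalizer_commutator_right A K)
  refine le_antisymm hle ?_
  set C := K ⊓ centralizer (A : Set G) with hC
  have hCA : ∀ c ∈ C, conjMap c A = A := fun c hc => conjMap_eq_self (by
    refine mem_normalizer_of_conj_mem (fun x hx => ?_) (fun x hx => ?_)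
    · rwa [← mem_centralizer_iff.mp hc.2 x hx, mul_inv_cancel_right]
    · rwa [mul_assoc, mem_centralizer_iff.mp hc.2 x hx, inv_mul_cancel_left])
  have hCn : C ≤ normalizer ((⁅⁅K, A⁆, A⁆ : Subgroup G) : Set G) := by
    intro c hc
    rw [← conjMap_eq_self_iff, conjMap, map_commutator, map_commutator]
    rw [show K.map (MulAut.conj c).toMonoidHom = K from conjMap_eq_self (le_normalizer hc.1),
      show A.map (MulAut.conj c).toMonoidHom = A from hCA c hc]
  rw [commutator_le]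
  intro k hk a ha
  have hk' : k ∈ ⁅K, A⁆ ⊔ C := by rwa [commutator_sup_centralizer hAK hcop hsol]
  have hCN : C ≤ normalizer ((⁅K, A⁆ : Subgroup G) : Set G) :=
    inf_le_left.trans (le_normalizer_commutator_left A K)
  obtain ⟨c, hc, m, hm, rfl⟩ := (mem_sup_of_le_normalizer' hCN).mp hk'
  have hca : a * c⁻¹ = c⁻¹ * a := mem_centralizer_iff.mp (inv_mem hc.2) a ha
  have h2 : ⁅c * m, a⁆ = c * ⁅m, a⁆ * c⁻¹ := by
    have hca' : a⁻¹ * c⁻¹ = c⁻¹ * a⁻¹ := mem_centralizer_iff.mp (inv_mem hc.2) _ (inv_mem ha)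
    calc ⁅c * m, a⁆ = c * m * a * m⁻¹ * (c⁻¹ * a⁻¹) := by
          simp only [commutatorElement_def]; group
      _ = c * m * a * m⁻¹ * (a⁻¹ * c⁻¹) := by rw [hca']
      _ = _ := by simp only [commutatorElement_def]; group
  rw [h2]
  exact (mem_normalizer_iff.mp (hCn hc) _).mp (commutator_mem_commutator hm ha)

/-- factorisation of fixed points: `C_{XY}(A) = C_X(A) C_Y(A)` -/
theorem fixed_factorisation [Finite G] {A K X Y : Subgroup G}
    (hcop : (Nat.card A).Coprime (Nat.card K)) (hsol : Group.IsSolvable A ∨ Group.IsSolvable K)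
    (hX : X ≤ K) (hXA : A ≤ normalizer (X : Set G)) (hYA : A ≤ normalizer (Y : Set G)) {x y : G}
    (hx : x ∈ X) (hy : y ∈ Y) (hxy : x * y ∈ centralizer (A : Set G)) :
    ∃ x' ∈ X ⊓ centralizer (A : Set G), ∃ y' ∈ Y ⊓ centralizer (A : Set G),
      x * y = x' * y' := by
  have hle : X ⊓ Y ≤ K := inf_le_left.trans hX
  have hstab : ∀ a ∈ A, x⁻¹ * a * x * a⁻¹ ∈ X ⊓ Y := by
    intro a ha
    have e1 : x⁻¹ * a * x * a⁻¹ = x⁻¹ * (a * x * a⁻¹) := by group
    have h1 : x⁻¹ * (a * x * a⁻¹) ∈ X :=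
      mul_mem (inv_mem hx) ((mem_normalizer_iff.mp (hXA ha) x).mp hx)
    have h2 : x⁻¹ * (a * x * a⁻¹) = y * (a * y * a⁻¹)⁻¹ := by
      have h3 : a * (x * y) * a⁻¹ = x * y := by
        rw [mem_centralizer_iff.mp hxy a ha, mul_inv_cancel_right]
      have h4 : a * x * a⁻¹ = x * y * (a * y * a⁻¹)⁻¹ := by
        conv_rhs => rw [← h3]
        group
      rw [h4]
      group
    refine ⟨?_, ?_⟩
    · show x⁻¹ * a * x * a⁻¹ ∈ X
      rw [e1]; exact h1
    · show x⁻¹ * a * x * a⁻¹ ∈ Y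
      rw [e1, h2]
      exact mul_mem hy (inv_mem ((mem_normalizer_iff.mp (hYA ha) y).mp hy))
  obtain ⟨d, hd, hc⟩ := exists_fixed_in_coset (le_normalizer_inf hXA hYA) (coprime_of_le hle hcop)
    (isSolvable_or_of_le hle hsol) hstab
  refine ⟨x * d, ⟨mul_mem hx hd.1, hc⟩, d⁻¹ * y, ⟨mul_mem (Y.inv_mem hd.2) hy, ?_⟩, by group⟩
  have : d⁻¹ * y = (x * d)⁻¹ * (x * y) := by group
  rw [this]
  exact mul_mem (Subgroup.inv_mem _ hc) hxy

end Cfsg.Lib.Coprime
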