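import Cfsg.Agent.Coprime.Sylow

/-!
Generation by centralisers of the non-identity elements of a noncyclic abelian group.
-/

set_option linter.style.haveILetI false
set_option linter.unusedSectionVars false

namespace Cfsg.Lib.Coprime

open Subgroup
open scoped Pointwise commutatorElement

variable {G : Type*} [Group G]

theorem exists_root_pair_of_not_cyclic {A : Type*} [CommGroup A] [Finite A]
    (h : ¬ IsCyclic A) : ∃ (p : ℕ) (x y : A), p.Prime ∧ orderOf x = p ∧ orderOf y = p ∧
      y ∉ zpowers x := by
  by_contra hcon
  push Not at hcon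
  apply h
  have hZ : IsZGroup A := ⟨fun p hp P => by
    haveI := Fact.mk hp
    letI : CommGroup P := { mul_comm := fun a b => Subtype.ext (mul_comm (a : A) b) }
    obtain ⟨n, hn⟩ := IsPGroup.iff_card.mp P.2
    rcases n with _ | n
    · haveI : Subsingleton P := (Nat.card_eq_one_iff_unique.mp (by simpa using hn)).1
      infer_instance
    have hroot : ∀ k, Nat.card (powMonoidHom (p ^ k) : (P : Type _) →* P).ker ≤ p ^ k := by
      intro k
      induction k with
      | zero => simp
      | succ k ih =>
        set R := (powMonoidHom (p ^ (k + 1)) : (P : Type _) →* P).ker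
        let f : R →* P := (powMonoidHom p).comp R.subtype
        have hr : f.range ≤ (powMonoidHom (p ^ k) : (P : Type _) →* P).ker := by
          rintro _ ⟨x, rfl⟩
          have hx : (x : P) ^ p ^ (k + 1) = 1 := x.2
          show ((x : P) ^ p) ^ p ^ k = 1
          rw [← pow_mul, ← pow_succ', hx]
        have hk : Nat.card f.ker ≤ p := by
          by_cases hbot : ∀ x : f.ker, x = 1
          · haveI : Subsingleton f.ker := ⟨fun a b => (hbot a).trans (hbot b).symm⟩
            calc Nat.card f.ker ≤ 1 := Finite.card_le_one_iff_subsingleton.mpr inferInstance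
              _ ≤ p := hp.one_lt.le
          push Not at hbot
          obtain ⟨x, hx⟩ := hbot
          have hord : ∀ z : f.ker, z ≠ 1 → orderOf (((z : R) : P) : A) = p := by
            intro z hz
            refine orderOf_eq_prime ?_ (by simpa using hz)
            have := z.2
            have h2 : ((z : R) : P) ^ p = 1 := this
            exact_mod_cast congrArg (fun w : P => (w : A)) h2
          let g : f.ker → zpowers ((((x : R) : P) : A)) := fun z => ⟨(((z : R) : P) : A), by
            by_cases hz : z = 1
            · subst hz; simp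
            · exact hcon p _ _ hp (hord x hx) (hord z hz)⟩
          have hg : Function.Injective g := fun a b hab => by
            have h2 : (g a : A) = (g b : A) := by rw [hab]
            exact Subtype.ext (Subtype.ext (Subtype.ext h2))
          calc Nat.card f.ker ≤ _ := Nat.card_le_card_of_injective g hg
            _ = p := by rw [Nat.card_zpowers, hord x hx]
        have hrange : Nat.card f.range ≤ p ^ k :=
          (Nat.le_of_dvd Nat.card_pos (Subgroup.card_dvd_of_le hr)).trans ih
        calc Nat.card R = Nat.card f.ker * Nat.card f.range := by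
              rw [← Subgroup.index_ker]; exact (Subgroup.card_mul_index f.ker).symm
          _ ≤ p * p ^ k := Nat.mul_le_mul hk hrange
          _ = p ^ (k + 1) := by rw [pow_succ']
    apply IsCyclic.of_exponent_eq_card
    obtain ⟨j, hj, hje⟩ := (Nat.dvd_prime_pow hp).mp (hn ▸ Group.exponent_dvd_nat_card (G := P))
    rw [hje]
    show p ^ j = Nat.card (P : Subgroup A)
    rw [hn]
    congr 1
    by_contra hne
    have hall : (powMonoidHom (p ^ n) : (P : Type _) →* P).ker = ⊤ := by
      rw [eq_top_iff]
      intro x _
      show x ^ p ^ n = 1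
      exact Monoid.exponent_dvd_iff_forall_pow_eq_one.mp
        (hje ▸ pow_dvd_pow p (by omega)) x
    have := hroot n
    rw [hall, Subgroup.card_top, hn] at this
    exact absurd this (not_le.mpr (Nat.pow_lt_pow_right hp.one_lt (by omega)))⟩
  infer_instance

theorem prod_range_shift {V : Type*} [CommGroup V] {p : ℕ} (hp : 0 < p) {x : MulAut V}
    (hx : x ^ p = 1) (v : V) :
    x (∏ i ∈ Finset.range p, (x ^ i) v) = ∏ i ∈ Finset.range p, (x ^ i) v := by
  obtain ⟨m, rfl⟩ : ∃ m, p = m + 1 := ⟨p - 1, by omega⟩
  rw [map_prod]
  have : ∀ i, x ((x ^ i) v) = (x ^ (i + 1)) v := fun i => by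
    rw [pow_succ', MulAut.mul_apply]
  simp only [this]
  rw [Finset.prod_range_succ, Finset.prod_range_succ' (fun i => (x ^ i) v), hx, pow_zero]

/-- in an abelian group, a subgroup containing all elements fixed by one of `x yʲ`, `y` contains
all `p`-th powers -/
theorem pow_mem_of_fixed {V : Type*} [CommGroup V] {p : ℕ} (hp : p.Prime) {x y : MulAut V}
    (hx : x ^ p = 1) (hy : y ^ p = 1) (hxy : Commute x y) {S : Subgroup V}
    (hS1 : ∀ v, y v = v → v ∈ S) (hS2 : ∀ j < p, ∀ v, (x * y ^ j) v = v → v ∈ S) (v : V) :
    v ^ p ∈ S := by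
  have hp0 := hp.pos
  set f : ℕ → ℕ → V := fun i j => (x ^ i) ((y ^ j) v) with hf
  have hN : ∀ j, (∏ i ∈ Finset.range p, ((x * y ^ j) ^ i) v)
      = ∏ i ∈ Finset.range p, f i (j * i) := by
    intro j
    refine Finset.prod_congr rfl fun i _ => ?_
    rw [(hxy.pow_right j).mul_pow, MulAut.mul_apply, ← pow_mul]
  have hA : (∏ j ∈ Finset.range p, ∏ i ∈ Finset.range p, f i (j * i)) ∈ S := by
    refine prod_mem fun j hj => ?_
    rw [← hN]
    exact hS2 j (Finset.mem_range.mp hj) _ (prod_range_shift hp0 (by
      rw [(hxy.pow_right j).mul_pow, hx, ← pow_mul, mul_comm, pow_mul, hy, one_pow, one_mul]) v)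
  have hB : ∀ i, (∏ j ∈ Finset.range p, f i j) ∈ S := by
    intro i
    refine hS1 _ ?_
    rw [hf, map_prod]
    have : ∀ j, y ((x ^ i) ((y ^ j) v)) = (x ^ i) (y ((y ^ j) v)) := fun j => by
      rw [← MulAut.mul_apply, ← (hxy.pow_left i).eq, MulAut.mul_apply]
    simp only [this]
    rw [← map_prod, ← map_prod, ← map_prod, prod_range_shift hp0 hy]
  have key : ∀ i ∈ (Finset.range p).erase 0,
      (∏ j ∈ Finset.range p, f i (j * i)) = ∏ j ∈ Finset.range p, f i j := by
    intro i hi
    rw [Finset.mem_erase, Finset.mem_range] at hi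
    have hcop : p.Coprime i :=
      hp.coprime_iff_not_dvd.mpr fun h =>
        absurd (Nat.le_of_dvd (by omega) h) (by omega)
    have hmod : ∀ j, f i (j * i) = f i (j * i % p) := by
      intro j
      rw [hf]
      simp only
      rw [← pow_mod_orderOf y (j * i), ← pow_mod_orderOf y (j * i % p),
        Nat.mod_mod_of_dvd _ (orderOf_dvd_of_pow_eq_one hy)]
    simp only [hmod]
    refine Finset.prod_nbij (fun j => j * i % p) (fun j _ => ?_) (fun a ha b hb hab => ?_) ?_
      (fun j _ => rfl)
    · exact Finset.mem_range.mpr (Nat.mod_lt _ hp0)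
    · rw [Finset.mem_coe, Finset.mem_range] at ha hb
      have h : a * i ≡ b * i [MOD p] := hab
      exact Nat.ModEq.eq_of_lt_of_lt (Nat.ModEq.cancel_right_of_coprime hcop h) ha hb
    · intro b hb
      have hinj : Set.InjOn (fun j => j * i % p) (Finset.range p : Set ℕ) := by
        intro a ha c hc hac
        rw [Finset.mem_coe, Finset.mem_range] at ha hc
        have h : a * i ≡ c * i [MOD p] := hac
        exact Nat.ModEq.eq_of_lt_of_lt (Nat.ModEq.cancel_right_of_coprime hcop h) ha hc
      exact Finset.surjOn_of_injOn_of_card_le _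
        (fun j _ => Finset.mem_range.mpr (Nat.mod_lt _ hp0)) hinj le_rfl hb
  rw [Finset.prod_comm, ← Finset.mul_prod_erase _ _ (Finset.mem_range.mpr hp0)] at hA
  rw [Finset.prod_congr rfl key] at hA
  have h0 : (∏ j ∈ Finset.range p, f 0 (j * 0)) = v ^ p := by simp [hf]
  rw [h0] at hA
  exact (mul_mem_cancel_right (prod_mem fun i _ => hB i)).mp hA

/-- the automorphism of the abelianisation of `Q` induced by conjugation -/
noncomputable def abAut {E Q : Subgroup G} (h : E ≤ normalizer (Q : Set G)) :
    E →* MulAut (Abelianization Q) where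
  toFun e := (Q.normalizerMonoidHom (Subgroup.inclusion h e)).abelianizationCongr
  map_one' := by
    rw [map_one, map_one]
    ext v
    induction v using QuotientGroup.induction_on with
    | H q => rfl
  map_mul' a b := by
    ext v
    induction v using QuotientGroup.induction_on with
    | H q => simp only [map_mul]; rfl

/-- the join of the centralisers in `K` of the non-identity elements of `A` -/
abbrev centralizerJoin (A K : Subgroup G) : Subgroup G :=
  ⨆ a ∈ {a : G | a ∈ A ∧ a ≠ 1}, K ⊓ centralizer {a}

theorem inf_centralizer_singleton_le_join {A K : Subgroup G} {a : G} (ha : a ∈ A) (ha1 : a ≠ 1) :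
    K ⊓ centralizer {a} ≤ centralizerJoin A K :=
  le_iSup₂_of_le a ⟨ha, ha1⟩ le_rfl

theorem centralizer_zpowers (a : G) : centralizer (zpowers a : Set G) = centralizer {a} := by
  rw [zpowers_eq_closure, centralizer_closure]

theorem commutator_le_of_normal_coatom {M : Subgroup G} [hn : M.Normal] (hM : IsCoatom M) :
    commutator G ≤ M := by
  obtain ⟨x, -, hx⟩ := SetLike.exists_of_lt (lt_top_iff_ne_top.mpr hM.1)
  refine hn.commutator_le_of_self_sup_commutative_eq_top (H := zpowers x) ?_ inferInstance
  refine hM.2 _ (lt_of_le_of_ne le_sup_left fun h => hx ?_)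
  rw [h]
  exact mem_sup_right (mem_zpowers x)

theorem join_qgroup [Finite G] {A Q : Subgroup G} [IsMulCommutative A] (hA : ¬ IsCyclic A)
    (hAQ : A ≤ normalizer (Q : Set G)) (hcop : (Nat.card A).Coprime (Nat.card Q)) {q : ℕ}
    [Fact q.Prime] (hQ : IsPGroup q Q) : Q ≤ centralizerJoin A Q := by
  letI : CommGroup A := { mul_comm := mul_comm' }
  obtain ⟨p, x, y, hp, hx, hy, hxy⟩ := exists_root_pair_of_not_cyclic hA
  set S := (centralizerJoin A Q).subgroupOf Q with hS
  set D : Subgroup G := (commutator Q).map Q.subtype with hD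
  -- fixed points of an element lift
  have lift : ∀ e : A, e ≠ 1 → ∀ v : Abelianization Q, abAut hAQ e v = v →
      v ∈ S.map Abelianization.of := by
    intro e he v hv
    induction v using QuotientGroup.induction_on with
    | H k =>
      have hE : zpowers (e : G) ≤ A := zpowers_le.mpr e.2
      have hed : ∀ n ∈ zpowers (e : G), (n * k * n⁻¹ * (k : G)⁻¹) ∈ D := by
        intro n hn
        obtain ⟨z, rfl⟩ := mem_zpowers_iff.mp hn
        have hfix : abAut hAQ (e ^ z) (Abelianization.of k) = Abelianization.of k := by
          have : e ^ z ∈ (MulAction.stabilizer (MulAut (Abelianization Q))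
              (Abelianization.of k)).comap (abAut hAQ) := zpow_mem (by exact hv) z
          exact this
        have h2 : Abelianization.of (Q.normalizerMonoidHom (Subgroup.inclusion hAQ (e ^ z)) k)
            = Abelianization.of k := hfix
        have h3 : Q.normalizerMonoidHom (Subgroup.inclusion hAQ (e ^ z)) k * k⁻¹
            ∈ commutator Q := by
          rw [← Abelianization.ker_of, MonoidHom.mem_ker, map_mul, map_inv, h2, mul_inv_cancel]
        refine ⟨_, h3, ?_⟩
        show ((e ^ z : A) : G) * k * ((e ^ z : A) : G)⁻¹ * (k : G)⁻¹ = _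
        simp
      have hDQ : Q ≤ normalizer (D : Set G) := by
        rw [hD]
        intro g hg
        rw [← conjMap_eq_self_iff, map_subtype_commutator, conjMap, map_commutator,
          show Q.map (MulAut.conj g).toMonoidHom = Q from conjMap_eq_self (le_normalizer hg)]
      have hAD : A ≤ normalizer (D : Set G) := by
        rw [hD]
        intro g hg
        rw [← conjMap_eq_self_iff, map_subtype_commutator, conjMap, map_commutator,
          show Q.map (MulAut.conj g).toMonoidHom = Q from conjMap_eq_self (hAQ hg)]
      obtain ⟨n, hn, hc⟩ := exists_fixed_of_commutator_mem (hE.trans hAD)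
        ((coprime_of_le_left hE hcop).coprime_dvd_right
          (Subgroup.card_dvd_of_le (map_subtype_le _)))
        (Or.inl inferInstance) (hDQ k.2) hed
      obtain ⟨m, hm, rfl⟩ := hn
      refine ⟨k * m, ?_, ?_⟩
      · rw [SetLike.mem_coe, hS, mem_subgroupOf]
        refine inf_centralizer_singleton_le_join e.2 (by simpa using he) ⟨(k * m).2, ?_⟩
        rw [← centralizer_zpowers]
        exact hc
      · have h1 : Abelianization.of m = 1 := by
          rw [← MonoidHom.mem_ker, Abelianization.ker_of]; exact hm
        rw [map_mul, h1, mul_one]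
        rfl
  haveI := hQ.isNilpotent
  by_contra hcon
  have hne : S ≠ ⊤ := fun h => hcon (subgroupOf_eq_top.mp h)
  obtain ⟨M, hM, hSM⟩ := (eq_top_or_exists_le_coatom S).resolve_left hne
  haveI := (Group.normalizerCondition_of_isNilpotent (G := Q)).normal_of_coatom _ hM
  have hpx : x ≠ 1 := fun h => hp.one_lt.ne (by rw [← hx, h, orderOf_one])
  have hy1 : y ≠ 1 := fun h => hp.one_lt.ne (by rw [← hy, h, orderOf_one])
  have hqne : ¬ p ∣ Nat.card Q := fun h => hp.not_dvd_one
    (hcop ▸ Nat.dvd_gcd (hx ▸ orderOf_dvd_natCard x) h)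
  have hfull : S.map Abelianization.of = ⊤ := by
    rw [eq_top_iff]
    intro v _
    have hcomm : Commute (abAut hAQ x) (abAut hAQ y) := by
      show _ * _ = _ * _
      rw [← map_mul, ← map_mul, mul_comm]
    have hpow := pow_mem_of_fixed hp (x := abAut hAQ x) (y := abAut hAQ y)
      (by rw [← map_pow, ← hx, pow_orderOf_eq_one, map_one])
      (by rw [← map_pow, ← hy, pow_orderOf_eq_one, map_one]) hcomm
      (fun w hw => lift y hy1 w hw)
      (fun j hj w hw => lift (x * y ^ j) (by
        intro h
        rcases Nat.eq_zero_or_pos j with rfl | hjpos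
        · exact hpx (by simpa using h)
        apply hxy
        have hx' : x ∈ zpowers y := by
          rw [eq_inv_of_mul_eq_one_left h]
          exact inv_mem (pow_mem (mem_zpowers y) j)
        have he : zpowers x = zpowers y :=
          Subgroup.eq_of_le_of_card_ge (zpowers_le.mpr hx')
            (by rw [Nat.card_zpowers, Nat.card_zpowers, hx, hy])
        rw [he]; exact mem_zpowers y) w (by rw [map_mul, map_pow]; exact hw)) v
    have hpc : (Nat.card (Abelianization Q)).Coprime p :=
      ((hp.coprime_iff_not_dvd.mpr hqne).symm).coprime_dvd_left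
        (Subgroup.card_quotient_dvd_card _)
    have hv : v ∈ zpowers (v ^ p) :=
      mem_zpowers_pow_iff.mpr (hpc.coprime_dvd_left (orderOf_dvd_natCard v)).symm
    exact zpowers_le.mpr hpow hv
  apply hM.1
  have : commutator Q ≤ M := by
    haveI : M.Normal := inferInstance
    exact commutator_le_of_normal_coatom hM
  rw [eq_top_iff, ← (comap_top Abelianization.of), ← hfull, comap_map_eq, Abelianization.ker_of]
  exact sup_le hSM this

/-- a finite group is the join of a family of subgroups containing a Sylow subgroup for each prime -/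
theorem le_of_forall_sylow [Finite G] {K S : Subgroup G}
    (h : ∀ q : ℕ, q.Prime → ∃ P : Sylow q K, (P : Subgroup K).map K.subtype ≤ S) : K ≤ S := by
  rw [← inf_eq_right]
  refine Subgroup.eq_of_le_of_card_ge inf_le_right (Nat.le_of_dvd Nat.card_pos ?_)
  rw [Nat.dvd_iff_prime_pow_dvd_dvd]
  intro q k hq hk
  haveI := Fact.mk hq
  obtain ⟨P, hP⟩ := h q hq
  have h2 := Subgroup.card_dvd_of_le (le_inf hP (map_subtype_le (P : Subgroup K)))
  rw [Subgroup.card_map_of_injective K.subtype_injective] at h2
  exact (P.pow_dvd_card_of_pow_dvd_card hk).trans h2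

theorem centralizerJoin_le (A K : Subgroup G) : centralizerJoin A K ≤ K :=
  iSup₂_le fun _ _ => inf_le_left

theorem centralizerJoin_mono {A K L : Subgroup G} (h : K ≤ L) :
    centralizerJoin A K ≤ centralizerJoin A L :=
  iSup₂_mono fun _ _ => inf_le_inf_right _ h

/-- generation by centralisers -/
theorem centralizerJoin_eq [Finite G] {A K : Subgroup G} [IsMulCommutative A] (hA : ¬ IsCyclic A)
    (hAK : A ≤ normalizer (K : Set G)) (hcop : (Nat.card A).Coprime (Nat.card K)) :
    centralizerJoin A K = K := by
  refine le_antisymm (centralizerJoin_le A K) (le_of_forall_sylow fun q hq => ?_)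
  haveI := Fact.mk hq
  have hsol : Group.IsSolvable A := Group.isSolvable_of_comm fun a b => mul_comm' a b
  obtain ⟨P, hP⟩ := exists_invariant_sylow hAK hcop (Or.inl hsol) q
  exact ⟨P, (join_qgroup hA hP (coprime_of_le (map_subtype_le _) hcop) (P.2.map _)).trans
    (centralizerJoin_mono (map_subtype_le _))⟩

end Cfsg.Lib.Coprime
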