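import Cfsg.Agent.Coprime.Basic

/-!
Schur-Zassenhaus: complements of a coprime normal subgroup are conjugate
(one of the two solvable).
-/

set_option linter.style.haveILetI false

namespace Cfsg.Lib.Coprime

open Subgroup
open scoped Pointwise commutatorElement

universe u

variable {G : Type u} [Group G]

theorem isSolvable_subgroupOf {H K : Subgroup G} (hH : Group.IsSolvable H) (hle : H ≤ K) :
    Group.IsSolvable (H.subgroupOf K) :=
  haveI := hH
  Group.isSolvable_of_surjective
    (f := (subgroupOfEquivOfLe hle).symm.toMonoidHom) (subgroupOfEquivOfLe hle).symm.surjective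

theorem subgroup_op_smul_self (H : Subgroup G) {h : G} (hh : h ∈ H) :
    MulOpposite.op h • (H : Set G) = H := by
  ext x
  rw [Set.mem_smul_set]
  constructor
  · rintro ⟨y, hy, rfl⟩
    exact H.mul_mem hy hh
  · intro hx
    exact ⟨x * h⁻¹, H.mul_mem hx (H.inv_mem hh), by simp⟩

theorem conj_complement_abelian [Finite G] {N : Subgroup G} [N.Normal] [IsMulCommutative N]
    (hcop : (Nat.card N).Coprime N.index) {H K : Subgroup G} (hH : IsComplement' N H)
    (hK : IsComplement' N K) : ∃ n ∈ N, K = conjMap n H := by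
  have key : ∀ L : Subgroup G, IsComplement' N L →
      ∃ α : N.QuotientDiff, MulAction.stabilizer G α = L := by
    intro L hL
    let a : N.LeftTransversal := ⟨(L : Set G), hL.symm⟩
    let α : N.QuotientDiff := Quotient.mk'' a
    refine ⟨α, (eq_of_le_of_card_eq ?_ ?_).symm⟩
    · intro l hl
      rw [MulAction.mem_stabilizer_iff]
      show Quotient.mk'' (MulOpposite.op l⁻¹ • a) = Quotient.mk'' a
      congr 1
      exact Subtype.ext (subgroup_op_smul_self L (L.inv_mem hl))
    · rw [← hL.symm.index_eq_card,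
        ← (isComplement'_stabilizer_of_coprime (α := α) hcop).symm.index_eq_card]
  obtain ⟨α, hα⟩ := key H hH
  obtain ⟨β, hβ⟩ := key K hK
  obtain ⟨n, hn⟩ := exists_smul_eq hcop α β
  refine ⟨n, n.2, ?_⟩
  rw [← hα, ← hβ, ← hn]
  exact MulAction.stabilizer_smul_eq_stabilizer_map_conj (n : G) α

theorem complement_map_mk' [Finite G] {N M : Subgroup G} [N.Normal] [M.Normal] (hMN : M ≤ N)
    {H : Subgroup G} (hH : IsComplement' N H) (hcop : (Nat.card N).Coprime N.index) :
    (Nat.card (N.map (QuotientGroup.mk' M))).Coprime (N.map (QuotientGroup.mk' M)).index ∧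
      IsComplement' (N.map (QuotientGroup.mk' M)) (H.map (QuotientGroup.mk' M)) := by
  set f := QuotientGroup.mk' M with hf
  have hs : Function.Surjective f := QuotientGroup.mk'_surjective M
  have hidx : (N.map f).index = N.index :=
    N.index_map_eq hs (by rw [hf, QuotientGroup.ker_mk']; exact hMN)
  have hd : Nat.card (N.map f) ∣ Nat.card N := Subgroup.card_map_dvd _ f
  have hc : (Nat.card (N.map f)).Coprime (N.map f).index := by
    rw [hidx]; exact hcop.coprime_dvd_left hd
  refine ⟨hc, ?_⟩
  have hHi : Nat.card H = N.index := hH.symm.index_eq_card.symm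
  have hdH : Nat.card (H.map f) ∣ N.index := hHi ▸ Subgroup.card_map_dvd _ f
  have hsup : N.map f ⊔ H.map f = ⊤ := by
    rw [← Subgroup.map_sup, hH.sup_eq_top, Subgroup.map_top_of_surjective f hs]
  apply isComplement'_of_disjoint_and_mul_eq_univ
  · exact disjoint_of_coprime_natCard ((hcop.coprime_dvd_left hd).coprime_dvd_right hdH)
  · rw [← Subgroup.normal_mul, hsup, Subgroup.coe_top]

theorem conj_complement_aux (n : ℕ) : ∀ (G : Type u) [Group G] [Finite G],
    Nat.card G ≤ n → ∀ (N : Subgroup G) [N.Normal], Group.IsSolvable N →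
      (Nat.card N).Coprime N.index → ∀ H K : Subgroup G, IsComplement' N H →
        IsComplement' N K → ∃ x ∈ N, K = conjMap x H := by
  induction n with
  | zero => intro G _ _ hc; exact absurd hc (by have := Nat.card_pos (α := G); omega)
  | succ n ih =>
    intro G _ _ hcard N _ hsol hcop H K hH hK
    by_cases hab : ⁅N, N⁆ = ⊥
    · haveI : IsMulCommutative N := by
        rw [commutator_eq_bot_iff_le_centralizer] at hab
        exact ⟨⟨fun a b => Subtype.ext ((mem_centralizer_iff.mp (hab b.2)) a a.2)⟩⟩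
      exact conj_complement_abelian hcop hH hK
    set M := ⁅N, N⁆ with hM
    have hMN : M ≤ N := commutator_le_self N
    set f := QuotientGroup.mk' M with hf
    have hs : Function.Surjective f := QuotientGroup.mk'_surjective M
    have hlt : Nat.card (G ⧸ M) ≤ n := by
      have h1 : Nat.card G = Nat.card (G ⧸ M) * Nat.card M :=
        Subgroup.card_eq_card_quotient_mul_card_subgroup M
      have h2 : 1 < Nat.card M := (M.one_lt_card_iff_ne_bot).mpr hab
      have h3 : 0 < Nat.card (G ⧸ M) := Nat.card_pos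
      nlinarith
    obtain ⟨hc', hH'⟩ := complement_map_mk' hMN hH hcop
    obtain ⟨-, hK'⟩ := complement_map_mk' hMN hK hcop
    obtain ⟨x', hx', hKx⟩ := ih (G ⧸ M) hlt (N.map f) (isSolvable_map hsol f) hc' _ _ hH' hK'
    obtain ⟨x, hx, rfl⟩ := hx'
    set H₁ := conjMap x H with hH₁
    have himg : H₁.map f = K.map f := by rw [hH₁, map_conjMap, hKx]
    -- work inside `L = M ⊔ K`, which contains `H₁`
    set L := M ⊔ K with hL
    have hKL : K ≤ L := le_sup_right
    have hH₁L : H₁ ≤ L := by
      have h := Subgroup.comap_map_eq f K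
      rw [hf, QuotientGroup.ker_mk', ← hf, ← himg] at h
      rw [hL, sup_comm, ← h]
      exact Subgroup.le_comap_map f H₁
    have hHK : Nat.card H₁ = Nat.card K := by
      rw [hH₁, card_conjMap, ← hH.symm.index_eq_card, ← hK.symm.index_eq_card]
    have hKi : Nat.card K = N.index := hK.symm.index_eq_card.symm
    have hMcop : (Nat.card M).Coprime (Nat.card K) := by
      rw [hKi]; exact hcop.coprime_dvd_left (Subgroup.card_dvd_of_le hMN)
    have hcL : Nat.card L = Nat.card M * Nat.card K :=
      card_sup_coprime le_normalizer_of_normal hMcop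
    haveI : (M.subgroupOf L).Normal := inferInstance
    have hLn : Nat.card L ≤ n := by
      by_contra hcon
      have hGL : Nat.card G ≤ Nat.card L := by omega
      rw [← K.index_mul_card, hcL, hK.index_eq_card] at hGL
      have h2 : Nat.card N ≤ Nat.card M := Nat.le_of_mul_le_mul_right hGL Nat.card_pos
      have h3 : M = N := eq_of_le_of_card_eq hMN
        (le_antisymm (Nat.le_of_dvd Nat.card_pos (Subgroup.card_dvd_of_le hMN)) h2)
      have hb : (⊥ : Subgroup G) ≠ N := fun h => hab (by rw [h3, ← h])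
      haveI := hsol
      have := Group.IsSolvable.commutator_lt_of_ne_bot (H := (⊤ : Subgroup N)) (by
        intro h
        apply hb
        have := congrArg (Subgroup.map N.subtype) h
        rwa [← MonoidHom.range_eq_map, Subgroup.range_subtype, Subgroup.map_bot, eq_comm] at this)
      apply ne_of_lt this
      apply Subgroup.map_injective N.subtype_injective
      rw [map_commutator, ← MonoidHom.range_eq_map, Subgroup.range_subtype]
      exact h3
    have hcMs : Nat.card (M.subgroupOf L) = Nat.card M :=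
      Nat.card_congr (subgroupOfEquivOfLe le_sup_left).toEquiv
    have hcomp : ∀ J : Subgroup G, J ≤ L → Nat.card J = Nat.card K →
        IsComplement' (M.subgroupOf L) (J.subgroupOf L) := by
      intro J hJ hJc
      apply isComplement'_of_coprime
      · rw [hcMs, Nat.card_congr (subgroupOfEquivOfLe hJ).toEquiv, hJc, hcL]
      · rw [hcMs, Nat.card_congr (subgroupOfEquivOfLe hJ).toEquiv, hJc]
        exact hMcop
    have hcopL : (Nat.card (M.subgroupOf L)).Coprime (M.subgroupOf L).index := by
      rw [(hcomp K hKL rfl).symm.index_eq_card, hcMs,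
        Nat.card_congr (subgroupOfEquivOfLe hKL).toEquiv]
      exact hMcop
    have hsM : Group.IsSolvable (M.subgroupOf L) :=
      isSolvable_subgroupOf (isSolvable_of_le hMN hsol) le_sup_left
    obtain ⟨y, hy, hyK⟩ := ih L hLn (M.subgroupOf L) hsM hcopL _ _
      (hcomp H₁ hH₁L hHK) (hcomp K hKL rfl)
    refine ⟨(y : G) * x, mul_mem (hMN hy) hx, ?_⟩
    have := congrArg (Subgroup.map L.subtype) hyK
    rw [map_conjMap, map_subgroupOf_eq_of_le hKL, map_subgroupOf_eq_of_le hH₁L] at this
    rw [this, hH₁, conjMap_mul]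
    rfl

theorem exists_conj_eq_of_solvable_left [Finite G] {N H K : Subgroup G}
    (hH : H ≤ normalizer (N : Set G)) (hcop : (Nat.card N).Coprime (Nat.card H))
    (hsol : Group.IsSolvable N) (hK : K ≤ N ⊔ H) (hcard : Nat.card K = Nat.card H) :
    ∃ x ∈ N, K = conjMap x H := by
  set L := N ⊔ H with hL
  haveI : (N.subgroupOf L).Normal := by
    rw [normal_subgroupOf_iff_le_normalizer le_sup_left]
    exact sup_le le_normalizer hH
  have hcL : Nat.card L = Nat.card N * Nat.card H := card_sup_coprime hH hcop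
  have hcN : Nat.card (N.subgroupOf L) = Nat.card N :=
    Nat.card_congr (subgroupOfEquivOfLe le_sup_left).toEquiv
  have hcomp : ∀ J : Subgroup G, J ≤ L → Nat.card J = Nat.card H →
      IsComplement' (N.subgroupOf L) (J.subgroupOf L) := by
    intro J hJ hJc
    apply isComplement'_of_coprime
    · rw [hcN, Nat.card_congr (subgroupOfEquivOfLe hJ).toEquiv, hJc, hcL]
    · rw [hcN, Nat.card_congr (subgroupOfEquivOfLe hJ).toEquiv, hJc]
      exact hcop
  have hcop' : (Nat.card (N.subgroupOf L)).Coprime (N.subgroupOf L).index := by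
    rw [(hcomp H le_sup_right rfl).symm.index_eq_card, hcN,
      Nat.card_congr (subgroupOfEquivOfLe (le_sup_right : H ≤ L)).toEquiv]
    exact hcop
  have hsN : Group.IsSolvable (N.subgroupOf L) := isSolvable_subgroupOf hsol le_sup_left
  obtain ⟨y, hy, hyK⟩ := conj_complement_aux _ L le_rfl _ hsN hcop' _ _
    (hcomp H le_sup_right rfl) (hcomp K hK hcard)
  refine ⟨(y : G), hy, ?_⟩
  have := congrArg (Subgroup.map L.subtype) hyK
  rw [map_conjMap, map_subgroupOf_eq_of_le hK, map_subgroupOf_eq_of_le le_sup_right] at this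
  exact this

theorem normal_of_commutator_le {M : Subgroup G} (h : commutator G ≤ M) : M.Normal := by
  refine ⟨fun m hm g => ?_⟩
  have h1 : ⁅g, m⁆ ∈ commutator G := commutator_mem_commutator (mem_top g) (mem_top m)
  have h2 := M.mul_mem (h h1) hm
  rwa [commutatorElement_def, inv_mul_cancel_right] at h2

/-- a nontrivial finite solvable group has a normal subgroup of prime index -/
theorem exists_normal_prime_index [Finite G] [Group.IsSolvable G] [Nontrivial G] :
    ∃ M : Subgroup G, M.Normal ∧ M.index.Prime := by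
  obtain ⟨M, hM, hle⟩ := (eq_top_or_exists_le_coatom (commutator G)).resolve_left
    (Group.IsSolvable.commutator_lt_top_of_nontrivial G).ne
  haveI : M.Normal := normal_of_commutator_le hle
  refine ⟨M, inferInstance, ?_⟩
  have hne : Nat.card (G ⧸ M) ≠ 1 := by
    rw [← index_eq_card, ne_eq, index_eq_one]; exact hM.1
  set p := (Nat.card (G ⧸ M)).minFac with hp
  haveI : Fact p.Prime := ⟨Nat.minFac_prime hne⟩
  obtain ⟨x, hx⟩ := exists_prime_orderOf_dvd_card' p (Nat.minFac_dvd (Nat.card (G ⧸ M)))
  have hcomap : (zpowers x).comap (QuotientGroup.mk' M) = ⊤ := by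
    refine hM.2 _ (lt_of_le_of_ne ?_ ?_)
    · intro m hm
      rw [mem_comap, show QuotientGroup.mk' M m = 1 from (QuotientGroup.eq_one_iff m).mpr hm]
      exact one_mem _
    · intro h
      have h2 := congrArg (Subgroup.map (QuotientGroup.mk' M)) h
      rw [map_comap_eq_self_of_surjective (QuotientGroup.mk'_surjective M),
        QuotientGroup.map_mk'_self, eq_comm, zpowers_eq_bot] at h2
      rw [h2, orderOf_one] at hx
      exact (Fact.out : p.Prime).one_lt.ne hx
  have htop : zpowers x = ⊤ := by
    rw [← map_comap_eq_self_of_surjective (QuotientGroup.mk'_surjective M) (zpowers x), hcomap,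
      Subgroup.map_top_of_surjective _ (QuotientGroup.mk'_surjective M)]
  rw [index_eq_card, ← Subgroup.card_top, ← htop, Nat.card_zpowers, hx]
  exact Fact.out

theorem sup_sylow_eq_of_prime_relIndex [Finite G] {H H₁ : Subgroup G} (hle : H₁ ≤ H) {q : ℕ}
    (hq : q.Prime) (hidx : H₁.relIndex H = q) {Q : Subgroup G} (hQ : Q ≤ H)
    (hQc : q ^ (Nat.card H).factorization q ∣ Nat.card Q) : H₁ ⊔ Q = H := by
  have hle' : H₁ ⊔ Q ≤ H := sup_le hle hQ
  have hd : H₁.relIndex (H₁ ⊔ Q) * (H₁ ⊔ Q).relIndex H = q := by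
    rw [relIndex_mul_relIndex _ _ _ le_sup_left hle', hidx]
  rcases (Nat.dvd_prime hq).mp ⟨_, hd.symm⟩ with h1 | h1
  · exfalso
    have hQ1 : Q ≤ H₁ := le_sup_right.trans (relIndex_eq_one.mp h1)
    have hc : Nat.card H₁ * q = Nat.card H := by
      rw [← hidx, ← relIndex_bot_left, relIndex_mul_relIndex _ _ _ bot_le hle, relIndex_bot_left]
    have h2 : q ^ ((Nat.card H).factorization q) ∣ Nat.card H₁ :=
      dvd_trans hQc (Subgroup.card_dvd_of_le hQ1)
    have h3 : q ^ ((Nat.card H).factorization q + 1) ∣ Nat.card H := by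
      rw [pow_succ]
      exact hc ▸ Nat.mul_dvd_mul_right h2 q
    exact Nat.pow_succ_factorization_not_dvd Nat.card_pos.ne' hq h3
  · refine le_antisymm hle' (relIndex_eq_one.mp ?_)
    exact (mul_eq_left₀ hq.ne_zero).mp (by rwa [h1] at hd)

theorem exists_conj_eq_right_aux [Finite G] (n : ℕ) : ∀ {N H K : Subgroup G}, Nat.card H ≤ n →
    H ≤ normalizer (N : Set G) → (Nat.card N).Coprime (Nat.card H) → Group.IsSolvable H →
      K ≤ N ⊔ H → Nat.card K = Nat.card H → ∃ x ∈ N, K = conjMap x H := by
  induction n with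
  | zero => intro N H K hn; exact absurd hn (by have := Nat.card_pos (α := H); omega)
  | succ n ih =>
    intro N H K hn hHN hcop hsol hK hcard
    by_cases hbot : H = ⊥
    · refine ⟨1, one_mem N, ?_⟩
      rw [conjMap_one, hbot]
      rw [hbot, Subgroup.card_bot] at hcard
      exact Subgroup.card_eq_one.mp hcard
    haveI : Nontrivial H := (Subgroup.nontrivial_iff_ne_bot H).mpr hbot
    haveI := hsol
    obtain ⟨H₁', hH₁n', hprime⟩ := exists_normal_prime_index (G := H)
    set q := H₁'.index with hqdef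
    set H₁ := H₁'.map H.subtype with hH₁
    have hH₁H : H₁ ≤ H := map_subtype_le _
    have hidx : H₁.relIndex H = q := by
      rw [relIndex, hH₁, subgroupOf, comap_map_eq_self_of_injective H.subtype_injective]
    have hHH₁ : H ≤ normalizer (H₁ : Set G) := by
      haveI : (H₁.subgroupOf H).Normal := by
        rw [hH₁, subgroupOf, comap_map_eq_self_of_injective H.subtype_injective]; exact hH₁n'
      exact le_normalizer_of_normal_subgroupOf hH₁H
    have hcH : Nat.card H₁ * q = Nat.card H := by
      rw [← hidx, ← relIndex_bot_left, relIndex_mul_relIndex _ _ _ bot_le hH₁H, relIndex_bot_left]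
    have hqH : q ∣ Nat.card H := ⟨_, ((mul_comm _ _).trans hcH).symm⟩
    have hKN : K ≤ normalizer (N : Set G) := hK.trans (sup_le_normalizer hHN)
    have hNK : N ⊔ K = N ⊔ H := by
      refine eq_of_le_of_card_eq (sup_le le_sup_left hK) ?_
      rw [card_sup_coprime hKN (hcard ▸ hcop), card_sup_coprime hHN hcop, hcard]
    set K₁ := (N ⊔ H₁) ⊓ K with hK₁
    have hNH₁ : H ≤ normalizer ((N ⊔ H₁ : Subgroup G) : Set G) := le_normalizer_sup hHN hHH₁
    have hKH₁ : K ≤ normalizer ((N ⊔ H₁ : Subgroup G) : Set G) :=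
      hK.trans (sup_le (le_sup_left.trans le_normalizer) hNH₁)
    have hKK₁ : K ≤ normalizer (K₁ : Set G) := le_normalizer_inf hKH₁ le_normalizer
    have hsupK₁ : N ⊔ K₁ = N ⊔ H₁ := by
      rw [hK₁, inf_comm, ← sup_inf_dedekind hKN le_sup_left, hNK, inf_eq_right]
      exact sup_le_sup_left hH₁H N
    have hcop₁ : (Nat.card N).Coprime (Nat.card H₁) :=
      hcop.coprime_dvd_right (Subgroup.card_dvd_of_le hH₁H)
    have hcK₁ : Nat.card K₁ = Nat.card H₁ := by
      have h : Nat.card ↥(N ⊔ K₁) = Nat.card ↥(N ⊔ H₁) := by rw [hsupK₁]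
      rw [card_sup_coprime ((inf_le_right : K₁ ≤ K).trans hKN)
        ((hcard ▸ hcop).coprime_dvd_right (Subgroup.card_dvd_of_le inf_le_right)),
        card_sup_coprime (hH₁H.trans hHN) hcop₁] at h
      exact Nat.eq_of_mul_eq_mul_left Nat.card_pos h
    have hn₁ : Nat.card H₁ ≤ n := by
      have h1 : 0 < Nat.card H₁ := Nat.card_pos
      have h2 := hprime.two_le
      nlinarith
    obtain ⟨m, hm, hmeq⟩ := ih hn₁ (hH₁H.trans hHN) hcop₁ (isSolvable_of_le hH₁H hsol)
      inf_le_left hcK₁
    set H' := conjMap m H with hH'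
    have hmN : m ∈ normalizer (N : Set G) := le_normalizer hm
    have hmeq' : K₁ = conjMap m H₁ := hmeq
    have hK₁H' : K₁ ≤ H' := by rw [hmeq']; exact conjMap_mono hH₁H
    have hH'K₁ : H' ≤ normalizer (K₁ : Set G) := by
      rw [hmeq', normalizer_conjMap]; exact conjMap_mono hHH₁
    have hH'L : H' ≤ N ⊔ H := by
      intro x hx
      rw [mem_conjMap] at hx
      have := mul_mem (mul_mem (mem_sup_left hm : m ∈ N ⊔ H) (mem_sup_right hx))
        (inv_mem (mem_sup_left hm : m ∈ N ⊔ H))
      simpa [mul_assoc] using this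
    have hcH' : Nat.card H' = Nat.card H := card_conjMap m H
    have hH'N : H' ≤ normalizer (N : Set G) := hH'L.trans (sup_le_normalizer hHN)
    have hNH' : N ⊔ H' = N ⊔ H := by
      refine eq_of_le_of_card_eq (sup_le le_sup_left hH'L) ?_
      rw [card_sup_coprime hH'N (hcH' ▸ hcop), card_sup_coprime hHN hcop, hcH']
    set T := (N ⊔ H) ⊓ normalizer (K₁ : Set G) with hT
    have hH'T : H' ≤ T := le_inf hH'L hH'K₁
    have hKT : K ≤ T := le_inf hK hKK₁
    haveI : Fact q.Prime := ⟨hprime⟩
    have hfac : ∀ J : Subgroup G, J ≤ T → Nat.card J = Nat.card H →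
        ∃ P : Sylow q T, (P : Subgroup T).map T.subtype ≤ J := by
      intro J hJ hJc
      obtain ⟨Q⟩ := (inferInstance : Nonempty (Sylow q J))
      have hQT : (Q : Subgroup J).map J.subtype ≤ T := (map_subtype_le _).trans hJ
      have hdT : Nat.card T ∣ Nat.card N * Nat.card H :=
        card_sup_coprime hHN hcop ▸ Subgroup.card_dvd_of_le inf_le_left
      have hqN : ¬ q ∣ Nat.card N := fun h =>
        hprime.not_dvd_one (hcop ▸ Nat.dvd_gcd h hqH)
      have hfle : (Nat.card T).factorization q = (Nat.card H).factorization q := by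
        refine le_antisymm ?_ ?_
        · have h := (Nat.factorization_le_iff_dvd Nat.card_pos.ne'
            (Nat.mul_ne_zero Nat.card_pos.ne' Nat.card_pos.ne')).mpr hdT q
          rw [Nat.factorization_mul Nat.card_pos.ne' Nat.card_pos.ne'] at h
          simpa [Nat.factorization_eq_zero_of_not_dvd hqN] using h
        · exact (Nat.factorization_le_iff_dvd Nat.card_pos.ne' Nat.card_pos.ne').mpr
            (hJc ▸ Subgroup.card_dvd_of_le hJ) q
      refine ⟨Sylow.ofCard (((Q : Subgroup J).map J.subtype).subgroupOf T) ?_, ?_⟩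
      · rw [Nat.card_congr (subgroupOfEquivOfLe hQT).toEquiv,
          Subgroup.card_map_of_injective J.subtype_injective, Q.card_eq_multiplicity, hfle, hJc]
      · rw [Sylow.coe_ofCard, map_subgroupOf_eq_of_le hQT]
        exact map_subtype_le _
    obtain ⟨P, hP⟩ := hfac H' hH'T hcH'
    obtain ⟨P', hP'⟩ := hfac K hKT hcard
    obtain ⟨g, hg⟩ := MulAction.exists_smul_eq T P P'
    have hqdvd : ∀ R : Sylow q T,
        q ^ (Nat.card H).factorization q ∣ Nat.card ((R : Subgroup T).map T.subtype) := by
      intro R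
      rw [Subgroup.card_map_of_injective T.subtype_injective, R.card_eq_multiplicity]
      exact pow_dvd_pow q ((Nat.factorization_le_iff_dvd Nat.card_pos.ne' Nat.card_pos.ne').mpr
        (hcard ▸ Subgroup.card_dvd_of_le hKT) q)
    have hrelH' : K₁.relIndex H' = q := by
      apply Nat.eq_of_mul_eq_mul_left (Nat.card_pos (α := H₁))
      rw [hcH, ← hcK₁, ← relIndex_bot_left, relIndex_mul_relIndex _ _ _ bot_le hK₁H',
        relIndex_bot_left, hcH']
    have hrelK : K₁.relIndex K = q := by
      apply Nat.eq_of_mul_eq_mul_left (Nat.card_pos (α := H₁))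
      rw [hcH, ← hcK₁, ← relIndex_bot_left, relIndex_mul_relIndex _ _ _ bot_le inf_le_right,
        relIndex_bot_left, hcard]
    have hA := sup_sylow_eq_of_prime_relIndex hK₁H' hprime hrelH' hP (hcH'.symm ▸ hqdvd P)
    have hB := sup_sylow_eq_of_prime_relIndex (inf_le_right : K₁ ≤ K) hprime hrelK hP'
      (hcard.symm ▸ hqdvd P')
    have hgK₁ : (g : G) ∈ normalizer (K₁ : Set G) := g.2.2
    have hfin : K = conjMap (g : G) H' := by
      rw [← hA, ← hB, conjMap_sup, conjMap_eq_self hgK₁, ← hg, Sylow.coe_subgroup_smul,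
        conj_smul_eq, map_conjMap]
      rfl
    have hgL : (g : G) ∈ N ⊔ H' := hNH'.symm ▸ g.2.1
    obtain ⟨a, ha, b, hb, hab⟩ := (mem_sup_of_le_normalizer hH'N).mp hgL
    refine ⟨a * m, mul_mem ha hm, ?_⟩
    rw [hfin, ← hab, ← conjMap_mul, conjMap_eq_self (le_normalizer hb), hH', conjMap_mul]

theorem exists_conj_eq_of_solvable_right [Finite G] {N H K : Subgroup G}
    (hH : H ≤ normalizer (N : Set G)) (hcop : (Nat.card N).Coprime (Nat.card H))
    (hsol : Group.IsSolvable H) (hK : K ≤ N ⊔ H) (hcard : Nat.card K = Nat.card H) :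
    ∃ x ∈ N, K = conjMap x H :=
  exists_conj_eq_right_aux _ le_rfl hH hcop hsol hK hcard

/-- Schur-Zassenhaus conjugacy, relative form -/
theorem exists_conj_eq_of_coprime [Finite G] {N H K : Subgroup G}
    (hH : H ≤ normalizer (N : Set G)) (hcop : (Nat.card N).Coprime (Nat.card H))
    (hsol : Group.IsSolvable N ∨ Group.IsSolvable H) (hK : K ≤ N ⊔ H)
    (hcard : Nat.card K = Nat.card H) : ∃ x ∈ N, K = conjMap x H :=
  hsol.elim (fun h => exists_conj_eq_of_solvable_left hH hcop h hK hcard)
    (fun h => exists_conj_eq_of_solvable_right hH hcop h hK hcard)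

/-- every subgroup of order prime to `N` of `N ⊔ H` is conjugate under `N` into `H` -/
theorem exists_conj_le_of_coprime [Finite G] {N H L : Subgroup G}
    (hH : H ≤ normalizer (N : Set G)) (hcop : (Nat.card N).Coprime (Nat.card H))
    (hsol : Group.IsSolvable N ∨ Group.IsSolvable L) (hL : L ≤ N ⊔ H)
    (hcopL : (Nat.card N).Coprime (Nat.card L)) : ∃ x ∈ N, L ≤ conjMap x H := by
  have hLN : L ≤ normalizer (N : Set G) := hL.trans (sup_le_normalizer hH)
  set H₀ := H ⊓ (N ⊔ L) with hH₀
  have hsup : N ⊔ H₀ = N ⊔ L := by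
    rw [hH₀, ← sup_inf_dedekind hH le_sup_left, inf_eq_right]
    exact sup_le le_sup_left hL
  have hc : Nat.card L = Nat.card H₀ := by
    have h : Nat.card ↥(N ⊔ H₀) = Nat.card ↥(N ⊔ L) := by rw [hsup]
    rw [card_sup_coprime ((inf_le_left : H₀ ≤ H).trans hH)
      (hcop.coprime_dvd_right (Subgroup.card_dvd_of_le inf_le_left)),
      card_sup_coprime hLN hcopL] at h
    exact (Nat.eq_of_mul_eq_mul_left Nat.card_pos h).symm
  obtain ⟨x, hx, hxe⟩ := exists_conj_eq_of_coprime (K := H₀) hLN hcopL hsol
    (hsup ▸ le_sup_right) hc.symm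
  refine ⟨x⁻¹, inv_mem hx, ?_⟩
  intro l hl
  rw [mem_conjMap, inv_inv]
  have : x * l * x⁻¹ ∈ H₀ := by
    rw [hxe, mem_conjMap]
    simpa [mul_assoc] using hl
  exact this.1

/-- existence of complements (Schur-Zassenhaus), relative form -/
theorem exists_complement_in [Finite G] {N L : Subgroup G} (hNL : N ≤ L)
    (hn : L ≤ normalizer (N : Set G)) (hcop : (Nat.card N).Coprime (N.relIndex L)) :
    ∃ H : Subgroup G, H ≤ L ∧ N ⊔ H = L ∧ Nat.card H = N.relIndex L := by
  haveI : (N.subgroupOf L).Normal := (normal_subgroupOf_iff_le_normalizer hNL).mpr hn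
  obtain ⟨J, hJ⟩ := exists_right_complement'_of_coprime (N := N.subgroupOf L) (by
    rwa [Nat.card_congr (subgroupOfEquivOfLe hNL).toEquiv])
  refine ⟨J.map L.subtype, map_subtype_le _, ?_, ?_⟩
  · conv_lhs => rw [← map_subgroupOf_eq_of_le hNL]
    rw [← Subgroup.map_sup, hJ.sup_eq_top, ← MonoidHom.range_eq_map, range_subtype]
  · rw [Subgroup.card_map_of_injective L.subtype_injective]
    exact hJ.symm.index_eq_card.symm

end Cfsg.Lib.Coprime
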