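import Cfsg.Agent.Coprime.Sylow
import Cfsg.Prelude.Def_HallClasses

/-!
Hall subgroups of finite solvable groups.
-/

set_option linter.style.haveILetI false
set_option linter.unusedSectionVars false

namespace Cfsg.Lib.Coprime

open Subgroup
open scoped Pointwise commutatorElement

universe u

variable {G : Type u} [Group G]

theorem exists_minimal_normal [Finite G] {K : Subgroup G} (hK : K.Normal) (hne : K ≠ ⊥) :
    ∃ N : Subgroup G, N ≤ K ∧ N.Normal ∧ N ≠ ⊥ ∧
      ∀ M : Subgroup G, M.Normal → M ≤ N → M = ⊥ ∨ M = N := by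
  obtain ⟨N, ⟨hNK, hNn, hNb⟩, hmin⟩ := WellFounded.has_min (wellFounded_lt (α := Subgroup G))
    {N | N ≤ K ∧ N.Normal ∧ N ≠ ⊥} ⟨K, le_rfl, hK, hne⟩
  refine ⟨N, hNK, hNn, hNb, fun M hM hMN => ?_⟩
  by_cases hb : M = ⊥
  · exact Or.inl hb
  · exact Or.inr (by_contra fun h => hmin M ⟨hMN.trans hNK, hM, hb⟩ (lt_of_le_of_ne hMN h))

/-- a minimal normal subgroup that is solvable is an elementary abelian `p`-group -/
theorem minimal_normal_solvable [Finite G] {N : Subgroup G} [N.Normal] (hsol : Group.IsSolvable N)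
    (hne : N ≠ ⊥) (hmin : ∀ M : Subgroup G, M.Normal → M ≤ N → M = ⊥ ∨ M = N) :
    IsMulCommutative N ∧ ∃ p : ℕ, p.Prime ∧ IsPGroup p N ∧ ∀ x ∈ N, x ^ p = 1 := by
  haveI : Nontrivial N := (Subgroup.nontrivial_iff_ne_bot N).mpr hne
  haveI := hsol
  have hcomm : IsMulCommutative N := by
    have hlt := Group.IsSolvable.commutator_lt_top_of_nontrivial N
    rcases hmin ((commutator N).map N.subtype) inferInstance (map_subtype_le _) with h | h
    · rw [Subgroup.map_eq_bot_iff, Subgroup.ker_subtype, le_bot_iff, commutator_def,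
        commutator_eq_bot_iff_le_centralizer] at h
      exact ⟨⟨fun a b => (mem_centralizer_iff.mp (h (mem_top b)) a (mem_top a))⟩⟩
    · exfalso
      apply hlt.ne
      apply Subgroup.map_injective N.subtype_injective
      rw [h, ← MonoidHom.range_eq_map, range_subtype]
  refine ⟨hcomm, ?_⟩
  set p := (Nat.card N).minFac
  have hp : p.Prime := Nat.minFac_prime (fun h => hne (Subgroup.card_eq_one.mp h))
  haveI := Fact.mk hp
  obtain ⟨x, hx⟩ := exists_prime_orderOf_dvd_card' p (Nat.minFac_dvd (Nat.card N))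
  letI : CommGroup N := { mul_comm := mul_comm' }
  set R : Subgroup N := (powMonoidHom p : N →* N).ker with hR
  haveI hRc : R.Characteristic := characteristic_iff_le_comap.mpr fun e y hy => by
    show (e y) ^ p = 1
    rw [← map_pow, show y ^ p = 1 from hy, map_one]
  haveI : (R.map N.subtype).Normal := inferInstance
  rcases hmin (R.map N.subtype) inferInstance (map_subtype_le _) with h | h
  · exfalso
    rw [Subgroup.map_eq_bot_iff, Subgroup.ker_subtype, le_bot_iff] at h
    have hxR : x ∈ R := by show x ^ p = 1; rw [← hx, pow_orderOf_eq_one]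
    rw [h, mem_bot] at hxR
    rw [hxR, orderOf_one] at hx
    exact hp.one_lt.ne hx
  · have hpow : ∀ y ∈ N, y ^ p = 1 := by
      intro y hy
      obtain ⟨z, hz, rfl⟩ := h.symm.le hy
      have h2 : z ^ p = 1 := hz
      show ((z : N) : G) ^ p = 1
      exact_mod_cast congrArg Subtype.val h2
    exact ⟨p, hp, fun y => ⟨1, Subtype.ext (by simpa using hpow y y.2)⟩, hpow⟩

theorem coprime_of_forall_prime {a b : ℕ} (h : ∀ p, p.Prime → p ∣ a → ¬ p ∣ b) : a.Coprime b :=
  Nat.coprime_of_dvd h

theorem piHall_card_eq [Finite G] {π : Set ℕ} {H K : Subgroup G} (hH : IsPiHall π H)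
    (hK : IsPiHall π K) : Nat.card H = Nat.card K := by
  have key : ∀ {A B : Subgroup G}, IsPiHall π A → IsPiHall π B → Nat.card A ∣ Nat.card B := by
    intro A B hA hB
    have h : Nat.card A ∣ Nat.card B * B.index := B.card_mul_index ▸ A.card_subgroup_dvd_card
    refine (Nat.Coprime.dvd_of_dvd_mul_right ?_ h)
    exact coprime_of_forall_prime fun p hp hpA => hB.2 p hp (hA.1 p hp hpA)
  exact Nat.dvd_antisymm (key hH hK) (key hK hH)

theorem isPiHall_coprime [Finite G] {π : Set ℕ} {H : Subgroup G} (hH : IsPiHall π H) :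
    (Nat.card H).Coprime H.index :=
  coprime_of_forall_prime fun p hp h => hH.2 p hp (hH.1 p hp h)

theorem piSubgroup_map {G' : Type*} [Group G'] {π : Set ℕ} {H : Subgroup G}
    (hH : ∀ p : ℕ, p.Prime → p ∣ Nat.card H → p ∈ π) (f : G →* G') :
    ∀ p : ℕ, p.Prime → p ∣ Nat.card (H.map f) → p ∈ π :=
  fun p hp h => hH p hp (h.trans (Subgroup.card_map_dvd H f))

theorem isPiHall_map [Finite G] {G' : Type*} [Group G'] {π : Set ℕ} {H : Subgroup G}
    (hH : IsPiHall π H) {f : G →* G'} (hf : Function.Surjective f) : IsPiHall π (H.map f) :=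
  ⟨piSubgroup_map hH.1 f, fun p hp hpi h =>
    hH.2 p hp hpi (h.trans (H.index_map_dvd hf))⟩

theorem isPiHall_conjMap [Finite G] {π : Set ℕ} {H : Subgroup G} (hH : IsPiHall π H) (g : G) :
    IsPiHall π (conjMap g H) :=
  isPiHall_map hH (MulAut.conj g).surjective

theorem card_comap_mk' [Finite G] {N : Subgroup G} [N.Normal] (Q : Subgroup (G ⧸ N)) :
    Nat.card (Q.comap (QuotientGroup.mk' N)) = Nat.card N * Nat.card Q := by
  have hle : N ≤ Q.comap (QuotientGroup.mk' N) := fun x hx => by
    rw [mem_comap, show QuotientGroup.mk' N x = 1 from (QuotientGroup.eq_one_iff x).mpr hx]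
    exact one_mem _
  have e : Nat.card (Q.comap (QuotientGroup.mk' N)) * (Q.comap (QuotientGroup.mk' N)).index
      = Nat.card N * Nat.card Q * Q.index := by
    rw [Subgroup.card_mul_index, mul_assoc, Subgroup.card_mul_index, mul_comm,
      ← Subgroup.card_eq_card_quotient_mul_card_subgroup]
  rw [index_comap_of_surjective _ (QuotientGroup.mk'_surjective N)] at e
  exact Nat.eq_of_mul_eq_mul_right (Nat.pos_of_ne_zero index_ne_zero_of_finite) e

theorem card_quotient_lt [Finite G] {N : Subgroup G} (hN : N ≠ ⊥) :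
    Nat.card (G ⧸ N) < Nat.card G := by
  rw [Subgroup.card_eq_card_quotient_mul_card_subgroup N]
  exact lt_mul_of_one_lt_right Nat.card_pos ((N.one_lt_card_iff_ne_bot).mpr hN)

theorem hall_exists_aux (n : ℕ) : ∀ (G : Type u) [Group G] [Finite G], Nat.card G ≤ n →
    Group.IsSolvable G → ∀ π : Set ℕ, ∃ H : Subgroup G, IsPiHall π H := by
  induction n with
  | zero => intro G _ _ hc; exact absurd hc (by have := Nat.card_pos (α := G); omega)
  | succ n ih =>
    intro G _ _ hcard hsol π
    rcases subsingleton_or_nontrivial G with hs | hnt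
    · refine ⟨⊥, fun p hp h => absurd (Subgroup.card_bot (G := G) ▸ h) hp.not_dvd_one,
        fun p hp _ h => ?_⟩
      rw [index_bot, Nat.card_eq_one_iff_unique.mpr ⟨hs, inferInstance⟩] at h
      exact hp.not_dvd_one h
    obtain ⟨N, -, hNn, hNb, hmin⟩ := exists_minimal_normal (inferInstance : (⊤ : Subgroup G).Normal)
      (fun h => (bot_ne_top (α := Subgroup G)) h.symm)
    obtain ⟨-, p, hp, hNp, -⟩ := minimal_normal_solvable (inferInstance : Group.IsSolvable N) hNb hmin
    haveI := Fact.mk hp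
    obtain ⟨k, hk⟩ := IsPGroup.iff_card.mp hNp
    obtain ⟨Q, hQ⟩ := ih (G ⧸ N) (by have := card_quotient_lt hNb; omega) inferInstance π
    set M := Q.comap (QuotientGroup.mk' N) with hM
    have hMc : Nat.card M = Nat.card N * Nat.card Q := card_comap_mk' Q
    have hMi : M.index = Q.index := index_comap_of_surjective _ (QuotientGroup.mk'_surjective N)
    by_cases hpi : p ∈ π
    · refine ⟨M, fun q hq h => ?_, fun q hq hqi => hMi ▸ hQ.2 q hq hqi⟩
      rw [hMc, hk] at h
      rcases hq.dvd_mul.mp h with h | h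
      · rwa [(Nat.prime_dvd_prime_iff_eq hq hp).mp (hq.dvd_of_dvd_pow h)]
      · exact hQ.1 q hq h
    · have hNM : N ≤ M := fun x hx => by
        rw [hM, mem_comap, show QuotientGroup.mk' N x = 1 from (QuotientGroup.eq_one_iff x).mpr hx]
        exact one_mem _
      have hrel : N.relIndex M = Nat.card Q := by
        apply Nat.eq_of_mul_eq_mul_left (Nat.card_pos (α := N))
        rw [← hMc, ← relIndex_bot_left, relIndex_mul_relIndex _ _ _ bot_le hNM, relIndex_bot_left]
      have hcopQ : (Nat.card N).Coprime (Nat.card Q) := by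
        rw [hk]
        exact Nat.Coprime.pow_left k ((hp.coprime_iff_not_dvd).mpr fun h => hpi (hQ.1 p hp h))
      obtain ⟨H, hHM, -, hHc⟩ := exists_complement_in hNM le_normalizer_of_normal (hrel ▸ hcopQ)
      refine ⟨H, fun q hq h => hQ.1 q hq (by rwa [hHc, hrel] at h), fun q hq hqi h => ?_⟩
      have hi : H.index = Nat.card N * Q.index := by
        apply Nat.eq_of_mul_eq_mul_left (Nat.card_pos (α := H))
        rw [H.card_mul_index, hHc, hrel, ← mul_assoc, mul_comm (Nat.card Q), ← hMc, ← hMi,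
          M.card_mul_index]
      rw [hi] at h
      rcases hq.dvd_mul.mp h with h | h
      · rw [hk] at h
        exact hpi ((Nat.prime_dvd_prime_iff_eq hq hp).mp (hq.dvd_of_dvd_pow h) ▸ hqi)
      · exact hQ.2 q hq hqi h

theorem hall_contain_aux (n : ℕ) : ∀ (G : Type u) [Group G] [Finite G], Nat.card G ≤ n →
    Group.IsSolvable G → ∀ (π : Set ℕ) (H K : Subgroup G), IsPiHall π H →
      (∀ p : ℕ, p.Prime → p ∣ Nat.card K → p ∈ π) → ∃ g : G, K ≤ conjMap g H := by
  induction n with
  | zero => intro G _ _ hc; exact absurd hc (by have := Nat.card_pos (α := G); omega)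
  | succ n ih =>
    intro G _ _ hcard hsol π H K hH hK
    rcases subsingleton_or_nontrivial G with hs | hnt
    · exact ⟨1, fun x _ => by rw [Subsingleton.elim x 1]; exact one_mem _⟩
    obtain ⟨N, -, hNn, hNb, hmin⟩ := exists_minimal_normal (inferInstance : (⊤ : Subgroup G).Normal)
      (fun h => (bot_ne_top (α := Subgroup G)) h.symm)
    obtain ⟨-, p, hp, hNp, -⟩ := minimal_normal_solvable (inferInstance : Group.IsSolvable N) hNb hmin
    haveI := Fact.mk hp
    obtain ⟨k, hk⟩ := IsPGroup.iff_card.mp hNp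
    set f := QuotientGroup.mk' N with hf
    have hs : Function.Surjective f := QuotientGroup.mk'_surjective N
    obtain ⟨q', hq'⟩ := ih (G ⧸ N) (by have := card_quotient_lt hNb; omega) inferInstance π
      (H.map f) (K.map f) (isPiHall_map hH hs) (piSubgroup_map hK f)
    obtain ⟨g, rfl⟩ := hs q'
    set H₁ := conjMap g H with hH₁
    have hH₁h : IsPiHall π H₁ := isPiHall_conjMap hH g
    have hKle : K ≤ N ⊔ H₁ := by
      rw [← map_conjMap, map_le_iff_le_comap, Subgroup.comap_map_eq, hf,
        QuotientGroup.ker_mk', sup_comm] at hq'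
      exact hq'
    by_cases hpi : p ∈ π
    · refine ⟨g, hKle.trans (sup_le ?_ le_rfl)⟩
      -- the normal `π`-subgroup `N` lies in every Hall subgroup
      have h1 := card_sup_mul_card_inf (N := N) (H := H₁) le_normalizer_of_normal
      have h2 : Nat.card ↥(N ⊔ H₁) ∣ Nat.card H₁ := by
        refine Nat.Coprime.dvd_of_dvd_mul_right ?_ (H₁.card_mul_index ▸ card_subgroup_dvd_card _)
        refine coprime_of_forall_prime fun q hq hqd => hH₁h.2 q hq ?_
        have h3 : q ∣ Nat.card N * Nat.card H₁ := h1 ▸ dvd_mul_of_dvd_left hqd _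
        rcases hq.dvd_mul.mp h3 with h | h
        · rw [hk] at h
          rwa [(Nat.prime_dvd_prime_iff_eq hq hp).mp (hq.dvd_of_dvd_pow h)]
        · exact hH₁h.1 q hq h
      exact le_sup_left.trans
        (Subgroup.eq_of_le_of_card_ge (le_sup_right : H₁ ≤ N ⊔ H₁) (Nat.le_of_dvd Nat.card_pos h2)).ge
    · have hcop : ∀ L : Subgroup G, (∀ q : ℕ, q.Prime → q ∣ Nat.card L → q ∈ π) →
          (Nat.card N).Coprime (Nat.card L) := by
        intro L hL
        rw [hk]
        exact Nat.Coprime.pow_left k (hp.coprime_iff_not_dvd.mpr fun h => hpi (hL p hp h))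
      obtain ⟨x, -, hx⟩ := exists_conj_le_of_coprime (N := N) (H := H₁) le_normalizer_of_normal
        (hcop _ hH₁h.1) (Or.inl inferInstance) hKle (hcop _ hK)
      exact ⟨x * g, by rw [← conjMap_mul]; exact hx⟩

/-- Hall: existence -/
theorem exists_piHall [Finite G] [hsol : Group.IsSolvable G] (π : Set ℕ) :
    ∃ H : Subgroup G, IsPiHall π H :=
  hall_exists_aux _ G le_rfl hsol π

/-- Hall: every π-subgroup is contained in a conjugate of a given Hall π-subgroup -/
theorem le_conj_piHall [Finite G] [hsol : Group.IsSolvable G] {π : Set ℕ} {H K : Subgroup G}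
    (hH : IsPiHall π H) (hK : ∀ p : ℕ, p.Prime → p ∣ Nat.card K → p ∈ π) :
    ∃ g : G, K ≤ conjMap g H :=
  hall_contain_aux _ G le_rfl hsol π H K hH hK

/-- Hall: conjugacy -/
theorem piHall_conj [Finite G] [Group.IsSolvable G] {π : Set ℕ} {H K : Subgroup G}
    (hH : IsPiHall π H) (hK : IsPiHall π K) : ∃ g : G, K = conjMap g H := by
  obtain ⟨g, hg⟩ := le_conj_piHall hH hK.1
  exact ⟨g, eq_of_le_of_card_eq hg (by rw [card_conjMap, piHall_card_eq hH hK])⟩

/-- every π-subgroup lies in a Hall π-subgroup -/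
theorem exists_piHall_ge [Finite G] [Group.IsSolvable G] {π : Set ℕ} {K : Subgroup G}
    (hK : ∀ p : ℕ, p.Prime → p ∣ Nat.card K → p ∈ π) :
    ∃ H : Subgroup G, IsPiHall π H ∧ K ≤ H := by
  obtain ⟨H, hH⟩ := exists_piHall (G := G) π
  obtain ⟨g, hg⟩ := le_conj_piHall hH hK
  exact ⟨_, isPiHall_conjMap hH g, hg⟩

theorem isPiHall_of_card_eq [Finite G] {m n : ℕ} (hG : Nat.card G = m * n) (hmn : m.Coprime n)
    {H : Subgroup G} (hH : Nat.card H = m) : IsPiHall {p | p ∣ m} H := by
  refine ⟨fun p _ hpd => hH ▸ hpd, fun p hp hpm hpi => ?_⟩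
  have hi : H.index = n := by
    apply Nat.eq_of_mul_eq_mul_left (Nat.card_pos (α := H))
    rw [H.card_mul_index, hG, hH]
  exact hp.not_dvd_one (hmn ▸ Nat.dvd_gcd hpm (hi ▸ hpi))

theorem card_eq_of_isPiHall [Finite G] {m n : ℕ} (hG : Nat.card G = m * n) (hmn : m.Coprime n)
    {H : Subgroup G} (hH : IsPiHall {p | p ∣ m} H) : Nat.card H = m := by
  have h1 : (Nat.card H).Coprime n := coprime_of_forall_prime fun p hp hpH hpn =>
    hp.not_dvd_one (hmn ▸ Nat.dvd_gcd (hH.1 p hp hpH) hpn)
  have h2 : m.Coprime H.index := coprime_of_forall_prime fun p hp hpm => hH.2 p hp hpm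
  exact Nat.dvd_antisymm (h1.dvd_of_dvd_mul_right (hG ▸ H.card_subgroup_dvd_card))
    (h2.dvd_of_dvd_mul_right (H.card_mul_index ▸ hG ▸ dvd_mul_right m n))

end Cfsg.Lib.Coprime
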