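import Mathlib

/-!
Subgroups in a normalizer: products, orders, conjugation.
-/

namespace Cfsg.Lib.Coprime

open Subgroup
open scoped Pointwise

variable {G : Type*} [Group G] {G' : Type*} [Group G']

/-- conjugate of a subgroup, in the `map` form -/
abbrev conjMap (g : G) (H : Subgroup G) : Subgroup G := H.map (MulAut.conj g).toMonoidHom

theorem mem_conjMap {g x : G} {H : Subgroup G} : x ∈ conjMap g H ↔ g⁻¹ * x * g ∈ H := by
  constructor
  · rintro ⟨y, hy, rfl⟩
    simpa [mul_assoc] using hy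
  · intro h
    exact ⟨g⁻¹ * x * g, h, by simp [mul_assoc]⟩

theorem conj_smul_eq (g : G) (H : Subgroup G) : MulAut.conj g • H = conjMap g H := rfl

theorem conjMap_mul (a b : G) (H : Subgroup G) : conjMap a (conjMap b H) = conjMap (a * b) H := by
  ext x
  simp [mem_conjMap, mul_assoc]

theorem conjMap_one (H : Subgroup G) : conjMap 1 H = H := by
  ext x
  simp [mem_conjMap]

theorem conjMap_inv_conjMap (g : G) (H : Subgroup G) : conjMap g⁻¹ (conjMap g H) = H := by
  rw [conjMap_mul, inv_mul_cancel, conjMap_one]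

theorem conjMap_conjMap_inv (g : G) (H : Subgroup G) : conjMap g (conjMap g⁻¹ H) = H := by
  rw [conjMap_mul, mul_inv_cancel, conjMap_one]

theorem conjMap_mono {g : G} {H K : Subgroup G} (h : H ≤ K) : conjMap g H ≤ conjMap g K :=
  Subgroup.map_mono h

theorem card_conjMap (g : G) (H : Subgroup G) : Nat.card (conjMap g H) = Nat.card H :=
  Subgroup.card_map_of_injective (MulAut.conj g).injective

theorem conjMap_eq_self_iff {g : G} {H : Subgroup G} :
    conjMap g H = H ↔ g ∈ normalizer (H : Set G) := by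
  rw [mem_normalizer_iff'', SetLike.ext_iff]
  exact forall_congr' fun x => by rw [mem_conjMap]; exact Iff.comm

theorem conjMap_eq_self {g : G} {H : Subgroup G} (h : g ∈ normalizer (H : Set G)) :
    conjMap g H = H := conjMap_eq_self_iff.mpr h

theorem normalizer_conjMap (g : G) (H : Subgroup G) :
    normalizer (conjMap g H : Set G) = conjMap g (normalizer (H : Set G)) := by
  ext x
  rw [mem_conjMap, ← conjMap_eq_self_iff, ← conjMap_eq_self_iff]
  constructor
  · intro h
    rw [mul_assoc, ← conjMap_mul, ← conjMap_mul, h, conjMap_inv_conjMap]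
  · intro h
    have h2 := congrArg (conjMap g) h
    rw [conjMap_mul, mul_assoc g⁻¹, mul_inv_cancel_left, ← conjMap_mul] at h2
    exact h2

theorem conjMap_sup (g : G) (H K : Subgroup G) :
    conjMap g (H ⊔ K) = conjMap g H ⊔ conjMap g K := Subgroup.map_sup _ _ _

theorem conjMap_inf (g : G) (H K : Subgroup G) :
    conjMap g (H ⊓ K) = conjMap g H ⊓ conjMap g K :=
  Subgroup.map_inf _ _ _ (MulAut.conj g).injective

theorem map_conjMap (f : G →* G') (g : G) (H : Subgroup G) :
    (conjMap g H).map f = conjMap (f g) (H.map f) := by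
  rw [conjMap, conjMap, map_map, map_map]
  congr 1
  ext x
  simp

/-- elements of `N ⊔ H` when `H` normalises `N` -/
theorem mem_sup_of_le_normalizer {N H : Subgroup G} (h : H ≤ normalizer (N : Set G)) {x : G} :
    x ∈ N ⊔ H ↔ ∃ n ∈ N, ∃ k ∈ H, n * k = x := by
  rw [← SetLike.mem_coe, coe_mul_of_right_le_normalizer_left N H h]
  exact Set.mem_mul

theorem mem_sup_of_le_normalizer' {N H : Subgroup G} (h : H ≤ normalizer (N : Set G)) {x : G} :
    x ∈ N ⊔ H ↔ ∃ k ∈ H, ∃ n ∈ N, k * n = x := by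
  rw [sup_comm, ← SetLike.mem_coe, coe_mul_of_left_le_normalizer_right H N h]
  exact Set.mem_mul

theorem inf_eq_bot_of_coprime {N H : Subgroup G} (h : (Nat.card N).Coprime (Nat.card H)) :
    N ⊓ H = ⊥ :=
  disjoint_iff.mp (disjoint_of_coprime_natCard h)

theorem eq_one_of_coprime {N H : Subgroup G} (h : (Nat.card N).Coprime (Nat.card H)) {x : G}
    (hN : x ∈ N) (hH : x ∈ H) : x = 1 := by
  have : x ∈ N ⊓ H := ⟨hN, hH⟩
  rwa [inf_eq_bot_of_coprime h, mem_bot] at this

theorem card_sup_of_inf_eq_bot {N H : Subgroup G} (h : H ≤ normalizer (N : Set G))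
    (hd : N ⊓ H = ⊥) : Nat.card ↥(N ⊔ H) = Nat.card N * Nat.card H := by
  rw [← Nat.card_prod]
  refine (Nat.card_congr (Equiv.ofBijective
    (fun p : N × H => (⟨(p.1 : G) * p.2, mul_mem_sup p.1.2 p.2.2⟩ : ↥(N ⊔ H))) ⟨?_, ?_⟩)).symm
  · intro a b hab
    exact mul_injective_of_disjoint (disjoint_iff.mpr hd) (Subtype.ext_iff.mp hab)
  · rintro ⟨x, hx⟩
    obtain ⟨n, hn, k, hk, rfl⟩ := (mem_sup_of_le_normalizer h).mp hx
    exact ⟨(⟨n, hn⟩, ⟨k, hk⟩), rfl⟩

theorem card_sup_coprime {N H : Subgroup G} (h : H ≤ normalizer (N : Set G))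
    (hcop : (Nat.card N).Coprime (Nat.card H)) :
    Nat.card ↥(N ⊔ H) = Nat.card N * Nat.card H :=
  card_sup_of_inf_eq_bot h (inf_eq_bot_of_coprime hcop)

theorem eq_of_le_of_card_eq {H K : Subgroup G} [Finite G] (h : H ≤ K)
    (hc : Nat.card H = Nat.card K) : H = K :=
  Subgroup.eq_of_le_of_card_ge h hc.ge

/-- Dedekind's modular law -/
theorem sup_inf_dedekind {N H K : Subgroup G} (h : H ≤ normalizer (N : Set G)) (hNK : N ≤ K) :
    (N ⊔ H) ⊓ K = N ⊔ (H ⊓ K) := by
  refine le_antisymm ?_ (le_inf (sup_le_sup_left inf_le_left N) (sup_le hNK inf_le_right))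
  rintro x ⟨hx, hxK⟩
  obtain ⟨n, hn, k, hk, rfl⟩ := (mem_sup_of_le_normalizer h).mp hx
  exact mul_mem_sup hn ⟨hk, (mul_mem_cancel_left (hNK hn)).mp hxK⟩

theorem sup_le_normalizer {N H : Subgroup G} (h : H ≤ normalizer (N : Set G)) :
    N ⊔ H ≤ normalizer (N : Set G) :=
  sup_le le_normalizer h

theorem le_normalizer_sup {N M H : Subgroup G} (h1 : H ≤ normalizer (N : Set G))
    (h2 : H ≤ normalizer (M : Set G)) : H ≤ normalizer ((N ⊔ M : Subgroup G) : Set G) := by
  intro x hx
  rw [← conjMap_eq_self_iff, conjMap_sup, conjMap_eq_self (h1 hx), conjMap_eq_self (h2 hx)]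

theorem le_normalizer_inf {N M H : Subgroup G} (h1 : H ≤ normalizer (N : Set G))
    (h2 : H ≤ normalizer (M : Set G)) : H ≤ normalizer ((N ⊓ M : Subgroup G) : Set G) := by
  intro x hx
  rw [← conjMap_eq_self_iff, conjMap_inf, conjMap_eq_self (h1 hx), conjMap_eq_self (h2 hx)]

theorem isSolvable_of_le {H K : Subgroup G} (h : H ≤ K) (hK : Group.IsSolvable K) :
    Group.IsSolvable H :=
  Group.isSolvable_of_isSolvable_injective (inclusion_injective h)

theorem isSolvable_map {H : Subgroup G} (h : Group.IsSolvable H) (f : G →* G') :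
    Group.IsSolvable (H.map f) :=
  Group.isSolvable_of_surjective (f.subgroupMap_surjective H)

theorem isSolvable_conjMap {H : Subgroup G} (h : Group.IsSolvable H) (g : G) :
    Group.IsSolvable (conjMap g H) :=
  isSolvable_map h _

end Cfsg.Lib.Coprime
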