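import Cfsg.Agent.Coprime.Fitting
import Cfsg.Agent.Coprime.Generation

/-!
Elementary facts on finite solvable and nilpotent groups.
-/

set_option linter.style.haveILetI false
set_option linter.unusedSectionVars false

namespace Cfsg.Lib.Coprime

open Subgroup
open scoped Pointwise commutatorElement

universe u

variable {G : Type u} [Group G]

theorem inf_index_of_coprime [Finite G] (H K : Subgroup G) (h : H.index.Coprime K.index) :
    (H ⊓ K).index = H.index * K.index ∧ ∀ g : G, ∃ x ∈ H, ∃ y ∈ K, g = x * y := by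
  have heq : (H ⊓ K).index = H.index * K.index := le_antisymm index_inf_le
    (Nat.le_of_dvd (Nat.pos_of_ne_zero index_ne_zero_of_finite)
      (h.mul_dvd_of_dvd_of_dvd (index_dvd_of_le inf_le_left) (index_dvd_of_le inf_le_right)))
  refine ⟨heq, fun g => ?_⟩
  have hrel : (K.subgroupOf H).index = K.index := by
    apply Nat.eq_of_mul_eq_mul_right (Nat.pos_of_ne_zero (index_ne_zero_of_finite (H := H)))
    rw [mul_comm K.index, ← heq]
    show K.relIndex H * H.index = _
    rw [← inf_relIndex_left H K, relIndex_mul_index inf_le_left]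
  have hstab : MulAction.stabilizer H ((1 : G) : G ⧸ K) = K.subgroupOf H := by
    ext x
    rw [MulAction.mem_stabilizer_iff, mem_subgroupOf]
    show (((x : G) * 1 : G) : G ⧸ K) = ((1 : G) : G ⧸ K) ↔ _
    rw [QuotientGroup.eq]
    simp
  have horb : (MulAction.orbit H ((1 : G) : G ⧸ K)).ncard = K.index := by
    rw [← MulAction.index_stabilizer, hstab, hrel]
  have huniv : MulAction.orbit H ((1 : G) : G ⧸ K) = Set.univ := by
    refine Set.eq_of_subset_of_ncard_le (Set.subset_univ _) ?_ (Set.toFinite _)
    rw [horb, Set.ncard_univ, index_eq_card]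
  obtain ⟨x, hx⟩ := huniv.symm.le (Set.mem_univ (g : G ⧸ K))
  refine ⟨x, x.2, (x : G)⁻¹ * g, ?_, by group⟩
  have : (((x : G) * 1 : G) : G ⧸ K) = (g : G ⧸ K) := hx
  rw [mul_one] at this
  exact QuotientGroup.eq.mp this

theorem normal_sylow_of_sup_frattini [Finite G] {p : ℕ} [Fact p.Prime] {M : Subgroup G} [M.Normal]
    (P : Sylow p M) (h : ((P : Subgroup M).map M.subtype ⊔ frattini G).Normal)
    (hM : frattini G ≤ M) : ((P : Subgroup M).map M.subtype).Normal := by
  set P₀ := (P : Subgroup M).map M.subtype with hP₀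
  set W := P₀ ⊔ frattini G with hW
  have hWM : W ≤ M := sup_le (map_subtype_le _) hM
  let Q : Sylow p W := Sylow.ofCard (P₀.subgroupOf W) (by
    rw [Nat.card_congr (subgroupOfEquivOfLe le_sup_left).toEquiv]
    have hc : Nat.card P₀ = Nat.card (P : Subgroup M) :=
      Subgroup.card_map_of_injective M.subtype_injective
    rw [hc]
    refine (Nat.dvd_antisymm ?_ ?_)
    · obtain ⟨k, hk⟩ := IsPGroup.iff_card.mp P.2
      rw [hk]
      refine pow_dvd_pow p ((Nat.Prime.pow_dvd_iff_le_factorization Fact.out Nat.card_pos.ne').mp ?_)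
      rw [← hk, ← hc]
      exact Subgroup.card_dvd_of_le le_sup_left
    · exact P.pow_dvd_card_of_pow_dvd_card
        ((Nat.ordProj_dvd _ _).trans (Subgroup.card_dvd_of_le hWM)))
  have hQ : (Q : Subgroup W).map W.subtype = P₀ := by
    rw [Sylow.coe_ofCard, map_subgroupOf_eq_of_le le_sup_left]
  haveI := h
  have hfr := Sylow.normalizer_sup_eq_top Q
  rw [hQ] at hfr
  refine normalizer_eq_top_iff.mp (frattini_nongenerating (eq_top_iff.mpr ?_))
  refine hfr.ge.trans (sup_le le_sup_left ?_)
  rw [hW]
  exact sup_le (le_normalizer.trans le_sup_left) le_sup_right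

theorem map_sylow_mk' [Finite G] {p : ℕ} [Fact p.Prime] (P : Sylow p G) {N : Subgroup G}
    [N.Normal] : ∃ Q : Sylow p (G ⧸ N),
      (Q : Subgroup (G ⧸ N)) = (P : Subgroup G).map (QuotientGroup.mk' N) :=
  ⟨P.mapSurjective (QuotientGroup.mk'_surjective N), rfl⟩

theorem nilpotent_of_quotient_frattini [Finite G] (M : Subgroup G) [M.Normal]
    (hM : frattini G ≤ M) (h : Group.IsNilpotent (M.map (QuotientGroup.mk' (frattini G)))) :
    Group.IsNilpotent M := by
  refine ((Group.isNilpotent_of_finite_tfae (G := M)).out 0 3 rfl rfl).mpr ?_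
  intro p hp P
  haveI := hp
  set f := QuotientGroup.mk' (frattini G) with hf
  set g := f.subgroupMap M with hg
  let Q : Sylow p (M.map f) := P.mapSurjective (f.subgroupMap_surjective M)
  haveI := h
  have hQn : (Q : Subgroup (M.map f)).Normal := inferInstance
  have hQc : (Q : Subgroup (M.map f)).Characteristic := Sylow.characteristic_of_normal Q hQn
  haveI : (M.map f).Normal := Subgroup.Normal.map inferInstance f (QuotientGroup.mk'_surjective _)
  have hn : ((Q : Subgroup (M.map f)).map (M.map f).subtype).Normal := inferInstance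
  have he : (Q : Subgroup (M.map f)).map (M.map f).subtype
      = ((P : Subgroup M).map M.subtype).map f := by
    show ((P : Subgroup M).map g).map (M.map f).subtype = _
    rw [map_map, map_map]
    rfl
  rw [he] at hn
  have hcomap : (((P : Subgroup M).map M.subtype).map f).comap f
      = (P : Subgroup M).map M.subtype ⊔ frattini G := by
    rw [comap_map_eq, hf, QuotientGroup.ker_mk']
  have hW : ((P : Subgroup M).map M.subtype ⊔ frattini G).Normal := hcomap ▸ hn.comap f
  haveI := normal_sylow_of_sup_frattini P hW hM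
  exact Subgroup.Normal.of_map_subtype this

theorem fitting_quotient_frattini [Finite G] :
    fittingSubgroup (G ⧸ frattini G)
      = (fittingSubgroup G).map (QuotientGroup.mk' (frattini G)) := by
  set f := QuotientGroup.mk' (frattini G) with hf
  have hs : Function.Surjective f := QuotientGroup.mk'_surjective _
  refine le_antisymm ?_ ?_
  · set M := (fittingSubgroup (G ⧸ frattini G)).comap f with hM
    have hle : frattini G ≤ M := fun x hx => by
      rw [hM, mem_comap, show f x = 1 from (QuotientGroup.eq_one_iff x).mpr hx]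
      exact one_mem _
    have hmap : M.map f = fittingSubgroup (G ⧸ frattini G) :=
      map_comap_eq_self_of_surjective hs _
    have hnil : Group.IsNilpotent M := nilpotent_of_quotient_frattini M hle (by
      rw [hmap]; exact Cfsg.Lib.Components.isNilpotent_fitting)
    rw [← hmap]
    exact Subgroup.map_mono (Cfsg.Lib.Components.le_fitting hnil)
  · haveI : ((fittingSubgroup G).map f).Normal := Subgroup.Normal.map inferInstance f hs
    exact Cfsg.Lib.Components.le_fitting
      (Cfsg.Lib.Components.isNilpotent_map Cfsg.Lib.Components.isNilpotent_fitting f)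

theorem dvd_index_frattini [Finite G] {p : ℕ} (hp : p.Prime) (hdvd : p ∣ Nat.card G) :
    p ∣ (frattini G).index := by
  haveI := Fact.mk hp
  by_contra hcon
  obtain ⟨Q⟩ := (inferInstance : Nonempty (Sylow p (frattini G)))
  haveI := frattini_nilpotent (G := G)
  have hQc : (Q : Subgroup (frattini G)).Characteristic :=
    Sylow.characteristic_of_normal Q inferInstance
  haveI hQn : ((Q : Subgroup (frattini G)).map (frattini G).subtype).Normal := inferInstance
  set N := (Q : Subgroup (frattini G)).map (frattini G).subtype with hN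
  have hNc : Nat.card N = p ^ (Nat.card (frattini G)).factorization p := by
    rw [hN, Subgroup.card_map_of_injective (frattini G).subtype_injective, Q.card_eq_multiplicity]
  have hfac : (Nat.card (frattini G)).factorization p = (Nat.card G).factorization p := by
    rw [← (frattini G).card_mul_index, Nat.factorization_mul Nat.card_pos.ne'
      index_ne_zero_of_finite]
    simp [Nat.factorization_eq_zero_of_not_dvd hcon]
  have hcop : (Nat.card N).Coprime N.index := by
    rw [hNc]
    refine Nat.Coprime.pow_left _ (hp.coprime_iff_not_dvd.mpr fun h => ?_)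
    refine Nat.pow_succ_factorization_not_dvd (n := Nat.card G) Nat.card_pos.ne' hp ?_
    rw [pow_succ, ← hfac, ← hNc, ← N.card_mul_index]
    exact Nat.mul_dvd_mul_left _ h
  obtain ⟨H, hH⟩ := exists_right_complement'_of_coprime hcop
  have htop : H = ⊤ := frattini_nongenerating (eq_top_iff.mpr
    (hH.sup_eq_top.ge.trans (sup_le ((map_subtype_le _).trans le_sup_right) le_sup_left)))
  have hbot : N = ⊥ := by
    rw [← le_bot_iff, ← hH.disjoint.eq_bot, htop, inf_top_eq]
  rw [hbot, Subgroup.card_bot, hfac] at hNc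
  exact (Nat.one_lt_pow (hp.factorization_pos_of_dvd Nat.card_pos.ne' hdvd).ne' hp.one_lt).ne hNc

theorem inf_center_ne_bot [Finite G] [Group.IsNilpotent G] (N : Subgroup G) [N.Normal]
    (hN : N ≠ ⊥) : N ⊓ center G ≠ ⊥ := by
  obtain ⟨M, -, hMn, hMb, hmin⟩ := exists_minimal_normal (inferInstance : N.Normal) hN
  obtain ⟨Z, hZN, hZn, hZb, hZmin⟩ := exists_minimal_normal (inferInstance : N.Normal) hN
  haveI : Group.IsNilpotent (⊤ : Subgroup G) := Group.isNilpotent_top.mpr inferInstance
  haveI := hZn
  have hlt := commutator_lt_of_isNilpotent (T := (⊤ : Subgroup G)) (U := Z) le_top hZb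
    le_normalizer_of_normal
  have hb : ⁅Z, (⊤ : Subgroup G)⁆ = ⊥ :=
    (hZmin _ inferInstance hlt.le).resolve_right hlt.ne
  intro h
  refine hZb (eq_bot_iff.mpr (h ▸ le_inf hZN ?_))
  exact commutator_top_right_eq_bot_iff_le_center.mp hb

theorem centralizer_eq_of_maximal_abelian [Finite G] [Group.IsNilpotent G] (N : Subgroup G)
    [N.Normal] [IsMulCommutative N]
    (hmax : ∀ M : Subgroup G, M.Normal → IsMulCommutative M → N ≤ M → M = N) :
    centralizer (N : Set G) = N := by
  set C := centralizer (N : Set G) with hC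
  have hNC : N ≤ C := fun x hx => mem_centralizer_iff.mpr fun y hy =>
    congrArg Subtype.val (mul_comm' (⟨y, hy⟩ : N) ⟨x, hx⟩)
  refine le_antisymm ?_ hNC
  by_contra hcon
  set f := QuotientGroup.mk' N with hf
  haveI : (C.map f).Normal := Subgroup.Normal.map inferInstance f (QuotientGroup.mk'_surjective N)
  have hne : C.map f ≠ ⊥ := by
    rw [Ne, Subgroup.map_eq_bot_iff, hf, QuotientGroup.ker_mk']
    exact hcon
  obtain ⟨z, ⟨hz, hzc⟩, hz1⟩ := (Subgroup.ne_bot_iff_exists_ne_one.mp
    (inf_center_ne_bot (C.map f) hne) : ∃ z, _) |> fun ⟨a, ha⟩ =>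
      (⟨a.1, a.2, fun h => ha (Subtype.ext h)⟩ : ∃ z, z ∈ C.map f ⊓ center _ ∧ z ≠ 1)
  obtain ⟨x, hxC, rfl⟩ := hz
  set M := N ⊔ zpowers x with hM
  have hMn : M.Normal := by
    have : M = (zpowers (f x)).comap f := by
      rw [← MonoidHom.map_zpowers, comap_map_eq, hf, QuotientGroup.ker_mk', sup_comm]
    rw [this]
    haveI : (zpowers (f x)).Normal := ⟨fun n hn g => by
      rw [Subgroup.mem_center_iff.1 ((zpowers_le.2 hzc) hn) g, mul_inv_cancel_right]
      exact hn⟩
    infer_instance
  have hMcomm : IsMulCommutative M := by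
    have hle : M ≤ centralizer (M : Set G) := by
      have h1 : zpowers x ≤ C := zpowers_le.mpr hxC
      have h1' : N ≤ centralizer (zpowers x : Set G) := le_centralizer_iff.mp h1
      refine sup_le (le_centralizer_iff.mpr (sup_le hNC h1)) (le_centralizer_iff.mpr (sup_le h1' ?_))
      intro a ha
      refine mem_centralizer_iff.mpr fun b hb => ?_
      obtain ⟨i, rfl⟩ := ha
      obtain ⟨j, rfl⟩ := hb
      exact (zpow_mul_comm x j i)
    exact ⟨⟨fun a b => Subtype.ext (mem_centralizer_iff.mp (hle b.2) a a.2)⟩⟩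
  apply hz1
  rw [hf]
  refine (QuotientGroup.eq_one_iff x).mpr ?_
  rw [← hmax M hMn hMcomm le_sup_left]
  exact mem_sup_right (mem_zpowers x)

theorem pPrimeCore_quotient_eq_bot [Finite G] {p : ℕ} :
    pPrimeCore p (G ⧸ pPrimeCore p G) = ⊥ := by
  set f := QuotientGroup.mk' (pPrimeCore p G) with hf
  set M := (pPrimeCore p (G ⧸ pPrimeCore p G)).comap f with hM
  have hc : (Nat.card M).Coprime p := by
    rw [hM, hf, card_comap_mk']
    exact Nat.Coprime.mul_left (Cfsg.Lib.Components.coprime_card_pPrimeCore p)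
      (Cfsg.Lib.Components.coprime_card_pPrimeCore p)
  have hle : M ≤ pPrimeCore p G := Cfsg.Lib.Components.le_pPrimeCore hc
  rw [← map_comap_eq_self_of_surjective (QuotientGroup.mk'_surjective (pPrimeCore p G))
    (pPrimeCore p (G ⧸ pPrimeCore p G)), ← hf, ← hM, Subgroup.map_eq_bot_iff, hf,
    QuotientGroup.ker_mk']
  exact hle

theorem abelian_sylow_sup_core_normal [Finite G] [Group.IsSolvable G] {p : ℕ} [Fact p.Prime]
    (P : Sylow p G) (hP : IsMulCommutative P) : ((P : Subgroup G) ⊔ pPrimeCore p G).Normal := by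
  set f := QuotientGroup.mk' (pPrimeCore p G) with hf
  set Q := P.mapSurjective (QuotientGroup.mk'_surjective (pPrimeCore p G)) with hQ
  have hle : (Q : Subgroup (G ⧸ pPrimeCore p G)) ≤ pCore p (G ⧸ pPrimeCore p G) := by
    refine le_trans ?_ (centralizer_pCore_le p pPrimeCore_quotient_eq_bot)
    rintro _ ⟨a, ha, rfl⟩
    refine mem_centralizer_iff.mpr fun y hy => ?_
    obtain ⟨b, hb, rfl⟩ := pCore_le_sylow p Q hy
    rw [← map_mul, ← map_mul]
    exact congrArg f (congrArg Subtype.val (mul_comm' (⟨b, hb⟩ : (P : Subgroup G)) ⟨a, ha⟩))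
  have heq : (P : Subgroup G).map f = pCore p (G ⧸ pPrimeCore p G) :=
    le_antisymm hle (pCore_le_sylow p Q)
  have hn : ((P : Subgroup G).map f).Normal := by
    rw [heq]; infer_instance
  have := hn.comap f
  rwa [comap_map_eq, hf, QuotientGroup.ker_mk'] at this

end Cfsg.Lib.Coprime
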