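import Cfsg.Agent.Coprime.Hall
import Cfsg.Agent.Components.GenFitting

/-!
Basics on cores and the Fitting subgroup.
-/

set_option linter.style.haveILetI false
set_option linter.unusedSectionVars false

namespace Cfsg.Lib.Coprime

open Subgroup Cfsg.Lib.Components

universe u

variable {G : Type u} [Group G] [Finite G]

theorem layer_eq_bot_of_solvable [hsol : Group.IsSolvable G] : layer G = ⊥ := by
  rw [eq_bot_iff]
  exact sSup_le fun L hL => absurd (inferInstance : Group.IsSolvable L) (comp_not_isSolvable hL)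

/-- `C_G(F(G)) ≤ F(G)` for solvable `G` -/
theorem centralizer_fitting_le [Group.IsSolvable G] :
    centralizer (fittingSubgroup G : Set G) ≤ fittingSubgroup G :=
  centralizer_fitting_le_iff.mpr layer_eq_bot_of_solvable

theorem fitting_ne_bot [Group.IsSolvable G] [Nontrivial G] : fittingSubgroup G ≠ ⊥ := by
  intro h
  have h2 := centralizer_fitting_le (G := G)
  rw [h] at h2
  have htop : centralizer ((⊥ : Subgroup G) : Set G) = ⊤ := eq_top_iff.mpr fun x _ =>
    mem_centralizer_iff.mpr fun y hy => by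
      rw [SetLike.mem_coe, mem_bot] at hy
      simp [hy]
  rw [htop] at h2
  exact bot_ne_top (α := Subgroup G) (le_bot_iff.mp h2).symm

theorem pCore_le_pPrimeCore {p q : ℕ} [hq : Fact q.Prime] (hp : p.Prime) (h : q ≠ p) :
    pCore q G ≤ pPrimeCore p G := by
  refine le_pPrimeCore ?_
  obtain ⟨k, hk⟩ := IsPGroup.iff_card.mp (isPGroup_pCore (G := G) q)
  rw [hk]
  exact Nat.Coprime.pow_left k ((Nat.coprime_primes hq.out hp).mpr h)

theorem fitting_eq_pCore (p : ℕ) [hp : Fact p.Prime] (h : pPrimeCore p G = ⊥) :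
    fittingSubgroup G = pCore p G := by
  refine le_antisymm ?_ (le_fitting (isPGroup_pCore p).isNilpotent)
  rw [fitting_eq_iSup_pCore]
  refine iSup_le fun q => ?_
  by_cases hq : q.1 = p
  · rw [hq]
  · haveI := Fact.mk q.2
    exact ((pCore_le_pPrimeCore hp.out hq).trans h.le).trans bot_le

theorem centralizer_pCore_le [Group.IsSolvable G] (p : ℕ) [Fact p.Prime]
    (h : pPrimeCore p G = ⊥) : centralizer (pCore p G : Set G) ≤ pCore p G := by
  rw [← fitting_eq_pCore p h]
  exact centralizer_fitting_le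

theorem pCore_le_sylow (p : ℕ) [Fact p.Prime] (P : Sylow p G) : pCore p G ≤ (P : Subgroup G) := by
  obtain ⟨Q, hQ⟩ := (isPGroup_pCore (G := G) p).exists_le_sylow
  obtain ⟨g, hg⟩ := MulAction.exists_smul_eq G Q P
  have h := conjMap_mono (g := g) hQ
  rw [conjMap_eq_self (le_normalizer_of_normal (K := ⊤) (mem_top g))] at h
  rw [← hg, Sylow.coe_subgroup_smul, conj_smul_eq]
  exact h

theorem pCore_eq_iInf (p : ℕ) [Fact p.Prime] :
    pCore p G = ⨅ P : Sylow p G, (P : Subgroup G) := by
  refine le_antisymm (le_iInf fun P => pCore_le_sylow p P) ?_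
  have hn : (⨅ P : Sylow p G, (P : Subgroup G)).Normal := ⟨fun x hx g => by
    rw [mem_iInf] at hx ⊢
    intro P
    have h := hx (g⁻¹ • P)
    rw [Sylow.coe_subgroup_smul, conj_smul_eq, mem_conjMap] at h
    simpa using h⟩
  exact le_pCore ((default : Sylow p G).2.to_le (iInf_le _ _))

end Cfsg.Lib.Coprime
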