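/-
Hall `p'`-subgroups of `p`-soluble groups.
-/
import Cfsg.Agent.Coprime.Hall
import Cfsg.Agent.GaschutzYen.Basic

set_option linter.style.haveILetI false
set_option linter.unusedSectionVars false

namespace Cfsg.Lib.Coprime

open Subgroup

universe u

/-- a non-trivial `p`-soluble group has a non-trivial normal subgroup that is a `p`- or `p'`-group -/
theorem exists_normal_p_or_prime {p : ℕ} [hp : Fact p.Prime] (G : Type u) [Group G] [Finite G]
    [Nontrivial G] (h : Cfsg.IsPSolvable p G) :
    ∃ N : Subgroup G, N.Normal ∧ N ≠ ⊥ ∧ (IsPGroup p N ∨ ¬ p ∣ Nat.card N) := by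
  rcases Cfsg.Lib.GaschutzYen.exists_core_ne_bot h with h' | h'
  · exact ⟨_, Cfsg.Lib.Components.pCore_normal' p, h', Or.inl (Cfsg.Lib.Components.isPGroup_pCore p)⟩
  · exact ⟨_, Cfsg.Lib.Components.pPrimeCore_normal' p, h', Or.inr fun hd =>
      (hp.out.coprime_iff_not_dvd.1 (Cfsg.Lib.Components.coprime_card_pPrimeCore p).symm) hd⟩

theorem pHall_exists_aux {p : ℕ} [hp : Fact p.Prime] (n : ℕ) : ∀ (G : Type u) [Group G] [Finite G],
    Nat.card G ≤ n → Cfsg.IsPSolvable p G → ∃ H : Subgroup G, IsPiHall {q : ℕ | q ≠ p} H := by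
  induction n with
  | zero => intro G _ _ hc; exact absurd hc (by have := Nat.card_pos (α := G); omega)
  | succ n ih =>
    intro G _ _ hcard hsol
    rcases subsingleton_or_nontrivial G with hs | hnt
    · refine ⟨⊥, fun q hq h => absurd (Subgroup.card_bot (G := G) ▸ h) hq.not_dvd_one,
        fun q hq _ h => ?_⟩
      rw [index_bot, Nat.card_eq_one_iff_unique.mpr ⟨hs, inferInstance⟩] at h
      exact hq.not_dvd_one h
    obtain ⟨N, hNn, hNb, hN⟩ := exists_normal_p_or_prime G hsol
    obtain ⟨Q, hQ⟩ := ih (G ⧸ N) (by have := card_quotient_lt hNb; omega)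
      (Cfsg.Lib.GaschutzYen.isPSolvable_quotient N hsol)
    set M := Q.comap (QuotientGroup.mk' N) with hM
    have hMc : Nat.card M = Nat.card N * Nat.card Q := card_comap_mk' Q
    have hMi : M.index = Q.index := index_comap_of_surjective _ (QuotientGroup.mk'_surjective N)
    rcases hN with hNp | hNp
    · obtain ⟨k, hk⟩ := IsPGroup.iff_card.mp hNp
      have hNM : N ≤ M := fun x hx => by
        rw [hM, mem_comap, show QuotientGroup.mk' N x = 1 from (QuotientGroup.eq_one_iff x).mpr hx]
        exact one_mem _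
      have hrel : N.relIndex M = Nat.card Q := by
        apply Nat.eq_of_mul_eq_mul_left (Nat.card_pos (α := N))
        rw [← hMc, ← relIndex_bot_left, relIndex_mul_relIndex _ _ _ bot_le hNM, relIndex_bot_left]
      have hcopQ : (Nat.card N).Coprime (Nat.card Q) := by
        rw [hk]
        exact Nat.Coprime.pow_left k (hp.out.coprime_iff_not_dvd.mpr fun h => hQ.1 p hp.out h rfl)
      obtain ⟨H, hHM, -, hHc⟩ := exists_complement_in hNM le_normalizer_of_normal (hrel ▸ hcopQ)
      refine ⟨H, fun q hq h => hQ.1 q hq (by rwa [hHc, hrel] at h), fun q hq hqi h => ?_⟩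
      have hi : H.index = Nat.card N * Q.index := by
        apply Nat.eq_of_mul_eq_mul_left (Nat.card_pos (α := H))
        rw [H.card_mul_index, hHc, hrel, ← mul_assoc, mul_comm (Nat.card Q), ← hMc, ← hMi,
          M.card_mul_index]
      rw [hi] at h
      rcases hq.dvd_mul.mp h with h | h
      · rw [hk] at h
        exact hqi ((Nat.prime_dvd_prime_iff_eq hq hp.out).mp (hq.dvd_of_dvd_pow h))
      · exact hQ.2 q hq hqi h
    · refine ⟨M, fun q hq h => ?_, fun q hq hqi => hMi ▸ hQ.2 q hq hqi⟩
      rw [hMc] at h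
      rcases hq.dvd_mul.mp h with h | h
      · exact fun e : q = p => hNp (e ▸ h)
      · exact hQ.1 q hq h

theorem pHall_contain_aux {p : ℕ} [hp : Fact p.Prime] (n : ℕ) : ∀ (G : Type u) [Group G] [Finite G],
    Nat.card G ≤ n → Cfsg.IsPSolvable p G → ∀ H K : Subgroup G, IsPiHall {q : ℕ | q ≠ p} H →
      ¬ p ∣ Nat.card K → ∃ g : G, K ≤ conjMap g H := by
  induction n with
  | zero => intro G _ _ hc; exact absurd hc (by have := Nat.card_pos (α := G); omega)
  | succ n ih =>
    intro G _ _ hcard hsol H K hH hK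
    rcases subsingleton_or_nontrivial G with hs | hnt
    · exact ⟨1, fun x _ => by rw [Subsingleton.elim x 1]; exact one_mem _⟩
    obtain ⟨N, hNn, hNb, hN⟩ := exists_normal_p_or_prime G hsol
    set f := QuotientGroup.mk' N with hf
    have hs : Function.Surjective f := QuotientGroup.mk'_surjective N
    obtain ⟨q', hq'⟩ := ih (G ⧸ N) (by have := card_quotient_lt hNb; omega)
      (Cfsg.Lib.GaschutzYen.isPSolvable_quotient N hsol)
      (H.map f) (K.map f) (isPiHall_map hH hs) (fun h => hK (h.trans (card_map_dvd _ f)))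
    obtain ⟨g, rfl⟩ := hs q'
    set H₁ := conjMap g H with hH₁
    have hH₁h : IsPiHall {q : ℕ | q ≠ p} H₁ := isPiHall_conjMap hH g
    have hKle : K ≤ N ⊔ H₁ := by
      rw [← map_conjMap, map_le_iff_le_comap, Subgroup.comap_map_eq, hf,
        QuotientGroup.ker_mk', sup_comm] at hq'
      exact hq'
    rcases hN with hNp | hNp
    · obtain ⟨k, hk⟩ := IsPGroup.iff_card.mp hNp
      have hcop : ∀ L : Subgroup G, ¬ p ∣ Nat.card L → (Nat.card N).Coprime (Nat.card L) := by
        intro L hL
        rw [hk]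
        exact Nat.Coprime.pow_left k (hp.out.coprime_iff_not_dvd.mpr hL)
      haveI : Group.IsNilpotent N := hNp.isNilpotent
      obtain ⟨x, -, hx⟩ := exists_conj_le_of_coprime (N := N) (H := H₁) le_normalizer_of_normal
        (hcop _ fun h => hH₁h.1 p hp.out h rfl) (Or.inl inferInstance) hKle (hcop _ hK)
      exact ⟨x * g, by rw [← conjMap_mul]; exact hx⟩
    · refine ⟨g, hKle.trans (sup_le ?_ le_rfl)⟩
      have h1 := card_sup_mul_card_inf (N := N) (H := H₁) le_normalizer_of_normal
      have h2 : Nat.card ↥(N ⊔ H₁) ∣ Nat.card H₁ := by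
        refine Nat.Coprime.dvd_of_dvd_mul_right ?_ (H₁.card_mul_index ▸ card_subgroup_dvd_card _)
        refine coprime_of_forall_prime fun q hq hqd => hH₁h.2 q hq ?_
        have h3 : q ∣ Nat.card N * Nat.card H₁ := h1 ▸ dvd_mul_of_dvd_left hqd _
        rcases hq.dvd_mul.mp h3 with h | h
        · exact fun e : q = p => hNp (e ▸ h)
        · exact hH₁h.1 q hq h
      exact le_sup_left.trans
        (Subgroup.eq_of_le_of_card_ge (le_sup_right : H₁ ≤ N ⊔ H₁) (Nat.le_of_dvd Nat.card_pos h2)).ge

end Cfsg.Lib.Coprime
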