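/-
Invariant Hall subgroups under a coprime action on a soluble group.
-/
import Cfsg.Agent.Coprime.Hall
import Cfsg.Agent.Coprime.Sylow
import Cfsg.Prelude.Def_OddOrderLocal

set_option linter.style.haveILetI false
set_option linter.unusedSectionVars false

namespace Cfsg.Lib.Coprime

open Subgroup
open scoped Pointwise

universe u

/-- the normal case, by induction on the order of the acted group -/
theorem invariantHall_ge_aux (π : Set ℕ) (n : ℕ) : ∀ (X : Type u) [Group X] [Finite X] (A K U : Subgroup X),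
    Nat.card K ≤ n → K.Normal → (Nat.card A).Coprime (Nat.card K) → Group.IsSolvable K → U ≤ K →
    A ≤ normalizer (U : Set X) → (∀ p : ℕ, p.Prime → p ∣ Nat.card U → p ∈ π) →
    ∃ H : Subgroup X, Cfsg.IsPiHallOf π H K ∧ A ≤ normalizer (H : Set X) ∧ U ≤ H := by
  induction n with
  | zero => intro X _ _ A K U hc; exact absurd hc (by have := Nat.card_pos (α := K); omega)
  | succ n ih =>
    intro X _ _ A K U hc hK hcop hsol hUK hAU hU
    by_cases hKb : K = ⊥
    · subst hKb
      refine ⟨⊥, ⟨le_rfl, fun p hp h => absurd (card_bot (G := X) ▸ h) hp.not_dvd_one, fun p hp _ h => ?_⟩,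
        le_normalizer_of_normal, hUK⟩
      rw [relIndex_self] at h
      exact hp.not_dvd_one h
    obtain ⟨N, hNK, hNn, hNb, hmin⟩ := exists_minimal_normal hK hKb
    obtain ⟨-, p, hp, hNp, -⟩ := minimal_normal_solvable (isSolvable_of_le hNK hsol) hNb hmin
    haveI := Fact.mk hp
    obtain ⟨k, hk⟩ := IsPGroup.iff_card.mp hNp
    set f := QuotientGroup.mk' N with hf
    have hs : Function.Surjective f := QuotientGroup.mk'_surjective N
    have hcardK : Nat.card K = Nat.card N * Nat.card (K.map f) := by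
      rw [← card_comap_mk' (K.map f), comap_map_eq, QuotientGroup.ker_mk', sup_eq_left.2 hNK]
    have hlt : Nat.card (K.map f) < Nat.card K := by
      rw [hcardK]
      exact lt_mul_of_one_lt_left Nat.card_pos (one_lt_card_iff_ne_bot N |>.2 hNb)
    obtain ⟨Q, hQ, hAQ, hUQ⟩ := ih (X ⧸ N) (A.map f) (K.map f) (U.map f) (by omega) (hK.map f hs)
      ((hcop.coprime_dvd_left (card_map_dvd _ f)).coprime_dvd_right (card_map_dvd _ f))
      (isSolvable_map hsol f) (map_mono hUK) ((map_mono hAU).trans (le_normalizer_map f))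
      (piSubgroup_map hU f)
    set M := Q.comap f with hM
    have hNM : N ≤ M := fun x hx => by
      rw [hM, mem_comap, show f x = 1 from (QuotientGroup.eq_one_iff x).mpr hx]
      exact one_mem _
    have hMK : M ≤ K := (comap_mono hQ.1).trans (by rw [comap_map_eq, QuotientGroup.ker_mk', sup_eq_left.2 hNK])
    have hAM : A ≤ normalizer (M : Set X) := fun a ha => le_normalizer_comap f (hAQ ⟨a, ha, rfl⟩)
    have hUM : U ≤ M := fun u hu => hUQ ⟨u, hu, rfl⟩
    have hMc : Nat.card M = Nat.card N * Nat.card Q := card_comap_mk' Q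
    have hMrel : M.relIndex K = Q.relIndex (K.map f) := by
      apply Nat.eq_of_mul_eq_mul_left (Nat.card_pos (α := M))
      rw [← relIndex_bot_left, relIndex_mul_relIndex _ _ _ bot_le hMK, relIndex_bot_left,
        relIndex_bot_left, hMc, hcardK, mul_assoc]
      congr 1
      rw [← relIndex_bot_left (K.map f), ← relIndex_bot_left Q, relIndex_mul_relIndex _ _ _ bot_le hQ.1]
    by_cases hpi : p ∈ π
    · refine ⟨M, ⟨hMK, fun q hq h => ?_, fun q hq hqi => hMrel ▸ hQ.2.2 q hq hqi⟩, hAM, hUM⟩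
      rw [hMc, hk] at h
      rcases hq.dvd_mul.mp h with h | h
      · rwa [(Nat.prime_dvd_prime_iff_eq hq hp).mp (hq.dvd_of_dvd_pow h)]
      · exact hQ.2.1 q hq h
    -- a complement of `N` in `M A` may be chosen to contain `U A`
    have hcopQ : (Nat.card N).Coprime (Nat.card Q) := by
      rw [hk]
      exact Nat.Coprime.pow_left k ((hp.coprime_iff_not_dvd).mpr fun h => hpi (hQ.2.1 p hp h))
    have hcopA : (Nat.card N).Coprime (Nat.card A) := (hcop.coprime_dvd_right (card_dvd_of_le hNK)).symm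
    have hNL : N ≤ M ⊔ A := hNM.trans le_sup_left
    have hcL : Nat.card ↥(M ⊔ A) = Nat.card N * (Nat.card Q * Nat.card A) := by
      rw [card_sup_coprime hAM (hcop.coprime_dvd_right (card_dvd_of_le hMK)).symm, hMc, mul_assoc]
    have hrel : N.relIndex (M ⊔ A) = Nat.card Q * Nat.card A := by
      apply Nat.eq_of_mul_eq_mul_left (Nat.card_pos (α := N))
      rw [← hcL, ← relIndex_bot_left, relIndex_mul_relIndex _ _ _ bot_le hNL, relIndex_bot_left]
    obtain ⟨B, hBL, hBsup, hBc⟩ := exists_complement_in hNL le_normalizer_of_normal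
      (hrel ▸ hcopQ.mul_right hcopA)
    rw [hrel] at hBc
    have hcUA : (Nat.card N).Coprime (Nat.card ↥(U ⊔ A)) := by
      rw [card_sup_coprime hAU (hcop.coprime_dvd_right (card_dvd_of_le hUK)).symm]
      refine Nat.Coprime.mul_right ?_ hcopA
      rw [hk]
      exact Nat.Coprime.pow_left k ((hp.coprime_iff_not_dvd).mpr fun h => hpi (hU p hp h))
    haveI : Group.IsNilpotent N := hNp.isNilpotent
    have hsupB : N ⊔ B = M ⊔ A := by
      refine eq_of_le_of_card_eq (sup_le hNL hBL) ?_
      rw [card_sup_coprime le_normalizer_of_normal (hBc ▸ hcopQ.mul_right hcopA), hcL, hBc]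
    obtain ⟨x, hx, hUA⟩ := exists_conj_le_of_coprime (N := N) (H := B) le_normalizer_of_normal
      (hBc ▸ hcopQ.mul_right hcopA) (Or.inl inferInstance)
      (hsupB.symm ▸ sup_le_sup_right hUM A : U ⊔ A ≤ N ⊔ B) hcUA
    set B' := conjMap x B with hB'
    have hB'c : Nat.card B' = Nat.card Q * Nat.card A := by rw [hB', card_conjMap, hBc]
    have hxL : x ∈ normalizer ((M ⊔ A : Subgroup X) : Set X) := le_normalizer (hNL hx)
    have hB'L : B' ≤ M ⊔ A := (conjMap_mono hBL).trans (conjMap_eq_self hxL).le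
    have hNB' : N ⊓ B' = ⊥ := inf_eq_bot_of_coprime (hB'c ▸ hcopQ.mul_right hcopA)
    set H := M ⊓ B' with hH
    have hAB' : A ≤ B' := le_sup_right.trans hUA
    have hNH : N ⊔ H = M := by
      refine le_antisymm (sup_le hNM inf_le_left) fun m hm => ?_
      have hm' : m ∈ N ⊔ B' := by
        have : N ⊔ B' = M ⊔ A := eq_of_le_of_card_eq (sup_le hNL hB'L) (by
          rw [card_sup_coprime le_normalizer_of_normal (hB'c ▸ hcopQ.mul_right hcopA), hcL, hB'c])
        exact this.ge (mem_sup_left hm)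
      obtain ⟨a, ha, b, hb, rfl⟩ := mem_sup_of_normal_left.1 hm'
      exact mul_mem (mem_sup_left ha) (mem_sup_right ⟨by simpa using mul_mem (inv_mem (hNM ha)) hm, hb⟩)
    have hHc : Nat.card H = Nat.card Q := by
      apply Nat.eq_of_mul_eq_mul_left (Nat.card_pos (α := N))
      rw [← hMc, ← hNH, card_sup_of_inf_eq_bot le_normalizer_of_normal
        (le_bot_iff.1 ((inf_le_inf_left N inf_le_right).trans hNB'.le))]
    refine ⟨H, ⟨inf_le_left.trans hMK, fun q hq h => hQ.2.1 q hq (hHc ▸ h), fun q hq hqi h => ?_⟩,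
      le_normalizer_inf hAM (hAB'.trans le_normalizer), le_inf hUM (le_sup_left.trans hUA)⟩
    have hrelH : H.relIndex K = Nat.card N * M.relIndex K := by
      rw [← relIndex_mul_relIndex H M K inf_le_left hMK]
      congr 1
      apply Nat.eq_of_mul_eq_mul_left (Nat.card_pos (α := H))
      rw [← relIndex_bot_left, relIndex_mul_relIndex _ _ _ bot_le inf_le_left, relIndex_bot_left,
        relIndex_bot_left, hMc, hHc, mul_comm]
    rw [hrelH, hMrel, hk] at h
    rcases hq.dvd_mul.mp h with h | h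
    · exact hpi ((Nat.prime_dvd_prime_iff_eq hq hp).mp (hq.dvd_of_dvd_pow h) ▸ hqi)
    · exact hQ.2.2 q hq hqi h

variable {X : Type u} [Group X] [Finite X]

theorem exists_invariantHall_ge {A K U : Subgroup X} (hAK : A ≤ normalizer (K : Set X))
    (hcop : (Nat.card A).Coprime (Nat.card K)) (hsol : Group.IsSolvable K) {π : Set ℕ} (hUK : U ≤ K)
    (hAU : A ≤ normalizer (U : Set X)) (hU : ∀ p : ℕ, p.Prime → p ∣ Nat.card U → p ∈ π) :
    ∃ H : Subgroup X, Cfsg.IsPiHallOf π H K ∧ A ≤ normalizer (H : Set X) ∧ U ≤ H := by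
  set L := K ⊔ A
  haveI hn : (K.subgroupOf L).Normal := normal_subgroupOf_of_le_normalizer (sup_le_normalizer hAK)
  have eK : Nat.card (K.subgroupOf L) = Nat.card K := Nat.card_congr (subgroupOfEquivOfLe le_sup_left).toEquiv
  have eA : Nat.card (A.subgroupOf L) = Nat.card A := Nat.card_congr (subgroupOfEquivOfLe le_sup_right).toEquiv
  have eU : Nat.card (U.subgroupOf L) = Nat.card U :=
    Nat.card_congr (subgroupOfEquivOfLe (hUK.trans le_sup_left)).toEquiv
  obtain ⟨H, ⟨h1, h2, h3⟩, h4, h5⟩ := invariantHall_ge_aux π _ L (A.subgroupOf L) (K.subgroupOf L)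
    (U.subgroupOf L) le_rfl hn (by rwa [eA, eK]) (Group.isSolvable_of_isSolvable_injective
      (f := (subgroupOfEquivOfLe (le_sup_left : K ≤ L)).toMonoidHom) (MulEquiv.injective _))
    (fun x hx => hUK hx) (fun a ha => mem_normalizer_iff.2 fun k => by
      simp only [mem_subgroupOf, Subgroup.coe_mul, Subgroup.coe_inv]
      exact mem_normalizer_iff.1 (hAU ha) k)
    (fun q hq h => hU q hq (eU ▸ h))
  have hHK : H.map L.subtype ≤ K := by
    rintro _ ⟨x, hx, rfl⟩
    exact h1 hx
  refine ⟨H.map L.subtype, ⟨hHK, fun q hq h => h2 q hq (by rwa [Subgroup.card_map_of_injective L.subtype_injective] at h),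
    fun q hq hqi h => h3 q hq hqi ?_⟩, fun a ha => le_normalizer_map L.subtype ⟨⟨a, mem_sup_right ha⟩, h4 ha, rfl⟩,
    fun u hu => ⟨⟨u, mem_sup_left (hUK hu)⟩, h5 hu, rfl⟩⟩
  have : H.relIndex (K.subgroupOf L) = (H.map L.subtype).relIndex K := by
    apply Nat.eq_of_mul_eq_mul_left (Nat.card_pos (α := H))
    conv_rhs => rw [← Subgroup.card_map_of_injective (K := H) L.subtype_injective,
      ← relIndex_bot_left, relIndex_mul_relIndex _ _ _ bot_le hHK, relIndex_bot_left]
    rw [← relIndex_bot_left, relIndex_mul_relIndex _ _ _ bot_le h1, relIndex_bot_left, eK]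
  rwa [this]

theorem isPiHall_subgroupOf {π : Set ℕ} {H K : Subgroup X} (h : Cfsg.IsPiHallOf π H K) :
    Cfsg.IsPiHall π (H.subgroupOf K) :=
  ⟨fun q hq hd => h.2.1 q hq (by rwa [Nat.card_congr (subgroupOfEquivOfLe h.1).toEquiv] at hd),
    fun q hq hne hd => h.2.2 q hq hne hd⟩

theorem invariantHall_conj {A K : Subgroup X} (hAK : A ≤ normalizer (K : Set X))
    (hcop : (Nat.card A).Coprime (Nat.card K)) (hsol : Group.IsSolvable K) {π : Set ℕ} {P Q : Subgroup X}
    (hP : Cfsg.IsPiHallOf π P K) (hAP : A ≤ normalizer (P : Set X))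
    (hQ : Cfsg.IsPiHallOf π Q K) (hAQ : A ≤ normalizer (Q : Set X)) :
    ∃ c ∈ K ⊓ centralizer (A : Set X), Q = conjMap c P := by
  obtain ⟨k, hk⟩ := piHall_conj (isPiHall_subgroupOf hP) (isPiHall_subgroupOf hQ)
  have hkQ : Q = conjMap (k : X) P := by
    have := congrArg (Subgroup.map K.subtype) hk
    rwa [map_subgroupOf_eq_of_le hQ.1, map_conjMap, map_subgroupOf_eq_of_le hP.1] at this
  set D := K ⊓ normalizer (P : Set X)
  obtain ⟨d, hd, hc⟩ := exists_fixed_in_coset (D := D) (le_normalizer_inf hAK (hAP.trans le_normalizer))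
    (coprime_of_le inf_le_left hcop) (isSolvable_or_of_le inf_le_left (Or.inr hsol)) (k := (k : X)) (by
      intro a ha
      refine ⟨?_, ?_⟩
      · show (k : X)⁻¹ * a * k * a⁻¹ ∈ K
        rw [show (k : X)⁻¹ * a * k * a⁻¹ = (k : X)⁻¹ * (a * k * a⁻¹) by group]
        exact mul_mem (inv_mem k.2) ((mem_normalizer_iff.mp (hAK ha) _).mp k.2)
      · show (k : X)⁻¹ * a * k * a⁻¹ ∈ normalizer (P : Set X)
        rw [← conjMap_eq_self_iff, ← conjMap_mul, conjMap_eq_self (inv_mem (hAP ha)), ← conjMap_mul,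
          ← hkQ, ← conjMap_mul, conjMap_eq_self (hAQ ha), hkQ, conjMap_inv_conjMap])
  exact ⟨k * d, ⟨mul_mem k.2 hd.1, hc⟩, by rw [← conjMap_mul, conjMap_eq_self hd.2, hkQ]⟩

end Cfsg.Lib.Coprime
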