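/-
When are all maximal invariant subgroups of a coprime action conjugate under the fixed points?
-/
import Cfsg.Agent.Coprime.Sylow
import Cfsg.Agent.PGroups.Basic
import Mathlib.GroupTheory.Frattini
import Mathlib.GroupTheory.SemidirectProduct

set_option linter.style.haveILetI false
set_option linter.unusedSectionVars false

universe u v

namespace Cfsg.Lib.Coprime.MaximalInvariant

open Subgroup
open scoped Pointwise commutatorElement

/-- an invariant subgroup of an elementary abelian group has an invariant complement -/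
theorem exists_invariant_complement {V : Type u} [Group V] [Finite V] {A : Type v} [Group A] [Finite A]
    {p : ℕ} [hp : Fact p.Prime] (hc : ∀ x y : V, x * y = y * x) (he : ∀ x : V, x ^ p = 1)
    (hA : ¬ p ∣ Nat.card A) (σ : A →* MulAut V) (M : Subgroup V) (hM : ∀ a, ∀ x ∈ M, σ a x ∈ M) :
    ∃ C : Subgroup V, M ⊓ C = ⊥ ∧ M ⊔ C = ⊤ ∧ ∀ a, ∀ x ∈ C, σ a x ∈ C := by
  classical
  haveI := Fintype.ofFinite A
  letI : CommGroup V := { (inferInstance : Group V) with mul_comm := hc }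
  -- some complement
  obtain ⟨K, hK, hKmax⟩ := WellFounded.has_min (wellFounded_gt (α := Subgroup V)) {K : Subgroup V | M ⊓ K = ⊥}
    ⟨⊥, inf_bot_eq M⟩
  have hsup : M ⊔ K = ⊤ := by
    rw [eq_top_iff]
    intro v _
    by_contra hv
    refine hKmax (K ⊔ zpowers v) ?_ (lt_of_le_of_ne le_sup_left fun e => hv (mem_sup_right (e.ge (mem_sup_right (mem_zpowers v)))))
    show M ⊓ (K ⊔ zpowers v) = ⊥
    rw [eq_bot_iff_forall]
    intro m hm
    obtain ⟨hmM, hmK⟩ := Subgroup.mem_inf.1 hm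
    obtain ⟨k, hk, w, hw, rfl⟩ := mem_sup.1 hmK
    by_cases hw1 : w = 1
    · subst hw1
      rw [mul_one] at hmM ⊢
      exact (eq_bot_iff_forall _).1 hK k ⟨hmM, hk⟩
    · exfalso
      have hwv : w ∈ M ⊔ K := by
        have e : w = (k * w) * k⁻¹ := by rw [mul_comm k w, mul_inv_cancel_right]
        rw [e]
        exact mul_mem (mem_sup_left hmM) (mem_sup_right (inv_mem hk))
      obtain ⟨i, rfl⟩ := mem_zpowers_iff.1 hw
      have hpi : IsCoprime i (p : ℤ) := by
        refine ((Nat.prime_iff_prime_int.1 hp.out).coprime_iff_not_dvd.2 fun hd => hw1 ?_).symm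
        obtain ⟨j, rfl⟩ := hd
        rw [zpow_mul, zpow_natCast, he, one_zpow]
      obtain ⟨s, t, hst⟩ := hpi
      refine hv ?_
      have : v = (v ^ i) ^ s := by
        have h1 : v ^ (t * (p : ℤ)) = 1 := by rw [mul_comm, zpow_mul, zpow_natCast, he, one_zpow]
        conv_lhs => rw [← zpow_one v, ← hst, zpow_add, h1, mul_one, mul_comm, zpow_mul]
      rw [this]
      exact zpow_mem hwv s
  let f : M × K →* V := MonoidHom.mk' (fun q => (q.1 : V) * q.2) (fun a b => mul_mul_mul_comm _ _ _ _)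
  have hf : Function.Bijective f := by
    refine ⟨?_, fun v => ?_⟩
    · rw [← MonoidHom.ker_eq_bot_iff, eq_bot_iff_forall]
      rintro ⟨m, k⟩ h
      have h1 : (m : V) * k = 1 := h
      have h2 : (m : V) = 1 := (eq_bot_iff_forall _).1 hK m ⟨m.2, by
        rw [mul_eq_one_iff_eq_inv.1 h1]; exact K.inv_mem k.2⟩
      rw [h2, one_mul] at h1
      exact Prod.ext (Subtype.ext h2) (Subtype.ext h1)
    · obtain ⟨m, hm, k, hk, rfl⟩ := mem_sup.1 (hsup.ge (mem_top v))
      exact ⟨(⟨m, hm⟩, ⟨k, hk⟩), rfl⟩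
  let e := MulEquiv.ofBijective f hf
  let π : V →* V := M.subtype.comp ((MonoidHom.fst M K).comp e.symm.toMonoidHom)
  have hπm : ∀ m ∈ M, π m = m := by
    intro m hm
    have : e.symm m = (⟨m, hm⟩, 1) := e.injective (by
      rw [e.apply_symm_apply]
      exact (mul_one m).symm)
    show (((e.symm m).1 : M) : V) = m
    rw [this]
  have hπM : ∀ v, π v ∈ M := fun v => (e.symm v).1.2
  let ψ : V →* V := MonoidHom.mk' (fun v => ∏ a : A, σ a (π (σ a⁻¹ v))) (fun v w => by
    simp only [map_mul, Finset.prod_mul_distrib])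
  have hψ : ∀ b v, ψ (σ b v) = σ b (ψ v) := by
    intro b v
    show ∏ a : A, σ a (π (σ a⁻¹ (σ b v))) = σ b (∏ a : A, σ a (π (σ a⁻¹ v)))
    rw [map_prod]
    refine (Fintype.prod_equiv (Equiv.mulLeft b) _ _ fun a => ?_).symm
    simp [MulAut.mul_apply]
  have hψM : ∀ v, ψ v ∈ M := fun v => Subgroup.prod_mem M fun a _ => hM _ _ (hπM _)
  have hψm : ∀ m ∈ M, ψ m = m ^ Nat.card A := by
    intro m hm
    show ∏ a : A, σ a (π (σ a⁻¹ m)) = _
    rw [Finset.prod_congr rfl fun a _ => show σ a (π (σ a⁻¹ m)) = m by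
      rw [hπm _ (hM _ _ hm)]; simp [MulAut.mul_apply]]
    rw [Finset.prod_const, Finset.card_univ, Nat.card_eq_fintype_card]
  have hinj : ∀ m ∈ M, m ^ Nat.card A = 1 → m = 1 := fun m _ h =>
    orderOf_eq_one_iff.1 (Nat.eq_one_of_dvd_coprimes (hp.out.coprime_iff_not_dvd.2 hA)
      (orderOf_dvd_of_pow_eq_one (he m)) (orderOf_dvd_of_pow_eq_one h))
  refine ⟨ψ.ker, ?_, ?_, fun a x hx => ?_⟩
  · rw [eq_bot_iff_forall]
    rintro m ⟨hm, hm'⟩
    exact hinj m hm ((hψm m hm).symm.trans hm')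
  · rw [eq_top_iff]
    intro v _
    let r : M → M := fun m => ⟨(m : V) ^ Nat.card A, pow_mem m.2 _⟩
    have hr : Function.Bijective r := Finite.injective_iff_bijective.1 fun x y h => Subtype.ext (by
      have h' : (x : V) ^ Nat.card A = (y : V) ^ Nat.card A := congrArg Subtype.val h
      exact mul_inv_eq_one.1 (hinj _ (mul_mem x.2 (inv_mem y.2)) (by rw [mul_pow, inv_pow, h', mul_inv_cancel])))
    obtain ⟨m, hm⟩ := hr.2 ⟨ψ v, hψM v⟩
    rw [show v = (m : V) * ((m : V)⁻¹ * v) by group]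
    refine mul_mem_sup m.2 ?_
    rw [MonoidHom.mem_ker, map_mul, map_inv, hψm _ m.2, show (m : V) ^ Nat.card A = ψ v from congrArg Subtype.val hm,
      inv_mul_cancel]
  · rw [MonoidHom.mem_ker] at hx ⊢
    rw [hψ, hx, map_one]

variable {A : Type v} {G : Type u} [Group A] [Finite A] [Group G] [Finite G] [MulDistribMulAction A G]

variable (A) in
def MaxInv (M : Subgroup G) : Prop :=
  M ≠ ⊤ ∧ (∀ a : A, ∀ x ∈ M, a • x ∈ M) ∧ ∀ L : Subgroup G, M < L → (∀ a : A, ∀ x ∈ L, a • x ∈ L) → L = ⊤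

theorem smul_mem_frattini (a : A) {x : G} (hx : x ∈ frattini G) : a • x ∈ frattini G := by
  have h := characteristic_iff_le_comap.1 (inferInstance : (frattini G).Characteristic)
    (MulDistribMulAction.toMulEquiv G a)
  exact h hx

theorem smul_mem_sup {M N : Subgroup G} (hM : ∀ a : A, ∀ x ∈ M, a • x ∈ M) (hN : ∀ a : A, ∀ x ∈ N, a • x ∈ N)
    (a : A) {x : G} (hx : x ∈ M ⊔ N) : a • x ∈ M ⊔ N :=
  (sup_le (fun y hy => mem_sup_left (hM a y hy)) (fun y hy => mem_sup_right (hN a y hy)) :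
    M ⊔ N ≤ (M ⊔ N).comap (MulDistribMulAction.toMonoidHom G a)) hx

theorem MaxInv.frattini_le {M : Subgroup G} (h : MaxInv A M) : frattini G ≤ M := by
  by_contra hle
  have hlt : M < M ⊔ frattini G := lt_of_le_of_ne le_sup_left fun e => hle (e ▸ le_sup_right)
  have htop := h.2.2 _ hlt fun a x hx => smul_mem_sup h.2.1 (fun a x hx => smul_mem_frattini a hx) a hx
  exact h.1 (frattini_nongenerating htop)

theorem exists_maxInv {H : Subgroup G} (hH : H ≠ ⊤) (hinv : ∀ a : A, ∀ x ∈ H, a • x ∈ H) :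
    ∃ M, MaxInv A M ∧ H ≤ M := by
  obtain ⟨M, hHM, hM⟩ := Set.Finite.exists_le_maximal
    (Set.toFinite {L : Subgroup G | L ≠ ⊤ ∧ ∀ a : A, ∀ x ∈ L, a • x ∈ L}) ⟨hH, hinv⟩
  refine ⟨M, ⟨hM.1.1, hM.1.2, fun L hL hLinv => ?_⟩, hHM⟩
  by_contra hne
  exact hL.not_ge (hM.2 ⟨hne, hLinv⟩ hL.le)

theorem exists_invariant_sylow_ext (hcop : (Nat.card A).Coprime (Nat.card G))
    (hsol : Group.IsSolvable A ∨ Group.IsSolvable G) (q : ℕ) [Fact q.Prime] :
    ∃ S : Subgroup G, IsPGroup q S ∧ ¬ q ∣ S.index ∧ ∀ a : A, ∀ x ∈ S, a • x ∈ S := by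
  let φ : A →* MulAut G := MulDistribMulAction.toMulAut A G
  let X := SemidirectProduct G A φ
  haveI : Finite X := Finite.of_equiv (G × A) SemidirectProduct.equivProd.symm
  set K := (SemidirectProduct.inl : G →* X).range with hK
  set A' := (SemidirectProduct.inr : A →* X).range with hA'
  haveI hKn : K.Normal := by
    rw [hK, SemidirectProduct.range_inl_eq_ker_rightHom]; infer_instance
  let eG : G ≃* K := MonoidHom.ofInjective SemidirectProduct.inl_injective
  let eA : A ≃* A' := MonoidHom.ofInjective SemidirectProduct.inr_injective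
  obtain ⟨P, hP⟩ := exists_invariant_sylow (A := A') (K := K) le_normalizer_of_normal
    (by rwa [← Nat.card_congr eA.toEquiv, ← Nat.card_congr eG.toEquiv])
    (hsol.imp (fun (h : Group.IsSolvable A) => haveI := h; Group.isSolvable_of_surjective (f := eA.toMonoidHom) eA.surjective)
      (fun (h : Group.IsSolvable G) => haveI := h; Group.isSolvable_of_surjective (f := eG.toMonoidHom) eG.surjective)) q
  refine ⟨(P : Subgroup K).comap eG.toMonoidHom, ?_, ?_, fun a x hx => ?_⟩
  · exact P.2.comap_of_injective eG.toMonoidHom eG.injective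
  · rw [index_comap_of_surjective (f := eG.toMonoidHom) _ eG.surjective]
    exact P.not_dvd_index
  · have h1 : (eG x : X) ∈ (P : Subgroup K).map K.subtype := ⟨eG x, hx, rfl⟩
    have h2 := (mem_normalizer_iff.1 (hP ⟨a, rfl⟩) _).1 h1
    obtain ⟨y, hy, hye⟩ := h2
    have h3 : y = eG (a • x) := Subtype.ext (by
      rw [show (y : X) = _ from hye]
      show SemidirectProduct.inr a * SemidirectProduct.inl x * (SemidirectProduct.inr a)⁻¹ = SemidirectProduct.inl (a • x)
      rw [← map_inv, ← SemidirectProduct.inl_aut]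
      rfl)
    show eG (a • x) ∈ (P : Subgroup K)
    exact h3 ▸ hy

theorem main (hcop : (Nat.card A).Coprime (Nat.card G)) (hsol : Group.IsSolvable A ∨ Group.IsSolvable G) :
    ((∀ M N : Subgroup G, MaxInv A M → MaxInv A N → ∃ c : G, (∀ a : A, a • c = c) ∧ N = MulAut.conj c • M) ↔
      ((∃ p : ℕ, p.Prime ∧ IsPGroup p G) ∧ ∀ L : Subgroup G, frattini G < L → (∀ a : A, ∀ x ∈ L, a • x ∈ L) → L = ⊤)) ∧
    (((∃ p : ℕ, p.Prime ∧ IsPGroup p G) ∧ ∀ L : Subgroup G, frattini G < L → (∀ a : A, ∀ x ∈ L, a • x ∈ L) → L = ⊤) →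
      ∀ M : Subgroup G, MaxInv A M ↔ (M = frattini G ∧ M ≠ ⊤)) := by
  have huniq : ((∃ p : ℕ, p.Prime ∧ IsPGroup p G) ∧
      ∀ L : Subgroup G, frattini G < L → (∀ a : A, ∀ x ∈ L, a • x ∈ L) → L = ⊤) →
      ∀ M : Subgroup G, MaxInv A M ↔ (M = frattini G ∧ M ≠ ⊤) := by
    rintro ⟨-, hL⟩ M
    refine ⟨fun h => ⟨?_, h.1⟩, ?_⟩
    · by_contra hne
      exact h.1 (hL M (lt_of_le_of_ne h.frattini_le (Ne.symm hne)) h.2.1)
    · rintro ⟨rfl, hne⟩
      exact ⟨hne, fun a x hx => smul_mem_frattini a hx, hL⟩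
  refine ⟨⟨fun hall => ?_, fun h M N hM hN => ⟨1, fun a => smul_one a, ?_⟩⟩, huniq⟩
  swap
  · rw [((huniq h M).1 hM).1, ((huniq h N).1 hN).1, map_one, one_smul]
  -- a Sylow subgroup is everything
  obtain ⟨p, hp, hpG⟩ : ∃ p : ℕ, p.Prime ∧ IsPGroup p G := by
    by_contra! hno
    have h1 : Nat.card G ≠ 1 := fun h1 => hno 2 Nat.prime_two (IsPGroup.of_card (n := 0) (by rw [h1, pow_zero]))
    obtain ⟨M, hM, -⟩ := exists_maxInv (A := A) (H := (⊥ : Subgroup G)) (fun e => h1 (by
      rw [← card_top, ← e, card_bot])) (fun a x hx => by rw [mem_bot] at hx ⊢; rw [hx, smul_one])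
    refine hM.1 (index_eq_one.1 (Nat.eq_one_iff_not_exists_prime_dvd.2 fun q hq hqd => ?_))
    haveI := Fact.mk hq
    obtain ⟨S, hS, hSi, hSinv⟩ := exists_invariant_sylow_ext hcop hsol q
    obtain ⟨N, hN, hSN⟩ := exists_maxInv (A := A) (H := S) (fun e => hno q hq (by
      subst e; exact hS.of_equiv Subgroup.topEquiv)) hSinv
    obtain ⟨c, -, hc⟩ := hall M N hM hN
    refine hSi (dvd_trans ?_ (index_dvd_of_le hSN))
    rw [hc]
    show q ∣ (M.map (MulAut.conj c).toMonoidHom).index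
    rw [index_map_of_bijective (f := (MulAut.conj c).toMonoidHom) (MulAut.conj c).bijective]
    exact hqd
  refine ⟨⟨p, hp, hpG⟩, fun L hL hLinv => ?_⟩
  haveI := Fact.mk hp
  by_contra hLtop
  obtain ⟨M, hM, hLM⟩ := exists_maxInv hLtop hLinv
  -- the maximal invariant subgroup is unique
  have hMn : M.Normal := by
    refine ⟨fun x hx g => ?_⟩
    rw [show g * x * g⁻¹ = ⁅g, x⁆ * x by rw [commutatorElement_def]; group]
    exact mul_mem (hM.frattini_le (Cfsg.Lib.PGroups.commutator_le_frattini hpG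
      (commutator_mem_commutator (mem_top g) (mem_top x)))) hx
  have hunique : ∀ N, MaxInv A N → N = M := by
    intro N hN
    obtain ⟨c, -, hc⟩ := hall M N hM hN
    haveI := hMn
    rw [hc]
    exact Subgroup.Normal.conj_smul_eq_self c M
  -- an invariant complement modulo the Frattini subgroup
  set q := QuotientGroup.mk' (frattini G) with hq
  have hMc : ∀ a : A, ∀ x ∈ frattini G, a • x ∈ frattini G := fun a x hx => smul_mem_frattini a hx
  let σ : A →* MulAut (G ⧸ frattini G) :=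
    { toFun := fun a => QuotientGroup.congr _ _ (MulDistribMulAction.toMulEquiv G a)
        (characteristic_iff_map_eq.1 (inferInstance : (frattini G).Characteristic) _)
      map_one' := MulEquiv.ext fun x => by
        obtain ⟨x, rfl⟩ := QuotientGroup.mk_surjective x
        show ((((1 : A) • x : G)) : G ⧸ frattini G) = _
        rw [one_smul]; rfl
      map_mul' := fun a b => MulEquiv.ext fun x => by
        obtain ⟨x, rfl⟩ := QuotientGroup.mk_surjective x
        show ((((a * b : A) • x : G)) : G ⧸ frattini G) = ((a • b • x : G) : G ⧸ frattini G)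
        rw [mul_smul] }
  have hG1 : p ∣ Nat.card G := by
    obtain ⟨k, hk⟩ := IsPGroup.iff_card.1 hpG
    rw [hk]
    refine dvd_pow_self p fun h0 => hM.1 ?_
    rw [h0, pow_zero] at hk
    exact Subgroup.eq_top_of_card_eq M (le_antisymm (Subgroup.card_le_card_group M) (hk.le.trans Nat.card_pos))
  haveI := Cfsg.Lib.PGroups.isMulCommutative_quotient_frattini hpG
  obtain ⟨C, hC1, hC2, hC3⟩ := exists_invariant_complement (fun x y => Std.Commutative.comm x y)
    (Cfsg.Lib.PGroups.pow_prime_quotient_frattini hpG)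
    (fun hd => hp.ne_one (Nat.eq_one_of_dvd_coprimes hcop hd hG1))
    σ (M.map q) (by
      rintro a _ ⟨x, hx, rfl⟩
      exact ⟨a • x, hM.2.1 a x hx, rfl⟩)
  have hC' : C.comap q ≠ ⊤ := by
    intro e
    have hCtop : C = ⊤ := by
      rw [eq_top_iff]
      intro y _
      obtain ⟨x, rfl⟩ := QuotientGroup.mk'_surjective (frattini G) y
      exact e.ge (mem_top x)
    rw [hCtop, inf_top_eq] at hC1
    refine hL.not_ge fun x hx => ?_
    have h := (eq_bot_iff_forall _).1 hC1 _ ⟨x, hLM hx, rfl⟩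
    exact (QuotientGroup.eq_one_iff x).1 h
  obtain ⟨N, hN, hCN⟩ := exists_maxInv (A := A) hC' (fun a x hx => hC3 a _ hx)
  rw [hunique N hN] at hCN
  refine hM.1 (eq_top_iff.2 fun x _ => ?_)
  obtain ⟨m, hm, c, hc, hmc⟩ := (mem_sup_of_normal_left (s := M.map q) (hs := Subgroup.Normal.map hMn q
    (QuotientGroup.mk'_surjective _))).1 (hC2.ge (mem_top (q x)))
  obtain ⟨m, hm', rfl⟩ := hm
  have : m⁻¹ * x ∈ C.comap q := by
    show q (m⁻¹ * x) ∈ C
    rw [map_mul, map_inv, ← hmc, inv_mul_cancel_left]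
    exact hc
  have h2 := mul_mem hm' (hCN this)
  rwa [mul_inv_cancel_left] at h2

end Cfsg.Lib.Coprime.MaximalInvariant
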