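import Cfsg.Agent.Coprime.CyclicQuotient
import Cfsg.Agent.Coprime.Action

/-!
# Fixed points of a subgroup of an abelian coprime operator group on a commutator group

If `A` is abelian, acts coprimely on the solvable group `Y = [Y, A]` and `B ≤ A`, then `C_Y(B)` is generated by the
subgroups `C_Y(B) ∩ [C_Y(C), A]` with `B / C` cyclic. The proof goes down the derived series.
-/

set_option autoImplicit false
set_option linter.unusedSectionVars false
set_option linter.style.haveILetI false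

namespace Cfsg.Lib.CommFixedGen

open Subgroup
open Cfsg.Lib.Coprime
open scoped commutatorElement

variable {G : Type*} [Group G] [Finite G]

theorem comm_mul_right (d a b : G) : ⁅d, a * b⁆ = ⁅d, a⁆ * (a * ⁅d, b⁆ * a⁻¹) := by
  simp only [commutatorElement_def]; group

theorem comm_mul_left (a b y : G) : ⁅a * b, y⁆ = a * ⁅b, y⁆ * a⁻¹ * ⁅a, y⁆ := by
  simp only [commutatorElement_def]; group

theorem le_normalizer_commutator {X H K : Subgroup G} (hH : X ≤ normalizer (H : Set G))
    (hK : X ≤ normalizer (K : Set G)) : X ≤ normalizer ((⁅H, K⁆ : Subgroup G) : Set G) := by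
  intro x hx
  rw [← conjMap_eq_self_iff, conjMap, map_commutator,
    show H.map (MulAut.conj x).toMonoidHom = H from conjMap_eq_self (hH hx),
    show K.map (MulAut.conj x).toMonoidHom = K from conjMap_eq_self (hK hx)]

theorem conj_mem {X H : Subgroup G} (hX : X ≤ normalizer (H : Set G)) {x h : G} (hx : x ∈ X) (hh : h ∈ H) :
    x * h * x⁻¹ ∈ H := (mem_normalizer_iff.mp (hX hx) h).mp hh

/-- A submonoid-style induction over a join. -/
theorem iSup₂_induction' {ι : Type*} {s : Set ι} {f : ι → Subgroup G} {P : G → Prop} (h1 : P 1)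
    (hmul : ∀ a ∈ (⨆ i ∈ s, f i), ∀ b ∈ (⨆ i ∈ s, f i), P a → P b → P (a * b))
    (hmem : ∀ i ∈ s, ∀ x ∈ f i, P x) {x : G} (hx : x ∈ ⨆ i ∈ s, f i) : P x := by
  induction hx using Subgroup.iSup_induction' with
  | hp i x hi =>
    induction hi using Subgroup.iSup_induction' with
    | hp hs x hx => exact hmem i hs x hx
    | h1 => exact h1
    | hmul a b ha hb iha ihb =>
      have hle : (⨆ (_ : i ∈ s), f i) ≤ ⨆ i ∈ s, f i := le_iSup (fun i => ⨆ (_ : i ∈ s), f i) i
      exact hmul a (hle ha) b (hle hb) iha ihb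
  | h1 => exact h1
  | hmul a b ha hb iha ihb => exact hmul a ha b hb iha ihb

/-- In an abelian section `D / V` fixed points of a coprime group avoid `[D, B]`. -/
theorem mem_of_fixed_of_mem_commutator {B D V : Subgroup G} (hBD : B ≤ normalizer (D : Set G))
    (hBV : B ≤ normalizer (V : Set G)) (hVD : V ≤ D) (hab : ⁅D, D⁆ ≤ V)
    (hcop : (Nat.card B).Coprime (Nat.card D)) {w : G} (hw : w ∈ ⁅D, B⁆ ⊔ V)
    (hwc : w ∈ centralizer (B : Set G)) : w ∈ V := by
  classical
  haveI hn : (V.subgroupOf D).Normal := ⟨fun v hv d => by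
    rw [mem_subgroupOf] at hv ⊢
    have h := mul_mem (hab (commutator_mem_commutator d.2 v.2)) hv
    simpa [commutatorElement_def] using h⟩
  letI : CommGroup (↥D ⧸ V.subgroupOf D) :=
    { mul_comm := fun a b => by
        induction a using QuotientGroup.induction_on with
        | H a => ?_
        induction b using QuotientGroup.induction_on with
        | H b => ?_
        rw [← QuotientGroup.mk_mul, ← QuotientGroup.mk_mul, QuotientGroup.eq, mem_subgroupOf]
        have h := hab (commutator_mem_commutator (Subgroup.inv_mem _ b.2) (Subgroup.inv_mem _ a.2))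
        simpa [commutatorElement_def, mul_assoc] using h }
  letI := Fintype.ofFinite ↥B
  let c : ↥B → ↥D →* ↥D := fun b => (D.normalizerMonoidHom ⟨b, hBD b.2⟩).toMonoidHom
  have hc : ∀ (b : ↥B) (d : ↥D), ((c b d : ↥D) : G) = b * d * (b : G)⁻¹ := fun b d => rfl
  let ψ : ↥D →* ↥D ⧸ V.subgroupOf D := ∏ b : ↥B, (QuotientGroup.mk' (V.subgroupOf D)).comp (c b)
  have hψ : ∀ d, ψ d = ∏ b : ↥B, QuotientGroup.mk' (V.subgroupOf D) (c b d) := fun d =>
    MonoidHom.finsetProd_apply _ _ d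
  have hinv : ∀ (b₀ : ↥B) (d : ↥D), ψ (c b₀ d) = ψ d := fun b₀ d => by
    rw [hψ, hψ]
    refine Fintype.prod_equiv (Equiv.mulRight b₀) _ _ fun b => ?_
    congr 1
    ext
    simp [hc, mul_assoc]
  have hle : ⁅D, B⁆ ⊔ V ≤ ψ.ker.map D.subtype := by
    refine sup_le ?_ fun v hv => ⟨⟨v, hVD hv⟩, ?_, rfl⟩
    · rw [commutator_le]
      intro x hx b hb
      have hx' : b * x⁻¹ * b⁻¹ ∈ D := conj_mem hBD hb (Subgroup.inv_mem _ hx)
      refine ⟨⟨x, hx⟩ * c ⟨b, hb⟩ ⟨x⁻¹, Subgroup.inv_mem _ hx⟩, ?_, ?_⟩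
      · show ψ _ = 1
        rw [map_mul, hinv, ← map_mul, show (⟨x, hx⟩ : ↥D) * ⟨x⁻¹, Subgroup.inv_mem _ hx⟩ = 1 from Subtype.ext (mul_inv_cancel x),
          map_one]
      · simp [hc, commutatorElement_def, mul_assoc]
    · show ψ _ = 1
      rw [hψ]
      exact Finset.prod_eq_one fun b _ => (QuotientGroup.eq_one_iff _).mpr (conj_mem hBV b.2 hv)
  obtain ⟨d, hd, rfl⟩ := hle hw
  have hfix : ∀ b : ↥B, c b d = d := fun b => Subtype.ext (by
    have := mem_centralizer_iff.mp hwc b b.2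
    simp only [Subgroup.coe_subtype] at this
    rw [hc, this, mul_inv_cancel_right])
  have h1 : QuotientGroup.mk' (V.subgroupOf D) d ^ Nat.card ↥B = 1 := by
    have hd' : ψ d = 1 := hd
    rw [hψ, Finset.prod_congr rfl (fun b _ => by rw [hfix b]), Finset.prod_const, Finset.card_univ] at hd'
    rwa [Nat.card_eq_fintype_card]
  have h2 := orderOf_dvd_of_pow_eq_one h1
  have h3 : orderOf (QuotientGroup.mk' (V.subgroupOf D) d) ∣ Nat.card ↥D :=
    (orderOf_map_dvd _ d).trans (orderOf_dvd_natCard d)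
  have := orderOf_eq_one_iff.mp (Nat.eq_one_of_dvd_coprimes hcop h2 h3)
  exact mem_subgroupOf.mp ((QuotientGroup.eq_one_iff d).mp this)

/-- The derived series inside the ambient group. -/
def der (Y : Subgroup G) : ℕ → Subgroup G
  | 0 => Y
  | k + 1 => ⁅der Y k, der Y k⁆

theorem der_eq_map (Y : Subgroup G) : ∀ k, der Y k = (derivedSeries ↥Y k).map Y.subtype := by
  intro k
  induction k with
  | zero => rw [derivedSeries_zero, ← MonoidHom.range_eq_map, Subgroup.range_subtype]; rfl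
  | succ k ih => rw [derivedSeries_succ, map_commutator, ← ih]; rfl

theorem der_le_normalizer {X Y : Subgroup G} (h : X ≤ normalizer (Y : Set G)) :
    ∀ k, X ≤ normalizer (der Y k : Set G) := by
  intro k
  induction k with
  | zero => exact h
  | succ k ih => exact le_normalizer_commutator ih ih

theorem der_le (Y : Subgroup G) : ∀ k, der Y k ≤ Y := by
  intro k
  induction k with
  | zero => exact le_rfl
  | succ k ih => exact (commutator_mono ih ih).trans (commutator_le_self Y)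

/-- The standing hypotheses. -/
structure Setup (A B Y : Subgroup G) : Prop where
  comm : IsMulCommutative ↥A
  le : B ≤ A
  norm : A ≤ normalizer (Y : Set G)
  cop : (Nat.card A).Coprime (Nat.card Y)
  full : ⁅Y, A⁆ = Y

/-- The candidate generated subgroup. -/
def gen (A B Y : Subgroup G) : Subgroup G :=
  ⨆ C ∈ cyclicQuot B, Y ⊓ centralizer (B : Set G) ⊓ ⁅Y ⊓ centralizer (C : Set G), A⁆

variable {A B Y : Subgroup G}

theorem gen_le : gen A B Y ≤ Y ⊓ centralizer (B : Set G) := iSup₂_le fun _ _ => inf_le_left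

namespace Setup

variable (h : Setup A B Y)
include h

theorem solA : Group.IsSolvable ↥A := Group.isSolvable_of_comm fun a b => h.comm.is_comm.comm a b

theorem solB : Group.IsSolvable ↥B := Cfsg.Lib.Coprime.isSolvable_of_le h.le h.solA

theorem le_norm_of_le {C : Subgroup G} (hC : C ≤ A) : A ≤ normalizer (C : Set G) := fun a ha =>
  centralizer_le_normalizer _ (mem_centralizer_iff.mpr fun c hc =>
    congrArg Subtype.val (h.comm.is_comm.comm (⟨c, hC hc⟩ : ↥A) ⟨a, ha⟩))

theorem fix_norm {C : Subgroup G} (hC : C ≤ A) {M : Subgroup G} (hM : A ≤ normalizer (M : Set G)) :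
    A ≤ normalizer ((M ⊓ centralizer (C : Set G) : Subgroup G) : Set G) :=
  le_normalizer_inf_centralizer hM (h.le_norm_of_le hC)

/-- `Y` is generated by the subgroups `[C_Y(C), A]`. -/
theorem le_join : Y ≤ ⨆ C ∈ cyclicQuot B, ⁅Y ⊓ centralizer (C : Set G), A⁆ := by
  set U := ⨆ C ∈ cyclicQuot B, ⁅Y ⊓ centralizer (C : Set G), A⁆ with hU
  haveI := h.comm
  haveI : IsMulCommutative ↥B := ⟨⟨fun x y => Subtype.ext
    (congrArg Subtype.val (h.comm.is_comm.comm (⟨x, h.le x.2⟩ : ↥A) ⟨y, h.le y.2⟩) : (x : G) * y = y * x)⟩⟩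
  set Z := Y ⊓ centralizer (A : Set G) with hZ
  have hUA : A ≤ normalizer (U : Set G) := by
    intro a ha
    rw [← conjMap_eq_self_iff, hU, conjMap, Subgroup.map_iSup]
    refine iSup_congr fun C => ?_
    rw [Subgroup.map_iSup]
    exact iSup_congr fun _ => conjMap_eq_self (le_normalizer_commutator_right _ _ ha)
  have hUZ : Z ≤ normalizer (U : Set G) := by
    intro z hz
    rw [← conjMap_eq_self_iff, hU, conjMap, Subgroup.map_iSup]
    refine iSup_congr fun C => ?_
    rw [Subgroup.map_iSup]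
    refine iSup_congr fun hC => conjMap_eq_self ?_
    have hzc : z ∈ Y ⊓ centralizer (C : Set G) := ⟨hz.1, centralizer_le (show C ≤ A from hC.1.trans h.le) hz.2⟩
    exact le_normalizer_commutator_left A _ hzc
  have hY : Y ≤ U ⊔ Z := by
    refine (le_join_cyclicQuot (A := B) (Nat.card B) ⊥ Y (Nat.sub_le _ _) bot_le (h.le.trans h.norm)
      (coprime_of_le_left h.le h.cop) bot_le).trans (iSup₂_le fun C hC => ?_)
    refine (commutator_sup_centralizer (h.fix_norm (hC.1.trans h.le) h.norm)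
      (coprime_of_le inf_le_left h.cop) (Or.inl h.solA)).ge.trans (sup_le ?_ ?_)
    · exact le_sup_of_le_left (le_iSup₂_of_le C hC le_rfl)
    · exact le_sup_of_le_right (inf_le_inf_right _ inf_le_left)
  refine h.full.ge.trans ?_
  rw [commutator_le]
  intro y hy a ha
  obtain ⟨z, hz, u, hu, rfl⟩ := (mem_sup_of_le_normalizer' hUZ).mp (hY hy)
  have hza : a * z⁻¹ = z⁻¹ * a := mem_centralizer_iff.mp (Subgroup.inv_mem _ hz.2) a ha
  have e : ⁅z * u, a⁆ = z * ⁅u, a⁆ * z⁻¹ := by
    have hza' : a⁻¹ * z⁻¹ = z⁻¹ * a⁻¹ := mem_centralizer_iff.mp (Subgroup.inv_mem _ hz.2) _ (Subgroup.inv_mem _ ha)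
    calc ⁅z * u, a⁆ = z * u * a * u⁻¹ * (z⁻¹ * a⁻¹) := by simp only [commutatorElement_def]; group
      _ = z * u * a * u⁻¹ * (a⁻¹ * z⁻¹) := by rw [hza']
      _ = _ := by simp only [commutatorElement_def]; group
  rw [e]
  refine conj_mem hUZ hz ?_
  rw [commutatorElement_def, show u * a * u⁻¹ * a⁻¹ = u * (a * u⁻¹ * a⁻¹) by group]
  exact mul_mem hu (conj_mem hUA ha (Subgroup.inv_mem _ hu))

/-- One step down the derived series. -/
theorem step (k : ℕ) (ih : Y ⊓ centralizer (B : Set G) ≤ gen A B Y ⊔ der Y k)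
    (ihprev : ∀ j, k = j + 1 → Y ⊓ centralizer (B : Set G) ≤ gen A B Y ⊔ der Y j) :
    Y ⊓ centralizer (B : Set G) ≤ gen A B Y ⊔ der Y (k + 1) := by
  set R := gen A B Y with hR
  set D := der Y k with hD
  set V := der Y (k + 1) with hV
  have hVdef : V = ⁅D, D⁆ := rfl
  have hDY : D ≤ Y := der_le Y k
  have hVD : V ≤ D := hVdef ▸ commutator_le_self D
  have hYD : Y ≤ normalizer (D : Set G) := der_le_normalizer Subgroup.le_normalizer k
  have hAD : A ≤ normalizer (D : Set G) := der_le_normalizer h.norm k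
  have hAV : A ≤ normalizer (V : Set G) := der_le_normalizer h.norm (k + 1)
  have hcopD : (Nat.card B).Coprime (Nat.card D) := coprime_of_le hDY (coprime_of_le_left h.le h.cop)
  set T := (R ⊓ D) ⊔ (⁅D, B⁆ ⊔ V) with hT
  have hTD : T ≤ D := sup_le inf_le_right (sup_le (commutator_le_of_le_normalizer (h.le.trans hAD)) hVD)
  have hDT : ∀ d ∈ D, ∀ t ∈ T, d * t * d⁻¹ ∈ T := fun d hd t ht => by
    have h1 : ⁅d, t⁆ ∈ V := hVdef ▸ commutator_mem_commutator hd (hTD ht)
    rw [show d * t * d⁻¹ = ⁅d, t⁆ * t by simp only [commutatorElement_def]; group]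
    exact mul_mem (mem_sup_right (mem_sup_right h1)) ht
  have hRT : ∀ x ∈ R, x ∈ D → x ∈ T := fun x hx hx' => mem_sup_left ⟨hx, hx'⟩
  have hDBT : ⁅D, B⁆ ≤ T := le_sup_of_le_right le_sup_left
  -- the subgroups `[C_Y(C), A] ∩ D`
  have hY0 : ∀ C ∈ cyclicQuot B, ⁅Y ⊓ centralizer (C : Set G), A⁆ ⊓ D ≤ T := by
    intro C hC
    have hn : B ≤ normalizer ((⁅Y ⊓ centralizer (C : Set G), A⁆ ⊓ D : Subgroup G) : Set G) :=
      h.le.trans (Cfsg.Lib.Coprime.le_normalizer_inf (le_normalizer_commutator_right A _) hAD)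
    refine (commutator_sup_centralizer hn (coprime_of_le inf_le_right hcopD) (Or.inl h.solB)).ge.trans
      (sup_le ((commutator_mono inf_le_right le_rfl).trans hDBT) ?_)
    rintro x ⟨⟨hx, hxD⟩, hxB⟩
    refine hRT x (mem_iSup_of_mem C (mem_iSup_of_mem hC ⟨⟨hDY hxD, hxB⟩, hx⟩)) hxD
  have hY0Y : ∀ C : Subgroup G, C ∈ cyclicQuot B → ⁅Y ⊓ centralizer (C : Set G), A⁆ ≤ Y ⊓ centralizer (C : Set G) :=
    fun C hC => commutator_le_of_le_normalizer (h.fix_norm (hC.1.trans h.le) h.norm)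
  -- `[D, Y] ≤ T`
  have hDY' : ∀ y ∈ Y, ∀ d ∈ D, ⁅d, y⁆ ∈ T := by
    have key : ∀ y ∈ Y, y ∈ Y ∧ ∀ d ∈ D, ⁅d, y⁆ ∈ T := fun y hy => by
      refine iSup₂_induction' (P := fun y => y ∈ Y ∧ ∀ d ∈ D, ⁅d, y⁆ ∈ T) ⟨one_mem _, fun d _ => by simp⟩ ?_ ?_
        (h.le_join hy)
      · rintro a - b - ⟨ha, ha'⟩ ⟨hb, hb'⟩
        refine ⟨mul_mem ha hb, fun d hd => ?_⟩
        rw [comm_mul_right]
        refine mul_mem (ha' d hd) ?_
        have ht := hb' d hd
        rw [show a * ⁅d, b⁆ * a⁻¹ = (⁅⁅d, b⁆, a⁆)⁻¹ * ⁅d, b⁆ by simp only [commutatorElement_def]; group]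
        exact mul_mem (Subgroup.inv_mem _ (ha' _ (hTD ht))) ht
      · intro C hC y hy
        have hyC := hY0Y C hC hy
        refine ⟨hyC.1, fun d hd => ?_⟩
        have hCA : C ≤ A := hC.1.trans h.le
        have hCD : C ≤ normalizer (D : Set G) := hCA.trans hAD
        obtain ⟨e, he, m, hm, rfl⟩ : ∃ e ∈ D ⊓ centralizer (C : Set G), ∃ m ∈ ⁅D, C⁆, e * m = d := by
          refine (mem_sup_of_le_normalizer' (inf_le_left.trans (le_normalizer_commutator_left C D))).mp ?_
          rw [commutator_sup_centralizer hCD (coprime_of_le_left hC.1 hcopD)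
            (Or.inl (Cfsg.Lib.Coprime.isSolvable_of_le hC.1 h.solB))]
          exact hd
        rw [comm_mul_left]
        have hDC : ⁅D, C⁆ ≤ T := (commutator_mono le_rfl hC.1).trans hDBT
        refine mul_mem (hDT e he.1 _ (hDC ?_)) (hY0 C hC ⟨?_, ?_⟩)
        · rw [commutatorElement_def, show m * y * m⁻¹ * y⁻¹ = m * (y * m⁻¹ * y⁻¹) by group]
          refine mul_mem hm (conj_mem (le_normalizer_commutator inf_le_left ?_) ⟨hYD hyC.1, hyC.2⟩ (Subgroup.inv_mem _ hm))
          exact inf_le_right.trans (centralizer_le_normalizer _)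
        · rw [commutatorElement_def]
          exact mul_mem (conj_mem (le_normalizer_commutator_left A (Y ⊓ centralizer (C : Set G)))
            ⟨hDY he.1, he.2⟩ hy) (Subgroup.inv_mem _ hy)
        · rw [commutatorElement_def, show e * y * e⁻¹ * y⁻¹ = e * (y * e⁻¹ * y⁻¹) by group]
          exact mul_mem he.1 (conj_mem hYD hyC.1 (Subgroup.inv_mem _ he.1))
    exact fun y hy => (key y hy).2
  have hYT : ∀ y ∈ Y, ∀ t ∈ T, y * t * y⁻¹ ∈ T := fun y hy t ht => by
    rw [show y * t * y⁻¹ = ⁅t, y⁆⁻¹ * t by simp only [commutatorElement_def]; group]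
    exact mul_mem (Subgroup.inv_mem _ (hDY' y hy t (hTD ht))) ht
  have hfull : D ≤ T := by
    cases k with
    | zero =>
      refine le_trans (h.le_join) (iSup₂_le fun C hC => ?_)
      exact (le_inf le_rfl ((hY0Y C hC).trans inf_le_left)).trans (hY0 C hC)
    | succ j =>
      set M := der Y j with hM
      have hMD : D = ⁅M, M⁆ := rfl
      have hMY : M ≤ Y := der_le Y j
      have hYM : Y ≤ normalizer (M : Set G) := der_le_normalizer Subgroup.le_normalizer j
      have hAM : A ≤ normalizer (M : Set G) := der_le_normalizer h.norm j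
      have hDM : D ≤ M := hMD ▸ commutator_le_self M
      have hmem : ∀ m ∈ M, ∀ m' ∈ M, ⁅m, m'⁆ ∈ D := fun m hm m' hm' => hMD ▸ commutator_mem_commutator hm hm'
      -- two elements centralised by `B`
      have hcc : ∀ m ∈ M ⊓ centralizer (B : Set G), ∀ n ∈ M ⊓ centralizer (B : Set G), ⁅m, n⁆ ∈ T := by
        intro m hm n hn
        have hRn : R ≤ normalizer (D : Set G) := (gen_le.trans inf_le_left).trans hYD
        obtain ⟨r, hr, d, hd, rfl⟩ := (mem_sup_of_le_normalizer' hRn).mp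
          ((sup_comm R D).le (ih ⟨hMY hm.1, hm.2⟩))
        obtain ⟨r', hr', d', hd', rfl⟩ := (mem_sup_of_le_normalizer' hRn).mp
          ((sup_comm R D).le (ih ⟨hMY hn.1, hn.2⟩))
        have hrY : r ∈ Y := (gen_le hr).1
        have hr'Y : r' ∈ Y := (gen_le hr').1
        have hrM : r ∈ M := by simpa using mul_mem hm.1 (Subgroup.inv_mem _ (hDM hd))
        have hr'M : r' ∈ M := by simpa using mul_mem hn.1 (Subgroup.inv_mem _ (hDM hd'))
        rw [comm_mul_left r d, comm_mul_right r r' d']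
        refine mul_mem (hYT r hrY _ (hDY' _ (hMY hn.1) d hd)) (mul_mem ?_ (hYT r' hr'Y _ ?_))
        · refine hRT _ ?_ (hmem r hrM r' hr'M)
          rw [commutatorElement_def]
          exact mul_mem (mul_mem (mul_mem hr hr') (Subgroup.inv_mem _ hr)) (Subgroup.inv_mem _ hr')
        · rw [← commutatorElement_inv]
          exact Subgroup.inv_mem _ (hDY' r hrY d' hd')
      -- a member fixed by `C` and a member fixed by `C`
      have hsame : ∀ C ∈ cyclicQuot B, ∀ m ∈ M ⊓ centralizer (C : Set G), ∀ n ∈ M ⊓ centralizer (C : Set G),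
          ⁅m, n⁆ ∈ T := by
        intro C hC m hm n hn
        set N := M ⊓ centralizer (C : Set G)
        have hsplit : ∀ x ∈ N, ∃ z ∈ N ⊓ centralizer (A : Set G), ∃ w ∈ ⁅N, A⁆, z * w = x := fun x hx => by
          refine (mem_sup_of_le_normalizer' (inf_le_left.trans (le_normalizer_commutator_left A N))).mp ?_
          rw [commutator_sup_centralizer (h.fix_norm (hC.1.trans h.le) hAM)
            (coprime_of_le (inf_le_left.trans hMY) h.cop) (Or.inl h.solA)]
          exact hx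
        have hwN : ⁅N, A⁆ ≤ N := commutator_le_of_le_normalizer (h.fix_norm (hC.1.trans h.le) hAM)
        have hwY : ⁅N, A⁆ ≤ ⁅Y ⊓ centralizer (C : Set G), A⁆ := commutator_mono (inf_le_inf_right _ hMY) le_rfl
        have hleft : ∀ w ∈ ⁅N, A⁆, ∀ x ∈ N, ⁅w, x⁆ ∈ T := fun w hw x hx => hY0 C hC ⟨by
          rw [commutatorElement_def, show w * x * w⁻¹ * x⁻¹ = w * (x * w⁻¹ * x⁻¹) by group]
          exact mul_mem (hwY hw) (conj_mem (le_normalizer_commutator_left A (Y ⊓ centralizer (C : Set G)))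
            ⟨hMY hx.1, hx.2⟩ (Subgroup.inv_mem _ (hwY hw))), hmem w (hwN hw).1 x hx.1⟩
        obtain ⟨z, hz, w, hw, rfl⟩ := hsplit m hm
        rw [comm_mul_left]
        refine mul_mem (hYT z (hMY hz.1.1) _ (hleft w hw n hn)) ?_
        obtain ⟨z', hz', w', hw', rfl⟩ := hsplit n hn
        rw [comm_mul_right]
        refine mul_mem (hcc z ⟨hz.1.1, centralizer_le h.le hz.2⟩ z' ⟨hz'.1.1, centralizer_le h.le hz'.2⟩)
          (hYT z' (hMY hz'.1.1) _ ?_)
        rw [← commutatorElement_inv]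
        exact Subgroup.inv_mem _ (hleft w' hw' z hz.1)
      -- against a commutator with `C`
      have hcomm : ∀ C ∈ cyclicQuot B, ∀ m ∈ M ⊓ centralizer (C : Set G), ∀ n ∈ ⁅M, C⁆, ⁅m, n⁆ ∈ T := by
        intro C hC m hm n hn
        have hCM : C ≤ normalizer (M : Set G) := (hC.1.trans h.le).trans hAM
        suffices n ∈ M ∧ ⁅m, n⁆ ∈ T from this.2
        rw [Subgroup.commutator_def] at hn
        refine Subgroup.closure_induction (p := fun n _ => n ∈ M ∧ ⁅m, n⁆ ∈ T) ?_ ⟨one_mem _, by simp⟩ ?_ ?_ hn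
        · rintro g ⟨x, hx, b, hb, rfl⟩
          refine ⟨commutator_le_of_le_normalizer hCM (commutator_mem_commutator hx hb), ?_⟩
          have hbm : b * m = m * b := mem_centralizer_iff.mp hm.2 b hb
          have hbm' : b⁻¹ * m⁻¹ = m⁻¹ * b⁻¹ := mem_centralizer_iff.mp (Subgroup.inv_mem _ hm.2) _ (Subgroup.inv_mem _ hb)
          set e := ⁅m, x⁆ with he
          set f := ⁅m, x⁻¹⁆ with hf
          set h' := ⁅b, f⁆ * f with hh
          have hfD : f ∈ D := hmem m hm.1 _ (Subgroup.inv_mem _ hx)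
          have hbf : ⁅b, f⁆ ∈ T := by
            rw [← commutatorElement_inv]
            exact Subgroup.inv_mem _ (hDBT (commutator_mem_commutator hfD (hC.1 hb)))
          have hh'D : h' ∈ D := mul_mem (hTD hbf) hfD
          have e1 : ⁅m, b * x⁻¹ * b⁻¹⁆ = h' := by
            rw [hh, hf]
            simp only [commutatorElement_def, mul_inv_rev, inv_inv]
            calc m * (b * x⁻¹ * b⁻¹) * m⁻¹ * (b * (x * b⁻¹))
                = (m * b) * x⁻¹ * (b⁻¹ * m⁻¹) * b * x * b⁻¹ := by group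
              _ = (b * m) * x⁻¹ * (m⁻¹ * b⁻¹) * b * x * b⁻¹ := by rw [hbm, hbm']
              _ = _ := by group
          have ef : f = ⁅e⁻¹, x⁻¹⁆⁻¹ * e⁻¹ := by
            rw [hf, he]; simp only [commutatorElement_def]; group
          have eh : h' = ⁅b, f⁆ * ⁅e⁻¹, x⁻¹⁆⁻¹ * e⁻¹ := by rw [hh, mul_assoc, ← ef]
          have e2 : ⁅m, ⁅x, b⁆⁆ = e * (⁅h', x⁆⁻¹ * (⁅b, f⁆ * ⁅e⁻¹, x⁻¹⁆⁻¹)) * e⁻¹ := by
            rw [show ⁅x, b⁆ = x * (b * x⁻¹ * b⁻¹) by simp only [commutatorElement_def]; group, comm_mul_right, e1,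
              show x * h' * x⁻¹ = ⁅h', x⁆⁻¹ * h' by simp only [commutatorElement_def]; group, ← he]
            generalize ⁅h', x⁆⁻¹ = t
            rw [eh]
            simp only [mul_assoc]
          rw [e2]
          exact hYT e (hDY (hmem m hm.1 x hx)) _ (mul_mem (Subgroup.inv_mem _ (hDY' x (hMY hx) _ hh'D))
            (mul_mem hbf (Subgroup.inv_mem _ (hDY' _ (Subgroup.inv_mem _ (hMY hx)) _ (Subgroup.inv_mem _ (hmem m hm.1 x hx))))))
        · rintro a b - - ⟨ha, ha'⟩ ⟨hb, hb'⟩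
          exact ⟨mul_mem ha hb, by rw [comm_mul_right]; exact mul_mem ha' (hYT a (hMY ha) _ hb')⟩
        · rintro a - ⟨ha, ha'⟩
          refine ⟨Subgroup.inv_mem _ ha, ?_⟩
          rw [show ⁅m, a⁻¹⁆ = a⁻¹ * ⁅m, a⁆⁻¹ * a⁻¹⁻¹ by simp only [commutatorElement_def]; group]
          exact hYT _ (Subgroup.inv_mem _ (hMY ha)) _ (Subgroup.inv_mem _ ha')
      -- generators
      have hgen : ∀ C ∈ cyclicQuot B, ∀ m ∈ M ⊓ centralizer (C : Set G), ∀ n ∈ M, ⁅m, n⁆ ∈ T := by
        intro C hC m hm n hn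
        have hCM : C ≤ normalizer (M : Set G) := (hC.1.trans h.le).trans hAM
        obtain ⟨e, he, u, hu, rfl⟩ : ∃ e ∈ M ⊓ centralizer (C : Set G), ∃ u ∈ ⁅M, C⁆, e * u = n := by
          refine (mem_sup_of_le_normalizer' (inf_le_left.trans (le_normalizer_commutator_left C M))).mp ?_
          rw [commutator_sup_centralizer hCM (coprime_of_le hMY (coprime_of_le_left (hC.1.trans h.le) h.cop))
            (Or.inl (Cfsg.Lib.Coprime.isSolvable_of_le hC.1 h.solB))]
          exact hn
        rw [comm_mul_right]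
        exact mul_mem (hsame C hC m hm e he) (hYT e (hMY he.1) _ (hcomm C hC m hm u hu))
      haveI := h.comm
      haveI : IsMulCommutative ↥B := ⟨⟨fun x y => Subtype.ext
        (congrArg Subtype.val (h.comm.is_comm.comm (⟨x, h.le x.2⟩ : ↥A) ⟨y, h.le y.2⟩) : (x : G) * y = y * x)⟩⟩
      rw [hMD, commutator_le]
      intro m hm
      have hm' := le_join_cyclicQuot (A := B) (Nat.card B) ⊥ M (Nat.sub_le _ _) bot_le (h.le.trans hAM)
        (coprime_of_le hMY (coprime_of_le_left h.le h.cop)) bot_le hm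
      refine (iSup₂_induction' (P := fun m => m ∈ M ∧ ∀ n ∈ M, ⁅m, n⁆ ∈ T) ⟨one_mem _, fun n _ => by simp⟩ ?_ ?_
        hm').2
      · rintro a - b - ⟨ha, ha'⟩ ⟨hb, hb'⟩
        refine ⟨mul_mem ha hb, fun n hn => ?_⟩
        rw [comm_mul_left]
        exact mul_mem (hYT a (hMY ha) _ (hb' n hn)) (ha' n hn)
      · exact fun C hC m hm => ⟨hm.1, hgen C hC m hm⟩
  -- conclusion
  intro c hc
  have hRn : R ≤ normalizer (D : Set G) := (gen_le.trans inf_le_left).trans hYD
  obtain ⟨r, hr, d, hd, rfl⟩ := (mem_sup_of_le_normalizer' hRn).mp ((sup_comm R D).le (ih hc))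
  have hdc : d ∈ centralizer (B : Set G) := by
    have := mul_mem (Subgroup.inv_mem _ (gen_le hr).2) hc.2
    rwa [inv_mul_cancel_left] at this
  have hn : R ⊓ D ≤ normalizer ((⁅D, B⁆ ⊔ V : Subgroup G) : Set G) :=
    inf_le_right.trans (Cfsg.Lib.Coprime.le_normalizer_sup (le_normalizer_commutator_left B D)
      ((le_normalizer_commutator Subgroup.le_normalizer Subgroup.le_normalizer)))
  obtain ⟨r', hr', w, hw, rfl⟩ := (mem_sup_of_le_normalizer' hn).mp
    ((sup_comm (R ⊓ D) (⁅D, B⁆ ⊔ V)).le (hfull hd))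
  have hwc : w ∈ centralizer (B : Set G) := by
    have := mul_mem (Subgroup.inv_mem _ (gen_le hr'.1).2) hdc
    rwa [inv_mul_cancel_left] at this
  have hwV := mem_of_fixed_of_mem_commutator (h.le.trans hAD) (h.le.trans hAV) hVD hVdef.ge hcopD hw hwc
  rw [← mul_assoc]
  exact mul_mem_sup (mul_mem hr hr'.1) hwV

theorem fixed_eq_gen (hsol : Group.IsSolvable ↥Y) : Y ⊓ centralizer (B : Set G) = gen A B Y := by
  refine le_antisymm ?_ gen_le
  obtain ⟨n, hn⟩ := (Group.isSolvable_def ↥Y).mp hsol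
  suffices H : ∀ k, Y ⊓ centralizer (B : Set G) ≤ gen A B Y ⊔ der Y k by
    have := H n
    rwa [der_eq_map, hn, Subgroup.map_bot, sup_bot_eq] at this
  intro k
  induction k using Nat.strong_induction_on with
  | _ k ih =>
    match k with
    | 0 => exact le_sup_of_le_right inf_le_left
    | k + 1 => exact h.step k (ih k (by omega)) fun j hj => ih j (by omega)

end Setup

end Cfsg.Lib.CommFixedGen
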