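/-
Generation of a coprime acted group by fixed points of subgroups with cyclic quotient.
-/
import Cfsg.Agent.Coprime.Sylow
import Cfsg.Agent.Coprime.Generation

set_option linter.style.haveILetI false
set_option linter.unusedSectionVars false

namespace Cfsg.Lib.Coprime

open Subgroup
open scoped Pointwise commutatorElement

universe u

variable {X : Type u} [Group X] [Finite X]

/-- the subgroups of `A` with cyclic quotient -/
def cyclicQuot (A : Subgroup X) : Set (Subgroup X) :=
  {B | B ≤ A ∧ ∃ a ∈ A, B ⊔ zpowers a = A}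

theorem le_centralizer_of_abelian {A : Subgroup X} [IsMulCommutative A] : A ≤ centralizer (A : Set X) :=
  fun a ha => mem_centralizer_iff.2 fun b hb => congrArg Subtype.val (mul_comm' (⟨b, hb⟩ : A) ⟨a, ha⟩)

theorem le_normalizer_of_le_centralizer {A B : Subgroup X} (h : A ≤ centralizer (B : Set X)) :
    A ≤ normalizer (B : Set X) := fun a ha => by
  refine mem_normalizer_of_conj_mem (fun x hx => ?_) fun x hx => ?_
  · rwa [← mem_centralizer_iff.mp (h ha) x hx, mul_inv_cancel_right]
  · rwa [mul_assoc, mem_centralizer_iff.mp (h ha) x hx, inv_mul_cancel_left]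

theorem le_normalizer_inf_centralizer {A B K : Subgroup X} (hAK : A ≤ normalizer (K : Set X))
    (hAB : A ≤ normalizer (B : Set X)) : A ≤ normalizer ((K ⊓ centralizer (B : Set X) : Subgroup X) : Set X) := by
  refine le_normalizer_inf hAK fun a ha => mem_normalizer_iff.2 fun x => ?_
  simp only [mem_centralizer_iff]
  constructor
  · intro hx b hb
    have := congrArg (fun y => a * y * a⁻¹) (hx _ ((mem_normalizer_iff''.1 (hAB ha) b).1 hb))
    simpa [mul_assoc] using this
  · intro hx b hb
    have := congrArg (fun y => a⁻¹ * y * a) (hx _ ((mem_normalizer_iff.1 (hAB ha) b).1 hb))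
    simpa [mul_assoc] using this

theorem le_join_cyclicQuot {A : Subgroup X} [IsMulCommutative A] :
    ∀ (n : ℕ) (B K : Subgroup X), Nat.card A - Nat.card B ≤ n → B ≤ A →
      A ≤ normalizer (K : Set X) → (Nat.card A).Coprime (Nat.card K) → B ≤ centralizer (K : Set X) →
      K ≤ ⨆ C ∈ cyclicQuot A, K ⊓ centralizer (C : Set X) := by
  intro n
  induction n with
  | zero =>
    intro B K hn hBA hAK hcop hBK
    have hBA' : B = A := eq_of_le_of_card_ge hBA (by omega)
    refine le_iSup₂_of_le B ⟨hBA, 1, one_mem A, by rw [zpowers_one_eq_bot, sup_bot_eq, hBA']⟩ ?_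
    exact le_inf le_rfl fun k hk => mem_centralizer_iff.2 fun b hb =>
      (mem_centralizer_iff.1 (hBK hb) k hk).symm
  | succ n ih =>
    intro B K hn hBA hAK hcop hBK
    have hKB : K ≤ centralizer (B : Set X) := fun k hk => mem_centralizer_iff.2 fun b hb =>
      (mem_centralizer_iff.1 (hBK hb) k hk).symm
    by_cases hcyc : B ∈ cyclicQuot A
    · exact le_iSup₂_of_le B hcyc (le_inf le_rfl hKB)
    set Y := ⨆ C ∈ cyclicQuot A, K ⊓ centralizer (C : Set X)
    have hYK : Y ≤ K := iSup₂_le fun C _ => inf_le_left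
    have hAB : A ≤ normalizer (B : Set X) :=
      le_normalizer_of_le_centralizer (le_centralizer_of_abelian.trans (centralizer_le hBA))
    set H := A ⊔ K
    haveI : (B.subgroupOf H).Normal := normal_subgroupOf_of_le_normalizer
      (sup_le hAB (le_normalizer_of_le_centralizer hKB))
    set φ := QuotientGroup.mk' (B.subgroupOf H)
    set A' := (A.subgroupOf H).map φ
    set K' := (K.subgroupOf H).map φ
    haveI : IsMulCommutative A' := ⟨⟨fun x y => by
      obtain ⟨a, ha, hax⟩ := x.2
      obtain ⟨b, hb, hby⟩ := y.2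
      refine Subtype.ext ?_
      show (x : H ⧸ B.subgroupOf H) * y = y * x
      rw [← hax, ← hby, ← map_mul, ← map_mul]
      exact congrArg φ (Subtype.ext (congrArg Subtype.val (mul_comm' (⟨(a : X), ha⟩ : A) ⟨(b : X), hb⟩) : (a : X) * b = b * a))⟩⟩
    have hA'K' : A' ≤ normalizer (K' : Set (H ⧸ B.subgroupOf H)) := by
      refine (map_mono ?_).trans (le_normalizer_map φ)
      intro a ha
      refine mem_normalizer_iff.2 fun k => ?_
      simp only [mem_subgroupOf, Subgroup.coe_mul, Subgroup.coe_inv]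
      exact mem_normalizer_iff.1 (hAK ha) k
    have hdvdA : Nat.card A' ∣ Nat.card A :=
      (card_map_dvd _ φ).trans (Nat.card_congr (subgroupOfEquivOfLe le_sup_left).toEquiv).dvd
    have hdvdK : Nat.card K' ∣ Nat.card K :=
      (card_map_dvd _ φ).trans (Nat.card_congr (subgroupOfEquivOfLe le_sup_right).toEquiv).dvd
    have hA'c : ¬ IsCyclic A' := by
      intro hc
      obtain ⟨⟨g, hg⟩, hgen⟩ := hc.exists_generator
      obtain ⟨a, ha, rfl⟩ := hg
      refine hcyc ⟨hBA, a, ha, le_antisymm (sup_le hBA (zpowers_le.2 ha)) fun x hx => ?_⟩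
      obtain ⟨i, hi⟩ := hgen ⟨φ ⟨x, mem_sup_left hx⟩, ⟨_, hx, rfl⟩⟩
      have h1 : φ ((a ^ i)⁻¹ * ⟨x, mem_sup_left hx⟩) = 1 := by
        have h2 : φ a ^ i = φ ⟨x, mem_sup_left hx⟩ := congrArg Subtype.val hi
        rw [map_mul, map_inv, map_zpow, h2, inv_mul_cancel]
      have h3 : ((a : X) ^ i)⁻¹ * x ∈ B := by
        have := (QuotientGroup.eq_one_iff _).1 h1
        simpa [mem_subgroupOf] using this
      have h4 : (a : X) ^ i * (((a : X) ^ i)⁻¹ * x) ∈ B ⊔ zpowers (a : X) :=
        mul_mem (mem_sup_right (zpow_mem (mem_zpowers _) i)) (mem_sup_left h3)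
      rwa [mul_inv_cancel_left] at h4
    have hjoin := centralizerJoin_eq hA'c hA'K' ((hcop.coprime_dvd_left hdvdA).coprime_dvd_right hdvdK)
    have hle : K' ≤ (Y.subgroupOf H).map φ := by
      rw [← hjoin]
      refine iSup₂_le fun g hg => ?_
      obtain ⟨⟨a, ha, rfl⟩, hg1⟩ := hg
      rintro _ ⟨⟨k, hk, rfl⟩, hkc⟩
      have hcomm : (k : X) * a = a * k := by
        have h1 : φ (k * a * k⁻¹ * a⁻¹) = 1 := by
          simp only [map_mul, map_inv]
          rw [mem_centralizer_singleton_iff.1 hkc]; group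
        have h2 : (k : X) * a * (k : X)⁻¹ * (a : X)⁻¹ ∈ B := by
          have := (QuotientGroup.eq_one_iff _).1 h1
          simpa [mem_subgroupOf] using this
        have h3 : (k : X) * a * (k : X)⁻¹ * (a : X)⁻¹ ∈ K := by
          rw [show (k : X) * a * (k : X)⁻¹ * (a : X)⁻¹ = k * ((a : X) * (k : X)⁻¹ * (a : X)⁻¹) by group]
          exact mul_mem hk ((mem_normalizer_iff.1 (hAK ha) _).1 (inv_mem hk))
        have h4 := eq_one_of_coprime (N := B) (H := K) (coprime_of_le_left hBA hcop) h2 h3
        calc (k : X) * a = (k * a * (k : X)⁻¹ * (a : X)⁻¹) * (a * k) := by group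
          _ = _ := by rw [h4, one_mul]
      set B' := B ⊔ zpowers (a : X)
      have hB'A : B' ≤ A := sup_le hBA (zpowers_le.2 ha)
      have hlt : Nat.card B < Nat.card B' := by
        refine lt_of_le_of_ne (card_le_of_le le_sup_left) fun e => hg1 ?_
        have e' : B = B' := eq_of_le_of_card_ge le_sup_left e.ge
        exact (QuotientGroup.eq_one_iff _).2 (show (a : X) ∈ B from e'.ge (mem_sup_right (mem_zpowers _)))
      set K1 := K ⊓ centralizer (B' : Set X)
      have hk1 : (k : X) ∈ K1 := by
        refine ⟨hk, mem_centralizer_iff.2 fun b hb => ?_⟩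
        have hle' : B' ≤ centralizer ({(k : X)} : Set X) := sup_le
          (hBK.trans (centralizer_le (Set.singleton_subset_iff.2 hk)))
          (zpowers_le.2 (mem_centralizer_singleton_iff.2 hcomm.symm))
        exact mem_centralizer_singleton_iff.1 (hle' hb)
      have hAB' : A ≤ normalizer (B' : Set X) :=
        le_normalizer_of_le_centralizer (le_centralizer_of_abelian.trans (centralizer_le hB'A))
      have hsub := ih B' K1 (by have := card_le_of_le hB'A; omega) hB'A
        (le_normalizer_inf_centralizer hAK hAB') (coprime_of_le inf_le_left hcop)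
        (fun b hb => mem_centralizer_iff.2 fun y hy => (mem_centralizer_iff.1 hy.2 b hb).symm) hk1
      refine ⟨k, ?_, rfl⟩
      exact (iSup₂_mono fun C _ => inf_le_inf_right _ (inf_le_left : K1 ≤ K)) hsub
    intro k hk
    obtain ⟨y, hy, hyk⟩ := hle ⟨⟨k, mem_sup_right hk⟩, hk, rfl⟩
    have h1 : (y : X)⁻¹ * k ∈ B := by
      have h0 : φ (y⁻¹ * ⟨k, mem_sup_right hk⟩) = 1 := by rw [map_mul, map_inv, hyk, inv_mul_cancel]
      have := (QuotientGroup.eq_one_iff _).1 h0
      simpa [mem_subgroupOf] using this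
    have h2 := eq_one_of_coprime (N := B) (H := K) (coprime_of_le_left hBA hcop) h1
      (mul_mem (inv_mem (hYK hy)) hk)
    rw [← inv_mul_eq_one.1 h2]
    exact hy

end Cfsg.Lib.Coprime
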