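import Cfsg.Agent.Coprime.FixedDim

/-!
The fixed point formula of Frobenius groups acting coprimely on solvable groups (Wielandt).
-/

set_option linter.style.haveILetI false
set_option linter.unusedSectionVars false

namespace Cfsg.Lib.FixedDim

open Subgroup
open scoped commutatorElement

/-- additive endomorphisms are linear over `ZMod p` -/
noncomputable def zmodEnd {F V : Type*} [Group F] [AddCommGroup V] {p : ℕ} [Module (ZMod p) V]
    (f : F →* AddMonoid.End V) : F →* Module.End (ZMod p) V where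
  toFun a := AddMonoidHom.toZModLinearMap p (f a)
  map_one' := LinearMap.ext fun v => by simp; rfl
  map_mul' a b := LinearMap.ext fun v => by simp [map_mul]; rfl

section Abelian

variable {F : Type*} [Group F] [Finite F] {M : Type*} [CommGroup M] [Finite M]

theorem frobenius_fixed_elementary {p : ℕ} [hp : Fact p.Prime] (hM : ∀ x : M, x ^ p = 1)
    (φ : F →* MulAut M) (hcop : (Nat.card F).Coprime p) (U E : Subgroup F) [U.Normal]
    (hinf : U ⊓ E = ⊥) (hsup : U ⊔ E = ⊤)
    (hfpf : ∀ e ∈ E, e ≠ 1 → ∀ u ∈ U, e * u = u * e → u = 1) :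
    Nat.card {v : M // ∀ a : F, φ a v = v} ^ Nat.card E * Nat.card M =
      Nat.card {v : M // ∀ a ∈ E, φ a v = v} ^ Nat.card E *
        Nat.card {v : M // ∀ a ∈ U, φ a v = v} := by
  classical
  have := Fintype.ofFinite F
  letI : Module (ZMod p) (Additive M) := AddCommGroup.zmodModule fun x => hM x.toMul
  let ψ : F →* AddMonoid.End (Additive M) :=
    { toFun := fun a => MonoidHom.toAdditive (φ a).toMonoidHom
      map_one' := AddMonoidHom.ext fun v => show Additive.ofMul (φ 1 v.toMul) = v by rw [map_one]; rfl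
      map_mul' := fun a b => AddMonoidHom.ext fun v =>
        show Additive.ofMul (φ (a * b) v.toMul) = Additive.ofMul (φ a (φ b v.toMul)) by
          rw [map_mul]; rfl }
  let ρ := zmodEnd (p := p) ψ
  let A : Fin 3 ⊕ U → Subgroup F := Sum.elim ![⊤, ⊥, U] fun u => E.map (MulAut.conj (u : F)).toMonoidHom
  let c : Fin 3 ⊕ U → ℤ := Sum.elim ![1, (Nat.card U : ℤ), -1] fun _ => -1
  have hmem : ∀ (u : U) (x : F), x ∈ E.map (MulAut.conj (u : F)).toMonoidHom ↔
      ∃ e ∈ E, (u : F) * e * (u : F)⁻¹ = x := fun u x => Iff.rfl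
  have hEU : ∀ e ∈ E, e ∈ U → e = 1 := fun e he heU => by
    have h : e ∈ U ⊓ E := ⟨heU, he⟩
    rwa [hinf] at h
  have hc : ∀ x : F, (∑ i, if x ∈ A i then c i else 0) = 0 := by
    intro x
    rw [Fintype.sum_sum_type, Fin.sum_univ_three,
      if_pos (show x ∈ A (Sum.inl 0) from Subgroup.mem_top x)]
    by_cases hx1 : x = 1
    · rw [hx1, if_pos (one_mem _), if_pos (one_mem _),
        Finset.sum_congr rfl fun u _ => if_pos (one_mem _)]
      simp [c, Nat.card_eq_fintype_card]
    rw [if_neg (show x ∉ A (Sum.inl 1) from hx1)]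
    by_cases hxU : x ∈ U
    · rw [if_pos (show x ∈ A (Sum.inl 2) from hxU), Finset.sum_eq_zero fun u _ => if_neg ?_]
      · simp [c]
      · show ¬ x ∈ E.map (MulAut.conj ((_ : U) : F)).toMonoidHom
        rw [hmem]
        rintro ⟨e, he, hex⟩
        have h1 : e = 1 := hEU e he (by
          have h2 := U.mul_mem (U.mul_mem (U.inv_mem u.2) hxU) u.2
          rw [← hex] at h2
          simpa [mul_assoc] using h2)
        rw [h1] at hex
        exact hx1 (by simpa using hex.symm)
    · obtain ⟨a, ha, e, he, rfl⟩ := (Cfsg.Lib.Coprime.mem_sup_of_le_normalizer (x := x)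
        (by rw [normalizer_eq_top]; exact le_top : E ≤ normalizer (U : Set F))).mp
          (hsup ▸ mem_top _)
      have he1 : e ≠ 1 := fun h => hxU (by rw [h, mul_one]; exact ha)
      let f : U → U := fun v => ⟨(v : F) * (e * (v : F)⁻¹ * e⁻¹),
        U.mul_mem v.2 ((inferInstance : U.Normal).conj_mem _ (U.inv_mem v.2) e)⟩
      have hf : Function.Injective f := by
        intro v w h
        have h1 : (v : F) * (e * (v : F)⁻¹ * e⁻¹) = (w : F) * (e * (w : F)⁻¹ * e⁻¹) :=
          congrArg Subtype.val h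
        have h2 : e * ((w : F)⁻¹ * v) = (w : F)⁻¹ * v * e := by
          have h3 : (v : F) * e * (v : F)⁻¹ = (w : F) * e * (w : F)⁻¹ := by
            simpa [mul_assoc] using congrArg (fun z => z * e) h1
          have h4 := congrArg (fun z => (w : F)⁻¹ * z * (v : F)) h3
          simpa [mul_assoc] using h4.symm
        have h5 := hfpf e he he1 _ (U.mul_mem (U.inv_mem w.2) v.2) h2
        exact Subtype.ext (inv_mul_eq_one.mp h5).symm
      obtain ⟨v, hv⟩ := (Finite.injective_iff_surjective.mp hf) ⟨a, ha⟩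
      have hv' : (v : F) * e * (v : F)⁻¹ = a * e := by
        have h1 : (v : F) * (e * (v : F)⁻¹ * e⁻¹) = a := congrArg Subtype.val hv
        rw [← h1]; group
      rw [if_neg (show a * e ∉ A (Sum.inl 2) from hxU), Finset.sum_eq_single v]
      · rw [if_pos (show a * e ∈ A (Sum.inr v) from (hmem v _).mpr ⟨e, he, hv'⟩)]; simp [c]
      · intro w _ hwv
        refine if_neg ?_
        show ¬ a * e ∈ E.map (MulAut.conj (w : F)).toMonoidHom
        rw [hmem]
        rintro ⟨e', he', hw⟩
        have h1 : e' = e := by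
          have h2 : e' * e⁻¹ ∈ U := by
            have h3 : e' * e⁻¹ = ((w : F)⁻¹ * a) * (e * (w : F) * e⁻¹) := by
              have h4 : e' = (w : F)⁻¹ * (a * e) * w := by rw [← hw]; group
              rw [h4]; group
            rw [h3]
            exact U.mul_mem (U.mul_mem (U.inv_mem w.2) ha)
              ((inferInstance : U.Normal).conj_mem _ w.2 e)
          exact mul_inv_eq_one.mp (hEU _ (E.mul_mem he' (E.inv_mem he)) h2)
        subst h1
        apply hwv
        apply hf
        apply Subtype.ext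
        show (w : F) * (e' * (w : F)⁻¹ * e'⁻¹) = (v : F) * (e' * (v : F)⁻¹ * e'⁻¹)
        have h5 := congrArg (fun z => z * e'⁻¹) (hw.trans hv'.symm)
        simpa [mul_assoc] using h5
      · simp
  obtain ⟨d, hd, hsum⟩ := sum_dim_fixed (p := p) ρ hcop A c hc
  have hcard : ∀ i, Nat.card {v : M // ∀ a ∈ A i, φ a v = v} = p ^ d i := fun i => by
    rw [← hd i]
    exact Nat.card_congr (Equiv.subtypeEquiv Additive.ofMul fun v => Iff.rfl)
  have hconj : ∀ u : U, Nat.card {v : M // ∀ a ∈ A (Sum.inr u), φ a v = v} =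
      Nat.card {v : M // ∀ a ∈ E, φ a v = v} := by
    intro u
    refine (Nat.card_congr (Equiv.subtypeEquiv (φ (u : F)).toEquiv fun v => ?_)).symm
    constructor
    · intro h a ha
      obtain ⟨e, he, rfl⟩ := (hmem u a).mp ha
      show φ ((u : F) * e * (u : F)⁻¹) (φ (u : F) v) = φ (u : F) v
      rw [← MulAut.mul_apply, ← map_mul, inv_mul_cancel_right, map_mul, MulAut.mul_apply, h e he]
    · intro h e he
      have h1 : φ ((u : F) * e * (u : F)⁻¹) (φ (u : F) v) = φ (u : F) v := h _ ((hmem u _).mpr ⟨e, he, rfl⟩)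
      rw [← MulAut.mul_apply, ← map_mul, inv_mul_cancel_right, map_mul, MulAut.mul_apply] at h1
      exact (φ (u : F)).injective h1
  have hdu : ∀ u : U, d (Sum.inr u) = d (Sum.inr 1) := fun u =>
    Nat.pow_right_injective hp.out.two_le (by simp only; rw [← hcard, ← hcard, hconj, hconj])
  have hcardE : ∀ u : U, Nat.card (A (Sum.inr u)) = Nat.card E := fun u =>
    Subgroup.card_map_of_injective (MulAut.conj (u : F)).injective
  have hFUE : Nat.card F = Nat.card U * Nat.card E := by
    rw [← Subgroup.card_top (G := F), ← hsup]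
    exact Cfsg.Lib.Coprime.card_sup_of_inf_eq_bot
      (by rw [normalizer_eq_top]; exact le_top) hinf
  rw [Fintype.sum_sum_type, Fin.sum_univ_three] at hsum
  simp only [hcardE, hdu] at hsum
  simp only [A, c, Sum.elim_inl, Sum.elim_inr, Matrix.cons_val_zero, Matrix.cons_val_one,
    Matrix.cons_val_two, Matrix.tail_cons, Matrix.head_cons, Subgroup.card_top,
    Subgroup.card_bot, Finset.sum_const, Finset.card_univ, hFUE, one_mul, nsmul_eq_mul,
    ← Nat.card_eq_fintype_card] at hsum
  push_cast at hsum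
  have hne : (Nat.card U : ℤ) ≠ 0 := by exact_mod_cast Nat.card_pos.ne'
  have hkey : Nat.card E * d (Sum.inl 0) + d (Sum.inl 1) =
      Nat.card E * d (Sum.inr 1) + d (Sum.inl 2) := by
    have h1 : (Nat.card U : ℤ) * ((Nat.card E : ℤ) * d (Sum.inl 0) + d (Sum.inl 1)) =
        (Nat.card U : ℤ) * ((Nat.card E : ℤ) * d (Sum.inr 1) + d (Sum.inl 2)) := by linarith
    exact_mod_cast mul_left_cancel₀ hne h1
  have c0 : Nat.card {v : M // ∀ a : F, φ a v = v} = p ^ d (Sum.inl 0) := by
    rw [← hcard]
    exact Nat.card_congr (Equiv.subtypeEquivRight fun v => ⟨fun h a _ => h a, fun h a => h a (Subgroup.mem_top a)⟩)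
  have c1 : Nat.card M = p ^ d (Sum.inl 1) := by
    rw [← hcard]
    refine (Nat.card_congr (Equiv.subtypeUnivEquiv ?_)).symm
    intro v a ha
    rw [show a = 1 from ha, map_one]
    rfl
  have c2 : Nat.card {v : M // ∀ a ∈ U, φ a v = v} = p ^ d (Sum.inl 2) := hcard (Sum.inl 2)
  have cE : Nat.card {v : M // ∀ a ∈ E, φ a v = v} = p ^ d (Sum.inr 1) := by rw [← hcard, hconj]
  rw [c0, c1, c2, cE, ← pow_mul, ← pow_mul, ← pow_add, ← pow_add, mul_comm (d _), mul_comm (d (Sum.inr 1)), hkey]

end Abelian

section Solvable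

variable {X : Type*} [Group X] [Finite X]

theorem frobenius_fixed_solvable (U E : Subgroup X) (hUE : U ⊓ E = ⊥)
    (hUn : E ≤ normalizer (U : Set X))
    (hfpf : ∀ e ∈ E, e ≠ 1 → ∀ u ∈ U, e * u = u * e → u = 1) (n : ℕ) :
    ∀ K : Subgroup X, Nat.card K ≤ n → U ⊔ E ≤ normalizer (K : Set X) → Group.IsSolvable K →
      (Nat.card K).Coprime (Nat.card ↥(U ⊔ E)) →
      Nat.card ↥(K ⊓ centralizer ((U ⊔ E : Subgroup X) : Set X)) ^ Nat.card E * Nat.card K =
        Nat.card ↥(K ⊓ centralizer (E : Set X)) ^ Nat.card E *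
          Nat.card ↥(K ⊓ centralizer (U : Set X)) := by
  induction n with
  | zero => intro K hK; exact absurd hK (not_le.mpr Nat.card_pos)
  | succ n ih =>
    intro K hK hKn hsol hcop
    by_cases hKb : K = ⊥
    · subst hKb
      simp
    haveI : Nontrivial K := (Subgroup.nontrivial_iff_ne_bot K).mpr hKb
    haveI := hsol
    have hD : commutator ↥K ≠ ⊤ := (Group.IsSolvable.commutator_lt_top_of_nontrivial (G := ↥K)).ne
    -- a prime divisor of the abelianisation
    have hAb : Nat.card (Abelianization ↥K) ≠ 1 := fun h1 => hD (Subgroup.index_eq_one.mp h1)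
    obtain ⟨p, hp, hpdvd⟩ := Nat.exists_prime_and_dvd hAb
    haveI := Fact.mk hp
    set P : Subgroup (Abelianization ↥K) := (powMonoidHom p).range
    set N₀ : Subgroup ↥K := P.comap Abelianization.of with hN₀
    have hchar : N₀.Characteristic := by
      rw [Subgroup.characteristic_iff_le_comap]
      intro θ x hx
      obtain ⟨y, hy⟩ := hx
      refine ⟨(θ.abelianizationCongr) y, ?_⟩
      show (θ.abelianizationCongr y) ^ p = Abelianization.of (θ x)
      rw [← map_pow, show y ^ p = Abelianization.of x from hy]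
      rfl
    haveI := hchar
    have hPtop : P ≠ ⊤ := by
      intro hPt
      obtain ⟨z, hz⟩ := exists_prime_orderOf_dvd_card' p hpdvd
      have hsurj : Function.Surjective (powMonoidHom p : Abelianization ↥K →* _) :=
        MonoidHom.range_eq_top.mp hPt
      have hinj := Finite.injective_iff_surjective.mpr hsurj
      have h1 : z = 1 := hinj (by simp [← hz, pow_orderOf_eq_one])
      rw [h1, orderOf_one] at hz
      exact hp.ne_one hz.symm
    have hNtop : N₀ ≠ ⊤ := fun h => hPtop (eq_top_iff.mpr fun y _ => by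
      obtain ⟨x, rfl⟩ := QuotientGroup.mk'_surjective (commutator ↥K) y
      exact (h ▸ Subgroup.mem_top x : x ∈ N₀))
    set N : Subgroup X := N₀.map K.subtype with hN
    have hNK : N ≤ K := Subgroup.map_subtype_le _
    have hcardN : Nat.card N < Nat.card K := by
      rw [hN, Subgroup.card_map_of_injective K.subtype_injective]
      exact lt_of_le_of_ne (Nat.le_of_dvd Nat.card_pos (Subgroup.card_subgroup_dvd_card _))
        fun h => hNtop (Subgroup.eq_top_of_card_eq _ h)
    have hNn : U ⊔ E ≤ normalizer (N : Set X) := by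
      intro a ha
      have hconj : ∀ b ∈ U ⊔ E, ∀ x ∈ N, b * x * b⁻¹ ∈ N := by
        rintro b hb - ⟨x, hx, rfl⟩
        refine ⟨K.normalizerMonoidHom ⟨b, hKn hb⟩ x, ?_, rfl⟩
        exact (Subgroup.characteristic_iff_le_comap.mp hchar _) hx
      exact Cfsg.Lib.Coprime.mem_normalizer_of_conj_mem (hconj a ha)
        fun x hx => by simpa using hconj a⁻¹ (inv_mem ha) x hx
    have hIH := ih N (by omega) hNn (Cfsg.Lib.Coprime.isSolvable_of_le hNK hsol)
      (hcop.coprime_dvd_left (Subgroup.card_dvd_of_le hNK))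
    -- the quotient module
    haveI : N₀.Normal := inferInstance
    have hcomm : ∀ x y : ↥K ⧸ N₀, x * y = y * x := by
      intro x y
      obtain ⟨x, rfl⟩ := QuotientGroup.mk'_surjective N₀ x
      obtain ⟨y, rfl⟩ := QuotientGroup.mk'_surjective N₀ y
      rw [← map_mul, ← map_mul]
      refine QuotientGroup.eq.mpr ?_
      show Abelianization.of _ ∈ P
      rw [map_mul, map_inv, map_mul, map_mul, mul_comm (Abelianization.of y), inv_mul_cancel]
      exact P.one_mem
    letI : CommGroup (↥K ⧸ N₀) := { (inferInstance : Group (↥K ⧸ N₀)) with mul_comm := hcomm }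
    have hexp : ∀ x : ↥K ⧸ N₀, x ^ p = 1 := by
      intro x
      obtain ⟨x, rfl⟩ := QuotientGroup.mk'_surjective N₀ x
      rw [← map_pow]
      refine (QuotientGroup.eq_one_iff _).mpr ?_
      exact ⟨Abelianization.of x, (map_pow Abelianization.of x p).symm⟩
    let L := U ⊔ E
    let act : L →* MulAut ↥K := K.normalizerMonoidHom.comp (Subgroup.inclusion hKn)
    have hact : ∀ (a : L), N₀.map (act a).toMonoidHom = N₀ := fun a =>
      Subgroup.characteristic_iff_map_eq.mp hchar (act a)
    let φ : L →* MulAut (↥K ⧸ N₀) :=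
      { toFun := fun a => QuotientGroup.congr N₀ N₀ (act a) (hact a)
        map_one' := by
          ext x
          obtain ⟨x, rfl⟩ := QuotientGroup.mk'_surjective N₀ x
          show QuotientGroup.mk' N₀ (act 1 x) = QuotientGroup.mk' N₀ x
          rw [map_one]; rfl
        map_mul' := fun a b => by
          ext x
          obtain ⟨x, rfl⟩ := QuotientGroup.mk'_surjective N₀ x
          show QuotientGroup.mk' N₀ (act (a * b) x) = QuotientGroup.mk' N₀ (act a (act b x))
          rw [map_mul]; rfl }
    have hφ : ∀ (a : L) (x : ↥K), φ a (QuotientGroup.mk' N₀ x) = QuotientGroup.mk' N₀ (act a x) :=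
      fun a x => rfl
    have hactv : ∀ (a : L) (x : ↥K), ((act a x : ↥K) : X) = (a : X) * x * (a : X)⁻¹ := fun a x => rfl
    have hpL : (Nat.card L).Coprime p := hcop.symm.coprime_dvd_right
      (hpdvd.trans (Subgroup.index_dvd_card (commutator ↥K)))
    -- fixed points in the quotient
    have hfix : ∀ A : Subgroup X, A ≤ L → Nat.card ↥(K ⊓ centralizer (A : Set X)) =
        Nat.card ↥(N ⊓ centralizer (A : Set X)) *
          Nat.card {v : ↥K ⧸ N₀ // ∀ a ∈ A.subgroupOf L, φ a v = v} := by
      intro A hA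
      set C := K ⊓ centralizer (A : Set X)
      let q : ↥C →* ↥K ⧸ N₀ := (QuotientGroup.mk' N₀).comp (Subgroup.inclusion inf_le_left)
      have hr : ∀ v, v ∈ q.range ↔ ∀ a ∈ A.subgroupOf L, φ a v = v := by
        intro v
        constructor
        · rintro ⟨⟨x, hxK, hxA⟩, rfl⟩ a ha
          show φ a (QuotientGroup.mk' N₀ ⟨x, hxK⟩) = QuotientGroup.mk' N₀ ⟨x, hxK⟩
          rw [hφ]
          congr 1
          apply Subtype.ext
          rw [hactv]
          show (a : X) * x * (a : X)⁻¹ = x
          rw [mul_inv_eq_iff_eq_mul]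
          exact Subgroup.mem_centralizer_iff.mp hxA (a : X) ha
        · intro hv
          obtain ⟨x, rfl⟩ := QuotientGroup.mk'_surjective N₀ v
          obtain ⟨d, hd, hc⟩ := Cfsg.Lib.Coprime.exists_fixed_in_coset (A := A) (D := N) (k := (x : X))
            (hA.trans hNn) (((hcop.coprime_dvd_left (Subgroup.card_dvd_of_le hNK)).coprime_dvd_right
              (Subgroup.card_dvd_of_le hA)).symm) (Or.inr (Cfsg.Lib.Coprime.isSolvable_of_le hNK hsol))
            (fun a ha => by
              have h1 := hv ⟨a, hA ha⟩ ha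
              rw [hφ] at h1
              exact ⟨x⁻¹ * act ⟨a, hA ha⟩ x, QuotientGroup.eq.mp h1.symm, by
                simp [hactv, mul_assoc]⟩)
          obtain ⟨d', hd', rfl⟩ := hd
          refine ⟨⟨(x : X) * d', mul_mem x.2 d'.2, hc⟩, ?_⟩
          show QuotientGroup.mk' N₀ (x * d') = QuotientGroup.mk' N₀ x
          rw [map_mul, show QuotientGroup.mk' N₀ d' = 1 from (QuotientGroup.eq_one_iff _).mpr hd', mul_one]
      have hker : Nat.card q.ker = Nat.card ↥(N ⊓ centralizer (A : Set X)) := by
        refine Nat.card_congr (Equiv.ofBijective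
          (fun x : q.ker => (⟨((x : ↥C) : X),
            ⟨⟨Subgroup.inclusion inf_le_left (x : ↥C), (QuotientGroup.eq_one_iff _).mp x.2, rfl⟩,
              (x : ↥C).2.2⟩⟩ : ↥(N ⊓ centralizer (A : Set X))))
          ⟨fun a b h => Subtype.ext (Subtype.ext (congrArg (fun z : ↥(N ⊓ centralizer (A : Set X)) => (z : X)) h)), ?_⟩)
        rintro ⟨y, hyN, hyA⟩
        obtain ⟨y', hy', rfl⟩ := hyN
        exact ⟨⟨⟨(y' : X), y'.2, hyA⟩, (QuotientGroup.eq_one_iff _).mpr hy'⟩, rfl⟩
      rw [← q.ker.card_mul_index, Subgroup.index_ker, hker]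
      congr 1
      exact Nat.card_congr (Equiv.subtypeEquivRight hr)
    haveI : (U.subgroupOf L).Normal := (Subgroup.normal_subgroupOf_iff_le_normalizer le_sup_left).mpr
      (sup_le Subgroup.le_normalizer hUn)
    have hV := frobenius_fixed_elementary hexp φ hpL (U.subgroupOf L) (E.subgroupOf L)
      (by rw [Subgroup.subgroupOf, Subgroup.subgroupOf, ← Subgroup.comap_inf, hUE, MonoidHom.comap_bot,
        Subgroup.ker_subtype])
      (by rw [← Subgroup.subgroupOf_sup le_sup_left le_sup_right, Subgroup.subgroupOf_self])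
      (fun e he he1 u hu h => Subtype.ext
        (hfpf e he (fun h0 => he1 (Subtype.ext h0)) u hu (congrArg Subtype.val h)))
    have hE : Nat.card (E.subgroupOf L) = Nat.card E :=
      Nat.card_congr (Subgroup.subgroupOfEquivOfLe le_sup_right).toEquiv
    have hKc : Nat.card K = Nat.card N * Nat.card (↥K ⧸ N₀) := by
      rw [hN, Subgroup.card_map_of_injective K.subtype_injective, mul_comm]
      exact Subgroup.card_eq_card_quotient_mul_card_subgroup N₀
    have hL : Nat.card {v : ↥K ⧸ N₀ // ∀ a ∈ L.subgroupOf L, φ a v = v} =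
        Nat.card {v : ↥K ⧸ N₀ // ∀ a : L, φ a v = v} :=
      Nat.card_congr (Equiv.subtypeEquivRight fun v =>
        ⟨fun h a => h a a.2, fun h a _ => h a⟩)
    rw [hE] at hV
    rw [hfix L le_rfl, hfix E le_sup_right, hfix U le_sup_left, hKc, hL, mul_pow, mul_pow]
    calc Nat.card ↥(N ⊓ centralizer (L : Set X)) ^ Nat.card E *
          Nat.card {v : ↥K ⧸ N₀ // ∀ a : L, φ a v = v} ^ Nat.card E *
          (Nat.card N * Nat.card (↥K ⧸ N₀))
        = (Nat.card ↥(N ⊓ centralizer (L : Set X)) ^ Nat.card E * Nat.card N) *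
          (Nat.card {v : ↥K ⧸ N₀ // ∀ a : L, φ a v = v} ^ Nat.card E * Nat.card (↥K ⧸ N₀)) := by
          ring
      _ = _ := by rw [hIH, hV]; ring

end Solvable

end Cfsg.Lib.FixedDim
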