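/-
Coprime action of an elementary abelian group of rank three: the derived subgroup is bounded in terms of
the derived subgroups of the fixed points of the non-identity elements.

The commutators of fixed points of subgroups of index at most `q` form a bounded set, so their elements
generate the derived subgroup and each of them is centralised by a subgroup of bounded index in every
invariant Sylow subgroup; hence the derived subgroup is central-by-bounded.
-/
import Cfsg.Agent.Coprime.CyclicQuotient
import Cfsg.Agent.Coprime.Sylow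

set_option autoImplicit false
set_option linter.style.haveILetI false

namespace Cfsg.Lib.Coprime.BoundedDerived

open Subgroup Cfsg.Lib.Coprime
open scoped Pointwise commutatorElement

variable {X : Type*} [Group X] [Finite X]

/-- `relIndex` of a chain. -/
theorem relIndex_chain {E₁ E₂ E₃ : Subgroup X} (h₁ : E₁ ≤ E₂) (h₂ : E₂ ≤ E₃) :
    E₁.relIndex E₂ * E₂.relIndex E₃ = E₁.relIndex E₃ :=
  Subgroup.relIndex_mul_relIndex E₁ E₂ E₃ h₁ h₂

theorem rne (H K : Subgroup X) : H.relIndex K ≠ 0 :=
  ne_zero_of_dvd_ne_zero Nat.card_pos.ne' (H.relIndex_dvd_card K)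

theorem rcard {H K : Subgroup X} (h : H ≤ K) : H.relIndex K * Nat.card H = Nat.card K := by
  rw [← relIndex_bot_left H, mul_comm, Subgroup.relIndex_mul_relIndex ⊥ H K bot_le h, relIndex_bot_left]

theorem mem_nrm {N : Subgroup X} {g : X} (h : ∀ x ∈ N, g * x * g⁻¹ ∈ N) : g ∈ normalizer (N : Set X) := by
  have h1 : conjMap g N ≤ N := by
    rintro - ⟨x, hx, rfl⟩
    exact h x hx
  exact conjMap_eq_self_iff.1 (eq_of_le_of_card_eq h1 (card_conjMap g N))

/-- The index of `U` in `U ⊔ Y`, for `Y` normalising `U`. -/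
theorem relIndex_sup_le {U Y D : Subgroup X} (hn : Y ≤ normalizer (U : Set X)) (hD : D ≤ U) :
    U.relIndex (U ⊔ Y) ≤ (D ⊓ Y).relIndex Y := by
  have h : U.relIndex Y ≤ D.relIndex Y :=
    Nat.le_of_dvd (Nat.pos_of_ne_zero (rne D Y))
      (Subgroup.relIndex_dvd_of_le_left Y hD)
  rw [Subgroup.inf_relIndex_right]
  refine le_trans (le_of_eq ?_) h
  have h1 := card_sup_mul_card_inf hn
  have h2 := rcard (le_sup_left : U ≤ U ⊔ Y)
  have h3 := rcard (inf_le_right : U ⊓ Y ≤ Y)
  rw [Subgroup.inf_relIndex_right] at h3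
  refine Nat.eq_of_mul_eq_mul_right (Nat.card_pos (α := U))
    (Nat.eq_of_mul_eq_mul_right (Nat.card_pos (α := ↥(U ⊓ Y))) ?_)
  rw [h2, h1, ← h3]
  ring

/-- A group generated over `D` by subgroups, with all intermediate subgroups normal, has index at most
the product of the indices in the generators. -/
theorem relIndex_iSup_le {ι : Type*} [DecidableEq ι] (s : Finset ι) (Y : ι → Subgroup X) {D E : Subgroup X}
    (hDE : D ≤ E) (hY : ∀ i ∈ s, Y i ≤ E) (hnor : ∀ U : Subgroup X, D ≤ U → U ≤ E → E ≤ normalizer (U : Set X)) :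
    D.relIndex (D ⊔ s.sup Y) ≤ ∏ i ∈ s, (D ⊓ Y i).relIndex (Y i) := by
  induction s using Finset.induction with
  | empty => simp
  | @insert i t hi ih =>
    have hle : D ⊔ t.sup Y ≤ E := sup_le hDE (Finset.sup_le fun j hj => hY j (Finset.mem_insert_of_mem hj))
    have h1 := ih fun j hj => hY j (Finset.mem_insert_of_mem hj)
    rw [Finset.prod_insert hi, Finset.sup_insert, sup_comm (Y i), ← sup_assoc, mul_comm,
      ← relIndex_chain le_sup_left le_sup_left]
    exact Nat.mul_le_mul h1
      (relIndex_sup_le ((hY i (Finset.mem_insert_self i t)).trans (hnor _ le_sup_left hle)) le_sup_left)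

/-- An invariant `p`-group has index over an invariant normal subgroup at most the product of the
corresponding indices in its fixed-point subgroups. -/
theorem relIndex_le_prod {A : Subgroup X} [IsMulCommutative A] (F : Finset (Subgroup X))
    (hF : cyclicQuot A ⊆ ↑F) (hFA : ∀ B ∈ F, B ≤ A) :
    ∀ (n : ℕ) {p : ℕ} [Fact p.Prime] (E K : Subgroup X), Nat.card E ≤ n → IsPGroup p E →
      A ≤ normalizer (E : Set X) → A ≤ normalizer (K : Set X) → K ≤ E → E ≤ normalizer (K : Set X) →
      (Nat.card A).Coprime (Nat.card E) →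
      K.relIndex E ≤ ∏ B ∈ F, (K ⊓ (E ⊓ centralizer (B : Set X))).relIndex (E ⊓ centralizer (B : Set X)) := by
  classical
  intro n
  induction n with
  | zero => intro p _ E K hn; exact absurd hn (not_le.2 Nat.card_pos)
  | succ n ih =>
    intro p _ E K hn hp hAE hAK hKE hEK hcop
    by_cases hEKeq : E ≤ K
    · rw [Subgroup.relIndex_eq_one.2 hEKeq]
      exact Finset.one_le_prod' fun B _ => Nat.pos_of_ne_zero
        (rne _ _)
    set C : Subgroup X → Subgroup X := fun B => E ⊓ centralizer (B : Set X) with hC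
    set E' : Subgroup X := ⁅E, E⁆ ⊔ K with hE'
    have hcomm : ⁅E, E⁆ ≤ E := commutator_le_self E
    have hE'E : E' ≤ E := sup_le hcomm hKE
    have hAE' : A ≤ normalizer (E' : Set X) := by
      refine le_normalizer_sup (fun a ha => ?_) hAK
      rw [← conjMap_eq_self_iff, conjMap, Subgroup.map_commutator]
      exact congrArg₂ (fun P Q : Subgroup X => ⁅P, Q⁆) (conjMap_eq_self (hAE ha)) (conjMap_eq_self (hAE ha))
    have hnor : ∀ U : Subgroup X, E' ≤ U → U ≤ E → E ≤ normalizer (U : Set X) := by
      intro U hU hUE e he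
      refine mem_nrm fun u hu => ?_
      have : e * u * e⁻¹ = ⁅e, u⁆ * u := by rw [commutatorElement_def]; group
      rw [this]
      exact mul_mem (hU (le_sup_left (a := ⁅E, E⁆) (Subgroup.commutator_mem_commutator he (hUE hu)))) hu
    -- `E'` is proper
    haveI : Group.IsNilpotent E := hp.isNilpotent
    have hlt : E' < E := by
      refine lt_of_le_of_ne hE'E fun heq => hEKeq ?_
      set f := K.subgroupOf E
      haveI : f.Normal := normal_subgroupOf_of_le_normalizer hEK
      have htop : ⁅(⊤ : Subgroup E), ⊤⁆ ⊔ f = ⊤ := by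
        apply Subgroup.map_injective E.subtype_injective
        rw [Subgroup.map_sup, Subgroup.map_commutator, ← MonoidHom.range_eq_map, Subgroup.range_subtype,
          map_subgroupOf_eq_of_le hKE]
        exact heq
      haveI hsol : Group.IsSolvable E := inferInstance
      haveI : Group.IsSolvable (E ⧸ f) :=
        Group.isSolvable_of_surjective (f := QuotientGroup.mk' f) (QuotientGroup.mk'_surjective f)
      by_contra hne
      haveI : Nontrivial (E ⧸ f) := QuotientGroup.nontrivial_iff.2 fun h => hne (subgroupOf_eq_top.1 h)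
      refine (Group.IsSolvable.commutator_lt_top_of_nontrivial (E ⧸ f)).ne ?_
      have := congrArg (Subgroup.map (QuotientGroup.mk' f)) htop
      rw [Subgroup.map_sup, Subgroup.map_commutator, Subgroup.map_top_of_surjective _ (QuotientGroup.mk'_surjective f),
        QuotientGroup.map_mk'_self, sup_bot_eq] at this
      exact this
    have hcard : Nat.card E' ≤ n := Nat.lt_succ_iff.1 (lt_of_lt_of_le
      (lt_of_le_of_ne (Nat.le_of_dvd Nat.card_pos (card_dvd_of_le hE'E))
        fun h => hlt.ne (Subgroup.eq_of_le_of_card_ge hE'E h.ge)) hn)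
    have h1 := ih E' K hcard (hp.to_le hE'E) hAE' hAK le_sup_right
      (hE'E.trans hEK) (hcop.coprime_dvd_right (card_dvd_of_le hE'E))
    have hgen : E ≤ E' ⊔ F.sup C := by
      refine le_sup_of_le_right ((le_join_cyclicQuot _ ⊥ E le_rfl bot_le hAE hcop bot_le).trans ?_)
      exact iSup₂_le fun B hB => Finset.le_sup (f := C) (hF hB)
    have h2 : E'.relIndex E ≤ ∏ B ∈ F, (E' ⊓ C B).relIndex (C B) := by
      have := relIndex_iSup_le F C hE'E (fun B _ => inf_le_left) hnor
      rwa [le_antisymm (sup_le hE'E (Finset.sup_le fun B _ => inf_le_left)) hgen] at this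
    rw [← relIndex_chain (le_sup_right : K ≤ E') hE'E]
    refine (Nat.mul_le_mul h1 h2).trans (le_of_eq ?_)
    rw [← Finset.prod_mul_distrib]
    refine Finset.prod_congr rfl fun B _ => ?_
    have hE'C : E' ⊓ C B = E' ⊓ centralizer (B : Set X) := by
      rw [hC, ← inf_assoc, inf_eq_left.2 hE'E]
    rw [← hE'C]
    have hK : K ⊓ (E' ⊓ C B) = K ⊓ C B := by
      rw [← inf_assoc, inf_eq_left.2 (le_sup_right : K ≤ E')]
    rw [hK]
    exact relIndex_chain (inf_le_inf_right _ le_sup_right) inf_le_right

/-- A number all whose prime-power parts are at most `M` is at most `M ^ (M + 1)`. -/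
theorem le_pow_of_ordProj_le {n M : ℕ} (hn : n ≠ 0) (hM : 1 ≤ M)
    (h : ∀ p, p.Prime → p ^ n.factorization p ≤ M) : n ≤ M ^ (M + 1) := by
  have hs : n.factorization.support ⊆ Finset.range (M + 1) := by
    intro p hp
    rw [Nat.support_factorization] at hp
    obtain ⟨hpp, hpn, -⟩ := Nat.mem_primeFactors.1 hp
    have h1 : p ≤ p ^ n.factorization p :=
      Nat.le_self_pow (hpp.factorization_pos_of_dvd hn hpn).ne' p
    exact Finset.mem_range.2 (Nat.lt_succ_of_le (h1.trans (h p hpp)))
  calc n = n.factorization.prod (· ^ ·) := (Nat.prod_factorization_pow_eq_self hn).symm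
    _ ≤ M ^ n.factorization.support.card := by
      refine le_trans (Finset.prod_le_prod' fun p hp => h p ?_) (le_of_eq (Finset.prod_const M))
      rw [Nat.support_factorization] at hp
      exact Nat.prime_of_mem_primeFactors hp
    _ ≤ M ^ (M + 1) := Nat.pow_le_pow_right hM ((Finset.card_le_card hs).trans (Finset.card_range _).le)

/-- The number bounding the derived subgroup. -/
noncomputable def bound (q m : ℕ) : ℕ :=
  let T := q ^ 3 * m
  let M := (T ^ T) ^ 2 ^ q ^ 3
  let F := M ^ (M + 1)
  (Finset.range (F * F + 1)).sup cardCommutatorBound * m.factorial ^ T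

/-- The derived subgroup under a coprime elementary abelian action of rank three. -/
theorem card_commutator_le {q m : ℕ} (hq : q.Prime) (A G : Subgroup X) [IsMulCommutative A]
    (hA : Nat.card A = q ^ 3) (he : ∀ a ∈ A, a ^ q = 1) (hAG : A ≤ normalizer (G : Set X))
    (hcop : (Nat.card A).Coprime (Nat.card G))
    (hm : ∀ a ∈ A, a ≠ 1 → Nat.card ↥⁅G ⊓ centralizer {a}, G ⊓ centralizer {a}⁆ ≤ m) :
    Nat.card ↥⁅G, G⁆ ≤ bound q m := by
  classical
  haveI : Fintype X := Fintype.ofFinite X
  set D : X → Subgroup X := fun a => ⁅G ⊓ centralizer {a}, G ⊓ centralizer {a}⁆ with hD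
  set A1 : Finset X := Finset.univ.filter fun a => a ∈ A ∧ a ≠ 1 with hA1
  set F : Finset (Subgroup X) := (Set.toFinite (cyclicQuot A)).toFinset with hF
  have hFmem : ∀ {B}, B ∈ F ↔ B ∈ cyclicQuot A := fun {B} => by rw [hF, Set.Finite.mem_toFinset]
  have hFA : ∀ B ∈ F, B ≤ A := fun B hB => (hFmem.1 hB).1
  have hA0 : A ≠ ⊥ := fun h => by
    rw [h, Subgroup.card_bot] at hA
    exact absurd hA (ne_of_lt (Nat.one_lt_pow (by omega) hq.one_lt))
  have hm1 : 1 ≤ m := by
    obtain ⟨a, ha⟩ := (Subgroup.ne_bot_iff_exists_ne_one.1 hA0)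
    exact Nat.card_pos.trans_le (hm a.1 a.2 fun h => ha (Subtype.ext h))
  set Tf : Finset X := A1.biUnion fun a => Finset.univ.filter fun x => x ∈ D a with hTf
  have hTcard : Tf.card ≤ q ^ 3 * m := by
    refine (Finset.card_biUnion_le_card_mul _ _ m fun a ha => ?_).trans (Nat.mul_le_mul_right m ?_)
    · obtain ⟨ha1, ha2⟩ := (Finset.mem_filter.1 ha).2
      refine le_trans (le_of_eq ?_) (hm a ha1 ha2)
      rw [Nat.card_eq_fintype_card, Fintype.card_subtype]
    · rw [← hA, Nat.card_eq_fintype_card, Fintype.card_subtype]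
      exact Finset.card_le_card fun a ha =>
        Finset.mem_filter.2 ⟨Finset.mem_univ a, (Finset.mem_filter.1 ha).2.1⟩
  set S : Set X := {x | ∃ B ∈ cyclicQuot A, x ∈ G ∧ x ∈ centralizer (B : Set X)} with hS
  -- two members of `cyclicQuot A` meet non-trivially
  have hbig : ∀ B ∈ cyclicQuot A, q ^ 2 ≤ Nat.card B := by
    rintro B ⟨hBA, a, ha, heq⟩
    have hn : zpowers a ≤ normalizer (B : Set X) := (zpowers_le.2 ha).trans
      (le_normalizer_of_le_centralizer (le_centralizer_of_abelian.trans (centralizer_le hBA)))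
    have h1 := card_sup_mul_card_inf hn
    rw [heq, hA, Nat.card_zpowers] at h1
    have h2 : orderOf a ≤ q := Nat.le_of_dvd hq.pos (orderOf_dvd_of_pow_eq_one (he a ha))
    refine Nat.le_of_mul_le_mul_right ?_ hq.pos
    calc q ^ 2 * q = q ^ 3 * 1 := by ring
      _ ≤ q ^ 3 * Nat.card ↥(B ⊓ zpowers a) := Nat.mul_le_mul_left _ Nat.card_pos
      _ = Nat.card B * orderOf a := h1
      _ ≤ Nat.card B * q := Nat.mul_le_mul_left _ h2
  have hmeet : ∀ x ∈ S, ∀ y ∈ S, ⁅x, y⁆ ∈ Tf := by
    rintro x ⟨B₁, hB₁, hxG, hxB⟩ y ⟨B₂, hB₂, hyG, hyB⟩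
    obtain ⟨a, ha₁, ha₂, ha⟩ : ∃ a, a ∈ B₁ ∧ a ∈ B₂ ∧ a ≠ 1 := by
      by_contra hno
      push Not at hno
      have hbot : B₁ ⊓ B₂ = ⊥ := (Subgroup.eq_bot_iff_forall _).2 fun a h => hno a h.1 h.2
      have hn : B₂ ≤ normalizer (B₁ : Set X) := hB₂.1.trans
        (le_normalizer_of_le_centralizer (le_centralizer_of_abelian.trans (centralizer_le hB₁.1)))
      have h1 := card_sup_of_inf_eq_bot hn hbot
      have h2 : Nat.card ↥(B₁ ⊔ B₂) ≤ q ^ 3 := hA ▸ Subgroup.card_le_of_le (sup_le hB₁.1 hB₂.1)
      have h3 : q ^ 4 ≤ q ^ 3 := by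
        calc q ^ 4 = q ^ 2 * q ^ 2 := by ring
          _ ≤ _ := (Nat.mul_le_mul (hbig B₁ hB₁) (hbig B₂ hB₂)).trans (h1 ▸ h2)
      exact absurd h3 (not_le.2 (Nat.pow_lt_pow_right hq.one_lt (by omega)))
    refine Finset.mem_biUnion.2 ⟨a, Finset.mem_filter.2 ⟨Finset.mem_univ a, hB₁.1 ha₁, ha⟩,
      Finset.mem_filter.2 ⟨Finset.mem_univ _, ?_⟩⟩
    exact Subgroup.commutator_mem_commutator
      ⟨hxG, mem_centralizer_singleton_iff.2 ((mem_centralizer_iff.1 hxB a ha₁).symm)⟩
      ⟨hyG, mem_centralizer_singleton_iff.2 ((mem_centralizer_iff.1 hyB a ha₂).symm)⟩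
  -- the subgroup generated by those commutator elements that are fixed points
  set Sg : Set X := (↑Tf : Set X) ∩ S with hSg
  set N : Subgroup X := closure Sg with hN
  have hDG : ∀ a, D a ≤ G := fun a => (commutator_le_self _).trans inf_le_left
  have hAD : ∀ a ∈ A, A ≤ normalizer (D a : Set X) := by
    intro a ha b hb
    have hb' : b ∈ normalizer ((G ⊓ centralizer {a} : Subgroup X) : Set X) := by
      refine mem_nrm fun x hx => ⟨(mem_normalizer_iff.1 (hAG hb) x).1 hx.1, ?_⟩
      have hab : Commute a b := congrArg Subtype.val (mul_comm' (⟨a, ha⟩ : A) ⟨b, hb⟩)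
      have hxa : Commute x a := mem_centralizer_singleton_iff.1 hx.2
      exact mem_centralizer_singleton_iff.2 (((hab.symm.mul_left hxa).mul_left hab.symm.inv_left).eq)
    rw [← conjMap_eq_self_iff, hD, conjMap, Subgroup.map_commutator]
    exact congrArg₂ (fun P Q : Subgroup X => ⁅P, Q⁆) (conjMap_eq_self hb') (conjMap_eq_self hb')
  have hTN : ∀ x ∈ Tf, x ∈ N := by
    intro x hx
    obtain ⟨a, ha, hxa⟩ := Finset.mem_biUnion.1 hx
    obtain ⟨haA, -⟩ := (Finset.mem_filter.1 ha).2
    refine (?_ : D a ≤ N) (Finset.mem_filter.1 hxa).2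
    refine (le_join_cyclicQuot _ ⊥ (D a) le_rfl bot_le (hAD a haA)
      (hcop.coprime_dvd_right (card_dvd_of_le (hDG a))) bot_le).trans (iSup₂_le fun B hB y hy => ?_)
    exact subset_closure ⟨Finset.mem_biUnion.2 ⟨a, ha, Finset.mem_filter.2 ⟨Finset.mem_univ y, hy.1⟩⟩,
      B, hB, hDG a hy.1, hy.2⟩
  have hTG : ∀ x ∈ Tf, x ∈ ⁅G, G⁆ := by
    intro x hx
    obtain ⟨a, -, hxa⟩ := Finset.mem_biUnion.1 hx
    exact Subgroup.commutator_mono inf_le_left inf_le_left (Finset.mem_filter.1 hxa).2
  have hNle : N ≤ ⁅G, G⁆ := (closure_le _).2 fun x hx => hTG x hx.1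
  have hSG : closure S = G := by
    refine le_antisymm ((closure_le _).2 fun x ⟨B, _, hx, _⟩ => hx) ?_
    exact (le_join_cyclicQuot _ ⊥ G le_rfl bot_le hAG hcop bot_le).trans
      (iSup₂_le fun B hB x hx => subset_closure ⟨B, hB, hx.1, hx.2⟩)
  have hGN : G ≤ normalizer (N : Set X) := by
    rw [← hSG, closure_le]
    intro h hh
    refine mem_nrm fun x hx => ?_
    have hle : N ≤ N.comap (MulAut.conj h).toMonoidHom := (closure_le _).2 fun s hs => by
      have hm' : ⁅h, s⁆ * s ∈ N := mul_mem (hTN _ (hmeet h hh s hs.2)) (subset_closure hs)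
      show h * s * h⁻¹ ∈ N
      have e : ⁅h, s⁆ * s = h * s * h⁻¹ := by rw [commutatorElement_def]; group
      rwa [e] at hm'
    exact hle hx
  have hNG : N = ⁅G, G⁆ := by
    refine le_antisymm hNle (Subgroup.commutator_le.2 fun g hg k hk => ?_)
    have step : ∀ y : X, (∀ s ∈ S, ⁅s, y⁆ ∈ N) → ∀ z ∈ closure S, ⁅z, y⁆ ∈ N := by
      intro y hy z hz
      induction hz using closure_induction with
      | mem s hs => exact hy s hs
      | one => rw [commutatorElement_one_left]; exact one_mem N
      | mul a b ha hb iha ihb =>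
        have e : ⁅a * b, y⁆ = a * ⁅b, y⁆ * a⁻¹ * ⁅a, y⁆ := by simp only [commutatorElement_def]; group
        rw [e]
        exact mul_mem ((mem_normalizer_iff.1 (hGN (hSG ▸ ha)) _).1 ihb) iha
      | inv a ha iha =>
        have e : ⁅a⁻¹, y⁆ = a⁻¹ * ⁅a, y⁆⁻¹ * a⁻¹⁻¹ := by simp only [commutatorElement_def]; group
        rw [e]
        exact (mem_normalizer_iff.1 (inv_mem (hGN (hSG ▸ ha))) _).1 (inv_mem iha)
    refine step k (fun s hs => ?_) g (hSG.symm ▸ hg)
    rw [← commutatorElement_inv]
    refine inv_mem (step s (fun t ht => hTN _ (hmeet t ht s hs)) k (hSG.symm ▸ hk))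
  -- the index of the centraliser
  set T := q ^ 3 * m with hT
  set M := (T ^ T) ^ 2 ^ q ^ 3 with hM
  have hTpos : 0 < T := Nat.mul_pos (pow_pos hq.pos 3) hm1
  have hMpos : 1 ≤ M := Nat.one_le_pow _ _ (pow_pos hTpos T)
  set K : Subgroup X := G ⊓ centralizer (N : Set X) with hK
  have hAN : A ≤ normalizer (N : Set X) := by
    rw [hNG]; intro a ha
    rw [← conjMap_eq_self_iff, conjMap, Subgroup.map_commutator]
    exact congrArg₂ (fun P Q : Subgroup X => ⁅P, Q⁆) (conjMap_eq_self (hAG ha)) (conjMap_eq_self (hAG ha))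
  have hAK : A ≤ normalizer (K : Set X) := le_normalizer_inf_centralizer hAG hAN
  have hGK : G ≤ normalizer (K : Set X) := le_normalizer_inf_centralizer le_normalizer hGN
  have hCB : ∀ B ∈ F, K.relIndex (G ⊓ centralizer (B : Set X)) ≤ T ^ T := by
    intro B hB
    set C := G ⊓ centralizer (B : Set X)
    have hc : ∀ h : C, ∀ s : {x // x ∈ Tf ∧ x ∈ S}, ⁅(h : X), (s : X)⁆ ∈ Tf := fun h s =>
      hmeet _ ⟨B, hFmem.1 hB, h.2.1, h.2.2⟩ _ s.2.2
    let φ : C ⧸ K.subgroupOf C → ({x // x ∈ Tf ∧ x ∈ S} → {x // x ∈ Tf}) :=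
      fun c s => ⟨⁅(c.out : X), (s : X)⁆, hc c.out s⟩
    have hinj : Function.Injective φ := by
      intro c d hcd
      rw [← QuotientGroup.out_eq' c, ← QuotientGroup.out_eq' d, QuotientGroup.eq, mem_subgroupOf]
      refine Subgroup.mem_inf.2 ⟨mul_mem (inv_mem c.out.2.1) d.out.2.1, ?_⟩
      rw [hN, centralizer_closure, mem_centralizer_iff]
      intro s hs
      have h1 : ⁅(c.out : X), s⁆ = ⁅(d.out : X), s⁆ :=
        congrArg Subtype.val (congrFun hcd ⟨s, hs.1, hs.2⟩)
      rw [commutatorElement_def, commutatorElement_def, mul_left_inj] at h1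
      simp only [Subgroup.coe_mul, Subgroup.coe_inv]
      generalize (c.out : X) = u at h1 ⊢
      generalize (d.out : X) = v at h1 ⊢
      calc s * (u⁻¹ * v) = u⁻¹ * (u * s * u⁻¹) * v := by group
        _ = u⁻¹ * (v * s * v⁻¹) * v := by rw [h1]
        _ = u⁻¹ * v * s := by group
    have h1 := Nat.card_le_card_of_injective φ hinj
    rw [Nat.card_fun, Nat.card_eq_finsetCard] at h1
    refine (show Nat.card (C ⧸ K.subgroupOf C) ≤ T ^ T from h1.trans ?_)
    refine (Nat.pow_le_pow_left hTcard _).trans (Nat.pow_le_pow_right hTpos ?_)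
    refine le_trans ?_ hTcard
    rw [← Nat.card_eq_finsetCard]
    exact Nat.card_le_card_of_injective (fun s => ⟨s.1, s.2.1⟩)
      (fun a b h => Subtype.ext (congrArg (fun z : {x // x ∈ Tf} => z.1) h))
  have hindex : K.relIndex G ≤ M ^ (M + 1) := by
    refine le_pow_of_ordProj_le (rne _ _) hMpos fun p hp => ?_
    haveI := Fact.mk hp
    have hsolA : Group.IsSolvable A := Group.isSolvable_of_comm fun a b => mul_comm' a b
    obtain ⟨P, hP⟩ := exists_invariant_sylow hAG hcop (Or.inl hsolA) p
    set E : Subgroup X := (P : Subgroup G).map G.subtype with hE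
    have hEG : E ≤ G := map_subtype_le _
    have hEp : IsPGroup p E := P.2.map _
    have h1 := relIndex_le_prod F (fun B hB => hFmem.2 hB) hFA (Nat.card E) E (K ⊓ E) le_rfl hEp hP
      (le_normalizer_inf hAK hP) inf_le_right
      (le_normalizer_inf (hEG.trans hGK) le_normalizer) (hcop.coprime_dvd_right (card_dvd_of_le hEG))
    have h2 : (K ⊓ E).relIndex E ≤ M := by
      refine h1.trans ?_
      refine le_trans (Finset.prod_le_pow_card F _ (T ^ T) fun B hB => ?_) ?_
      · rw [Subgroup.inf_relIndex_right, inf_assoc]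
        refine le_trans (le_of_eq ?_) ((Subgroup.relIndex_le_of_le_right
          (inf_le_inf_right _ hEG) (rne _ _)).trans (hCB B hB))
        rw [← inf_assoc, ← Subgroup.inf_relIndex_right (K ⊓ E) (E ⊓ centralizer (B : Set X)),
          ← Subgroup.inf_relIndex_right K (E ⊓ centralizer (B : Set X)), inf_assoc K E, ← inf_assoc E E,
          inf_idem]
      · refine Nat.pow_le_pow_right (Nat.one_le_pow _ _ hTpos) ?_
        calc F.card ≤ (Finset.univ.filter fun a : X => a ∈ A).powerset.card := by
              refine Finset.card_le_card_of_injOn (fun B => Finset.univ.filter fun a : X => a ∈ B)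
                (fun B hB => Finset.mem_powerset.2 fun a ha => Finset.mem_filter.2
                  ⟨Finset.mem_univ a, hFA B hB (Finset.mem_filter.1 ha).2⟩) ?_
              intro B _ B' _ hBB
              ext a
              simpa using Finset.ext_iff.1 hBB a
          _ = 2 ^ q ^ 3 := by
            rw [Finset.card_powerset, ← hA, Nat.card_eq_fintype_card, Fintype.card_subtype]
    refine le_trans (Nat.le_of_dvd (Nat.pos_of_ne_zero (rne _ _)) ?_) h2
    -- `p`-part of the index divides the index in `E`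
    have hG : Nat.card G = K.relIndex G * Nat.card K := ((rcard inf_le_left)).symm
    have hEc : Nat.card E = p ^ (Nat.card G).factorization p := by
      rw [hE, Subgroup.card_map_of_injective G.subtype_injective, P.card_eq_multiplicity]
    have hE2 : Nat.card E = (K ⊓ E).relIndex E * Nat.card ↥(K ⊓ E) := (rcard inf_le_right).symm
    obtain ⟨j, hj⟩ := (hEp.to_le (inf_le_right : K ⊓ E ≤ E)).exists_card_eq
    have hjle : j ≤ (Nat.card K).factorization p :=
      (Nat.Prime.pow_dvd_iff_le_factorization hp Nat.card_pos.ne').1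
        (hj ▸ card_dvd_of_le inf_le_left)
    have e : (K ⊓ E).relIndex E * p ^ j =
        p ^ (K.relIndex G).factorization p * p ^ (Nat.card K).factorization p := by
      rw [← hj, ← hE2, hEc, hG, Nat.factorization_mul (rne _ _) Nat.card_pos.ne',
        Finsupp.add_apply, pow_add]
    refine (Nat.mul_dvd_mul_iff_right (pow_pos hp.pos ((Nat.card K).factorization p))).1 ?_
    rw [← e]
    exact Nat.mul_dvd_mul_left _ (pow_dvd_pow p hjle)
  -- conclusion
  set Fb := M ^ (M + 1) with hFb
  have hZ : (centralizer (N : Set X)).relIndex N ≤ Fb := by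
    refine le_trans ?_ hindex
    have h1 : (centralizer (N : Set X)).relIndex G = K.relIndex G := by
      rw [hK, inf_comm, Subgroup.inf_relIndex_right]
    rw [← h1]
    exact Subgroup.relIndex_le_of_le_right (hNle.trans (commutator_le_self G))
      (rne _ _)
  have hcs : Nat.card (commutatorSet N) ≤ Fb * Fb := by
    set Z := (centralizer (N : Set X)).subgroupOf N
    have hcc : ∀ x y : N, ⁅x, y⁆ = ⁅(x : N ⧸ Z).out, (y : N ⧸ Z).out⁆ := by
      intro x y
      obtain ⟨u, hu⟩ := QuotientGroup.mk_out_eq_mul Z x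
      obtain ⟨v, hv⟩ := QuotientGroup.mk_out_eq_mul Z y
      rw [hu, hv]
      have hc : ∀ w : Z, ∀ n : N, Commute (w : N) n := fun w n =>
        Subtype.ext ((mem_centralizer_iff.1 (mem_subgroupOf.1 w.2) n n.2).symm)
      have hL : ∀ (w : Z) (a b : N), ⁅a * w, b⁆ = ⁅a, b⁆ := fun w a b => by
        simp only [commutatorElement_def, mul_inv_rev]
        calc a * w * b * ((w : N)⁻¹ * a⁻¹) * b⁻¹ = a * ((w : N) * b * (w : N)⁻¹) * a⁻¹ * b⁻¹ := by group
          _ = _ := by rw [(hc w b).eq, mul_inv_cancel_right]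
      rw [hL, ← commutatorElement_inv (y * v), hL, commutatorElement_inv]
    have hZc : Nat.card (N ⧸ Z) ≤ Fb := hZ
    refine le_trans (Nat.card_le_card_of_surjective
      (fun p : (N ⧸ Z) × (N ⧸ Z) => (⟨⁅p.1.out, p.2.out⁆, _, _, rfl⟩ : commutatorSet N)) ?_) ?_
    · rintro ⟨-, x, y, rfl⟩
      exact ⟨(x, y), Subtype.ext (hcc x y).symm⟩
    · rw [Nat.card_prod]; exact Nat.mul_le_mul hZc hZc
  have hN' : Nat.card (_root_.commutator N) ≤ (Finset.range (Fb * Fb + 1)).sup cardCommutatorBound :=
    (card_commutator_le_of_finite_commutatorSet N).trans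
      (Finset.le_sup (f := cardCommutatorBound) (Finset.mem_range.2 (Nat.lt_succ_of_le hcs)))
  have hab : Nat.card (N ⧸ _root_.commutator N) ≤ m.factorial ^ T := by
    set g : N →* Abelianization N := Abelianization.of
    set Sf : Finset (Abelianization N) :=
      (Finset.univ.filter fun x : N => (x : X) ∈ Sg).image g with hSf
    have hgen : closure (Sf : Set (Abelianization N)) = ⊤ := by
      rw [hSf, Finset.coe_image, Finset.coe_filter, ← MonoidHom.map_closure]
      have : closure {x : N | x ∈ (Finset.univ : Finset N) ∧ (x : X) ∈ Sg} = ⊤ := by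
        have h := Subgroup.closure_closure_coe_preimage (k := Sg)
        rw [← h]
        congr 1
        ext x
        simp
      rw [this]
      exact Subgroup.map_top_of_surjective g QuotientGroup.mk_surjective
    have hexp : ∀ v : Abelianization N, v ^ m.factorial = 1 := by
      intro v
      have : closure (Sf : Set (Abelianization N)) ≤
          (powMonoidHom m.factorial : Abelianization N →* _).ker := by
        rw [closure_le]
        intro w hw
        rw [Finset.mem_coe, hSf, Finset.mem_image] at hw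
        obtain ⟨x, hx, rfl⟩ := hw
        obtain ⟨a, ha, hxa⟩ := Finset.mem_biUnion.1 (Finset.mem_filter.1 hx).2.1
        obtain ⟨haA, ha1⟩ := (Finset.mem_filter.1 ha).2
        have hd : orderOf (x : X) ∣ Nat.card (D a) :=
          orderOf_dvd_natCard (⟨x, (Finset.mem_filter.1 hxa).2⟩ : D a) |> fun h => by
            rwa [← Subgroup.orderOf_coe] at h
        have hx1 : (x : X) ^ m.factorial = 1 := orderOf_dvd_iff_pow_eq_one.1
          (hd.trans (Nat.dvd_factorial Nat.card_pos (hm a haA ha1)))
        show g x ^ m.factorial = 1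
        rw [← map_pow, show x ^ m.factorial = 1 from Subtype.ext hx1, map_one]
      exact this (hgen ▸ mem_top v)
    haveI : Group.FG (Abelianization N) := Group.fg_of_finite
    have hrank : Group.rank (Abelianization N) ≤ T := by
      refine (Group.rank_le hgen).trans (Finset.card_image_le.trans (le_trans ?_ hTcard))
      exact Finset.card_le_card_of_injOn (fun x : N => (x : X))
        (fun x hx => (Finset.mem_filter.1 hx).2.1) Subtype.val_injective.injOn
    exact (Nat.le_of_dvd (pow_pos m.factorial_pos _) (card_dvd_exponent_pow_rank' (Abelianization N) hexp)).trans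
      (Nat.pow_le_pow_right m.factorial_pos hrank)
  rw [← hNG, Subgroup.card_eq_card_quotient_mul_card_subgroup (_root_.commutator N), mul_comm]
  exact Nat.mul_le_mul hN' hab

end Cfsg.Lib.Coprime.BoundedDerived
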