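import Cfsg.Agent.Coprime.Action

/-!
Dimensions of fixed point spaces of a coprime action on an elementary abelian `p`-group
obey every linear relation among the indicator functions of the acting subgroups.
The action is lifted to matrices over `ZMod (p ^ (k + 1))`, where traces of idempotents are exact.
-/

set_option linter.style.haveILetI false
set_option linter.unusedSectionVars false

namespace Cfsg.Lib.FixedDim

open Matrix

variable {p : ℕ} [hp : Fact p.Prime]

/-- reduction of scalars -/
noncomputable def redS (p k : ℕ) : ZMod (p ^ (k + 1)) →+* ZMod p :=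
  ZMod.castHom (dvd_pow_self p k.succ_ne_zero) (ZMod p)

/-- reduction of square matrices -/
noncomputable def red (p k n : ℕ) :
    Matrix (Fin n) (Fin n) (ZMod (p ^ (k + 1))) →+* Matrix (Fin n) (Fin n) (ZMod p) :=
  (redS p k).mapMatrix

theorem redS_val (k : ℕ) (x : ZMod p) : redS p k (x.val : ZMod (p ^ (k + 1))) = x := by
  rw [map_natCast, ZMod.natCast_zmod_val]

theorem map_lift (k : ℕ) {a b : Type*} (M : Matrix a b (ZMod p)) :
    (M.map fun x => (x.val : ZMod (p ^ (k + 1)))).map (redS p k) = M := by
  ext i j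
  simp only [Matrix.map_apply, redS_val]

theorem red_surjective (k n : ℕ) : Function.Surjective (red p k n) :=
  fun M => ⟨_, map_lift k M⟩

theorem exists_smul_of_red_eq_zero {k n : ℕ} {X : Matrix (Fin n) (Fin n) (ZMod (p ^ (k + 1)))}
    (h : red p k n X = 0) :
    ∃ Y : Matrix (Fin n) (Fin n) (ZMod (p ^ (k + 1))), X = (p : ZMod (p ^ (k + 1))) • Y := by
  haveI : NeZero (p ^ (k + 1)) := ⟨pow_ne_zero _ hp.out.ne_zero⟩
  refine ⟨X.map fun x => ((x.val / p : ℕ) : ZMod (p ^ (k + 1))), ?_⟩
  ext i j
  have h1 : redS p k (X i j) = 0 := congrFun (congrFun h i) j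
  rw [← ZMod.natCast_zmod_val (X i j), map_natCast, ZMod.natCast_eq_zero_iff] at h1
  rw [Matrix.smul_apply, Matrix.map_apply, smul_eq_mul, ← Nat.cast_mul, Nat.mul_div_cancel' h1,
    ZMod.natCast_zmod_val]

theorem pow_succ_eq_zero (k : ℕ) : (p : ZMod (p ^ (k + 1))) ^ (k + 1) = 0 := by
  rw [← Nat.cast_pow, ZMod.natCast_self]

theorem isNilpotent_of_red_eq_zero {k n : ℕ} {X : Matrix (Fin n) (Fin n) (ZMod (p ^ (k + 1)))}
    (h : red p k n X = 0) : IsNilpotent X := by
  obtain ⟨Y, rfl⟩ := exists_smul_of_red_eq_zero h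
  exact ⟨k + 1, by rw [smul_pow, pow_succ_eq_zero, zero_smul]⟩

theorem isUnit_of_red_eq_one {k n : ℕ} {X : Matrix (Fin n) (Fin n) (ZMod (p ^ (k + 1)))}
    (h : red p k n X = 1) : IsUnit X := by
  have h1 : IsNilpotent (1 - X) := isNilpotent_of_red_eq_zero (by rw [map_sub, map_one, h, sub_self])
  simpa using h1.isUnit_one_sub

theorem pow_prime_pow_eq_one {k n : ℕ} {g : Matrix (Fin n) (Fin n) (ZMod (p ^ (k + 1)))}
    (h : red p k n g = 1) : g ^ p ^ k = 1 := by
  have key : ∀ m : ℕ, ∃ Y : Matrix (Fin n) (Fin n) (ZMod (p ^ (k + 1))),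
      g ^ p ^ m - 1 = ((p : ZMod (p ^ (k + 1))) ^ (m + 1)) • Y := by
    intro m
    induction m with
    | zero =>
      obtain ⟨Y, hY⟩ := exists_smul_of_red_eq_zero (X := g - 1) (by rw [map_sub, map_one, h, sub_self])
      exact ⟨Y, by rw [pow_zero, pow_one, zero_add, pow_one, hY]⟩
    | succ m ih =>
      obtain ⟨Y, hY⟩ := ih
      obtain ⟨Z, hZ⟩ := exists_smul_of_red_eq_zero
        (X := ∑ i ∈ Finset.range p, (g ^ p ^ m) ^ i) (by
          simp only [map_sum, map_pow, h, one_pow, Finset.sum_const, Finset.card_range]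
          ext i j
          simp)
      refine ⟨Z * Y, ?_⟩
      rw [pow_succ p m, pow_mul, ← geom_sum_mul, hY, hZ, smul_mul_smul_comm, ← pow_succ']
  obtain ⟨Y, hY⟩ := key k
  rw [pow_succ_eq_zero, zero_smul, sub_eq_zero] at hY
  exact hY

/-- The trace of an idempotent is the rank of its reduction. -/
theorem trace_idem {k n : ℕ} (P : Matrix (Fin n) (Fin n) (ZMod (p ^ (k + 1)))) (hP : P * P = P) :
    P.trace = (Module.finrank (ZMod p) (LinearMap.range (Matrix.toLin' (red p k n P))) :
      ZMod (p ^ (k + 1))) := by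
  classical
  set Pb := red p k n P with hPb
  set f := Matrix.toLin' Pb with hf
  set W := LinearMap.range f with hW
  set m := Module.finrank (ZMod p) W
  let e : W ≃ₗ[ZMod p] (Fin m → ZMod p) := (Module.finBasis (ZMod p) W).equivFun
  set A : Matrix (Fin n) (Fin m) (ZMod p) := LinearMap.toMatrix' (W.subtype ∘ₗ e.symm.toLinearMap)
    with hA
  set B : Matrix (Fin m) (Fin n) (ZMod p) := LinearMap.toMatrix' (e.toLinearMap ∘ₗ f.rangeRestrict)
    with hB
  have hff : ∀ v, f (f v) = f v := fun v => by
    rw [hf, ← Matrix.toLin'_mul_apply, hPb, ← map_mul, hP]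
  have hAB : A * B = Pb := by
    rw [hA, hB, ← LinearMap.toMatrix'_comp]
    apply Matrix.toLin'.injective
    rw [Matrix.toLin'_toMatrix']
    refine LinearMap.ext fun v => ?_
    simp only [LinearMap.comp_apply, LinearEquiv.coe_coe, LinearEquiv.symm_apply_apply]
    rfl
  have hBA : B * A = 1 := by
    rw [hA, hB, ← LinearMap.toMatrix'_comp]
    apply Matrix.toLin'.injective
    rw [Matrix.toLin'_toMatrix', Matrix.toLin'_one]
    refine LinearMap.ext fun v => ?_
    simp only [LinearMap.comp_apply, LinearEquiv.coe_coe, LinearMap.id_apply]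
    apply e.symm.injective
    rw [LinearEquiv.symm_apply_apply]
    apply Subtype.ext
    show f (e.symm v : Fin n → ZMod p) = (e.symm v : Fin n → ZMod p)
    obtain ⟨w, hw⟩ := (e.symm v).2
    rw [← hw, hff]
  set A' := A.map fun x => (x.val : ZMod (p ^ (k + 1)))
  set B' := B.map fun x => (x.val : ZMod (p ^ (k + 1)))
  have hA' : A'.map (redS p k) = A := map_lift k A
  have hB' : B'.map (redS p k) = B := map_lift k B
  have hP' : P.map (redS p k) = Pb := rfl
  have hC : red p k m (B' * P * A') = 1 := by
    show (B' * P * A').map (redS p k) = 1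
    rw [Matrix.map_mul, Matrix.map_mul, hA', hB', hP', ← hAB,
      show B * (A * B) * A = (B * A) * (B * A) by simp only [Matrix.mul_assoc], hBA, one_mul]
  obtain ⟨C, hCv⟩ := isUnit_of_red_eq_one hC
  have hD : red p k m (↑C⁻¹ : Matrix (Fin m) (Fin m) (ZMod (p ^ (k + 1)))) = 1 := by
    have h1 := congrArg (red p k m) C.inv_mul
    rw [map_mul, map_one, hCv, hC, mul_one] at h1
    exact h1
  set D : Matrix (Fin m) (Fin m) (ZMod (p ^ (k + 1))) := ↑C⁻¹ with hDdef
  have hCD : (B' * P * A') * D = 1 := by rw [← hCv, hDdef]; exact C.mul_inv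
  have hDC : D * (B' * P * A') = 1 := by rw [← hCv, hDdef]; exact C.inv_mul
  set Q := P * A' * D * (B' * P) with hQ
  have hPQ : P * Q = Q := by
    simp only [hQ, ← Matrix.mul_assoc, hP]
  have hQP : Q * P = Q := by
    simp only [hQ, Matrix.mul_assoc, hP]
  have hQQ : Q * Q = Q := by
    calc Q * Q = P * A' * D * ((B' * (P * P) * A') * D) * (B' * P) := by
          simp only [hQ, Matrix.mul_assoc]
      _ = Q := by rw [hP, hCD, Matrix.mul_one]
  have hred : red p k n Q = Pb := by
    show (P * A' * D * (B' * P)).map (redS p k) = Pb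
    rw [Matrix.map_mul, Matrix.map_mul, Matrix.map_mul, Matrix.map_mul, hA', hB', hP',
      show D.map (redS p k) = 1 from hD, Matrix.mul_one, ← hAB,
      show A * B * A * (B * (A * B)) = A * (B * A) * (B * A) * B by simp only [Matrix.mul_assoc],
      hBA, Matrix.mul_one, Matrix.mul_one]
  have hz : P - Q = 0 := by
    have hi : IsIdempotentElem (P - Q) := by
      show (P - Q) * (P - Q) = P - Q
      rw [mul_sub, sub_mul, sub_mul, hP, hPQ, hQP, hQQ, sub_self, sub_zero]
    obtain ⟨N, hN⟩ := isNilpotent_of_red_eq_zero (X := P - Q)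
      (by rw [map_sub, hred, hPb, sub_self])
    cases N with
    | zero => rw [pow_zero] at hN; rw [← mul_one (P - Q), hN, mul_zero]
    | succ N => rwa [hi.pow_succ_eq] at hN
  rw [sub_eq_zero.mp hz, hQ, Matrix.trace_mul_comm, show B' * P * (P * A' * D) = 1 by
    rw [← hCD]; simp only [Matrix.mul_assoc]; rw [← Matrix.mul_assoc P P, hP],
    Matrix.trace_one, Fintype.card_fin]

/-- A coprime representation lifts. -/
theorem exists_lift {F : Type*} [Group F] [Finite F] {n : ℕ}
    (ρ : F →* Matrix (Fin n) (Fin n) (ZMod p)) (hcop : (Nat.card F).Coprime p) (k : ℕ) :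
    ∃ σ : F →* Matrix (Fin n) (Fin n) (ZMod (p ^ (k + 1))), ∀ f, red p k n (σ f) = ρ f := by
  classical
  haveI : NeZero (p ^ (k + 1)) := ⟨pow_ne_zero _ hp.out.ne_zero⟩
  let πu := Units.map (red p k n).toMonoidHom
  let ρu : F →* (Matrix (Fin n) (Fin n) (ZMod p))ˣ := ρ.toHomUnits
  have hsurj : Function.Surjective πu := by
    intro u
    obtain ⟨g, hg⟩ := red_surjective k n (u : Matrix (Fin n) (Fin n) (ZMod p))
    obtain ⟨g', hg'⟩ := red_surjective k n (↑u⁻¹ : Matrix (Fin n) (Fin n) (ZMod p))
    have h1 : IsUnit (g * g') := isUnit_of_red_eq_one (by rw [map_mul, hg, hg', Units.mul_inv])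
    have h2 : IsUnit g := by
      rw [Matrix.isUnit_iff_isUnit_det] at h1 ⊢
      rw [Matrix.det_mul] at h1
      exact isUnit_of_mul_isUnit_left h1
    obtain ⟨v, hv⟩ := h2
    exact ⟨v, Units.ext (by show red p k n (v : Matrix _ _ _) = _; rw [hv, hg])⟩
  let Γ : Subgroup (F × (Matrix (Fin n) (Fin n) (ZMod (p ^ (k + 1))))ˣ) :=
    MonoidHom.eqLocus (ρu.comp (MonoidHom.fst _ _)) (πu.comp (MonoidHom.snd _ _))
  let q : Γ →* F := (MonoidHom.fst _ _).comp Γ.subtype
  have hq : Function.Surjective q := fun f => by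
    obtain ⟨v, hv⟩ := hsurj (ρu f)
    exact ⟨⟨(f, v), hv.symm⟩, rfl⟩
  have hN : IsPGroup p q.ker := by
    rintro ⟨⟨⟨f, v⟩, hx⟩, hk⟩
    have hf : f = 1 := hk
    subst hf
    have hv : red p k n (v : Matrix _ _ _) = 1 := by
      have := congrArg Units.val (show ρu 1 = πu v from hx)
      rw [map_one] at this
      exact this.symm
    refine ⟨k, Subtype.ext (Subtype.ext (Prod.ext ?_ ?_))⟩
    · simp
    · exact Units.ext (by simp [pow_prime_pow_eq_one hv])
  have hidx : q.ker.index = Nat.card F := by
    rw [Subgroup.index_ker, MonoidHom.range_eq_top.mpr hq, Subgroup.card_top]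
  obtain ⟨j, hj⟩ := IsPGroup.iff_card.mp hN
  obtain ⟨J, hJ⟩ := Subgroup.exists_right_complement'_of_coprime (N := q.ker) (by
    rw [hj, hidx]
    exact (hcop.pow_right j).symm)
  have hbij : Function.Bijective (q.comp J.subtype) := by
    have hinj : Function.Injective (q.comp J.subtype) := by
      rw [← MonoidHom.ker_eq_bot_iff, eq_bot_iff]
      intro x hx
      have hd := Subgroup.disjoint_def.mp hJ.disjoint (x := (x : Γ)) hx x.2
      exact Subtype.ext hd
    exact (Nat.bijective_iff_injective_and_card _).mpr ⟨hinj, hJ.symm.index_eq_card.symm.trans hidx⟩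
  let e := MulEquiv.ofBijective (q.comp J.subtype) hbij
  refine ⟨(Units.coeHom _).comp ((MonoidHom.snd F _).comp
    ((Γ.subtype.comp J.subtype).comp e.symm.toMonoidHom)), fun f => ?_⟩
  have h1 : ρu (e.symm f : Γ).1.1 = πu (e.symm f : Γ).1.2 := (e.symm f : Γ).2
  have h2 : (e.symm f : Γ).1.1 = f := e.apply_symm_apply f
  rw [h2] at h1
  exact (congrArg Units.val h1).symm

open scoped Classical in
/-- Linear relations between indicator functions of subgroups give the same relations between
dimensions of fixed point spaces, weighted by the orders. -/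
theorem sum_dim_fixed {F : Type*} [Group F] [Finite F] {V : Type*} [AddCommGroup V]
    [Module (ZMod p) V] [Finite V] (ρ : F →* Module.End (ZMod p) V)
    (hcop : (Nat.card F).Coprime p) {ι : Type*} [Fintype ι] (A : ι → Subgroup F) (c : ι → ℤ)
    (hc : ∀ x : F, (∑ i, if x ∈ A i then c i else 0) = 0) :
    ∃ d : ι → ℕ, (∀ i, Nat.card {v : V // ∀ a ∈ A i, ρ a v = v} = p ^ d i) ∧
      ∑ i, c i * ((Nat.card (A i) * d i : ℕ) : ℤ) = 0 := by
  have := Fintype.ofFinite F
  have : Module.Finite (ZMod p) V := Module.Finite.of_finite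
  set n := Module.finrank (ZMod p) V
  let b := Module.finBasis (ZMod p) V
  let T := LinearMap.toMatrixAlgEquiv b
  let ρm : F →* Matrix (Fin n) (Fin n) (ZMod p) :=
    (T.toMulEquiv.toMonoidHom).comp ρ
  let fix : ι → Submodule (ZMod p) V := fun i =>
    { carrier := {v | ∀ a ∈ A i, ρ a v = v}
      add_mem' := fun hu hv a ha => by rw [map_add, hu a ha, hv a ha]
      zero_mem' := fun a _ => map_zero _
      smul_mem' := fun r v hv a ha => by rw [map_smul, hv a ha] }
  refine ⟨fun i => Module.finrank (ZMod p) (fix i), fun i => ?_, ?_⟩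
  · rw [show Nat.card {v : V // ∀ a ∈ A i, ρ a v = v} = Nat.card (fix i) from rfl,
      Module.natCard_eq_pow_finrank (K := ZMod p), Nat.card_zmod]
  set z := ∑ i, c i * ((Nat.card (A i) * Module.finrank (ZMod p) (fix i) : ℕ) : ℤ)
  have key : ∀ k : ℕ, ((p ^ (k + 1) : ℕ) : ℤ) ∣ z := by
    intro k
    haveI : NeZero (p ^ (k + 1)) := ⟨pow_ne_zero _ hp.out.ne_zero⟩
    obtain ⟨σ, hσ⟩ := exists_lift ρm hcop k
    let S : ι → Matrix (Fin n) (Fin n) (ZMod (p ^ (k + 1))) := fun i =>
      ∑ x : F, if x ∈ A i then σ x else 0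
    have hunit : ∀ i, IsUnit ((Nat.card (A i) : ℕ) : ZMod (p ^ (k + 1))) := fun i =>
      (ZMod.isUnit_iff_coprime _ _).mpr ((hcop.coprime_dvd_left
        (Subgroup.card_subgroup_dvd_card _)).pow_right _)
    have hcount : ∀ i, ((Finset.univ.filter fun x => x ∈ A i).card) = Nat.card (A i) := fun i => by
      rw [Nat.card_eq_fintype_card, Fintype.card_subtype]
    have hSmul : ∀ i, ∀ a ∈ A i, σ a * S i = S i := by
      intro i a ha
      rw [Finset.mul_sum]
      refine Fintype.sum_equiv (Equiv.mulLeft a) _ _ fun x => ?_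
      simp only [Equiv.coe_mulLeft, (A i).mul_mem_cancel_left ha]
      split
      · rw [map_mul]
      · rw [mul_zero]
    have hSS : ∀ i, S i * S i = ((Nat.card (A i) : ℕ) : ZMod (p ^ (k + 1))) • S i := by
      intro i
      conv_lhs => arg 1; simp only [S]
      rw [Finset.sum_mul]
      rw [Finset.sum_congr rfl (g := fun x => if x ∈ A i then S i else 0) fun x _ => by
        split
        next h => exact hSmul i x h
        next => exact zero_mul _]
      rw [← Finset.sum_filter, Finset.sum_const, hcount, Nat.cast_smul_eq_nsmul]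
    have htr : ∀ i, (S i).trace =
        ((Nat.card (A i) * Module.finrank (ZMod p) (fix i) : ℕ) : ZMod (p ^ (k + 1))) := by
      intro i
      obtain ⟨u, hu⟩ := hunit i
      set P := (↑u⁻¹ : ZMod (p ^ (k + 1))) • S i with hPdef
      have hPP : P * P = P := by
        rw [hPdef, smul_mul_smul_comm, hSS i, smul_smul, mul_assoc, ← hu, Units.inv_mul, mul_one]
      have hSP : S i = ((Nat.card (A i) : ℕ) : ZMod (p ^ (k + 1))) • P := by
        rw [hPdef, smul_smul, ← hu, Units.mul_inv, one_smul]
      have hN0 : ((Nat.card (A i) : ℕ) : ZMod p) ≠ 0 := by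
        rw [Ne, ZMod.natCast_eq_zero_iff]
        intro hd
        exact hp.out.ne_one (Nat.eq_one_of_dvd_coprimes
          (hcop.coprime_dvd_left (Subgroup.card_subgroup_dvd_card (A i))) hd dvd_rfl)
      set N : ZMod p := ((Nat.card (A i) : ℕ) : ZMod p)
      let E : Module.End (ZMod p) V := N⁻¹ • ∑ x : F, if x ∈ A i then ρ x else 0
      have hred : red p k n P = T E := by
        have h1 : red p k n (S i) = T (∑ x : F, if x ∈ A i then ρ x else 0) := by
          simp only [S, map_sum]
          refine Finset.sum_congr rfl fun x _ => ?_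
          split
          · exact hσ x
          · rw [map_zero, map_zero]
        have h2 : red p k n (S i) = N • red p k n P := by
          rw [hSP]
          ext a b
          show redS p k (_ * P a b) = N * redS p k (P a b)
          rw [map_mul, map_natCast]
        rw [show E = N⁻¹ • ∑ x : F, if x ∈ A i then ρ x else 0 from rfl,
          map_smul T N⁻¹ _, ← h1, h2, smul_smul, inv_mul_cancel₀ hN0, one_smul]
      have hrange : LinearMap.range E = fix i := by
        apply le_antisymm
        · rintro - ⟨v, rfl⟩ a ha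
          simp only [E, LinearMap.smul_apply, map_smul, LinearMap.sum_apply, map_sum]
          congr 1
          refine Fintype.sum_equiv (Equiv.mulLeft a) _ _ fun x => ?_
          simp only [Equiv.coe_mulLeft, (A i).mul_mem_cancel_left ha]
          split
          · rw [map_mul]; rfl
          · simp
        · intro v hv
          refine ⟨v, ?_⟩
          simp only [E, LinearMap.smul_apply, LinearMap.sum_apply]
          rw [Finset.sum_congr rfl (g := fun x => if x ∈ A i then v else 0) fun x _ => by
            split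
            next h => exact hv x h
            next => rfl]
          rw [← Finset.sum_filter, Finset.sum_const, hcount, ← Nat.cast_smul_eq_nsmul (ZMod p),
            smul_smul, inv_mul_cancel₀ hN0, one_smul]
      have hfr : Module.finrank (ZMod p) (LinearMap.range (Matrix.toLin' (T E))) =
          Module.finrank (ZMod p) (fix i) := by
        rw [← hrange]
        rw [show Matrix.toLin' (T E) =
          b.equivFun.toLinearMap ∘ₗ E ∘ₗ b.equivFun.symm.toLinearMap from ?_,
          LinearMap.range_comp, LinearMap.range_comp_of_range_eq_top _ (LinearEquiv.range _)]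
        · exact LinearEquiv.finrank_eq (b.equivFun.submoduleMap _).symm
        · refine LinearMap.ext fun v => ?_
          show (LinearMap.toMatrix b b E).mulVec v = b.equivFun (E (b.equivFun.symm v))
          have h := LinearMap.toMatrix_mulVec_repr b b E (b.equivFun.symm v)
          rw [show (b.repr (b.equivFun.symm v) : Fin n → ZMod p) = v from
            b.equivFun.apply_symm_apply v] at h
          exact h
      rw [hSP, Matrix.trace_smul, trace_idem P hPP, hred, hfr, smul_eq_mul, Nat.cast_mul]
    have hzero : ∑ i, (c i : ZMod (p ^ (k + 1))) • S i = 0 := by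
      simp only [S, Finset.smul_sum]
      rw [Finset.sum_comm]
      refine Finset.sum_eq_zero fun x _ => ?_
      rw [Finset.sum_congr rfl (g := fun i =>
          (((if x ∈ A i then c i else 0 : ℤ)) : ZMod (p ^ (k + 1))) • σ x) fun i _ => by
        split <;> simp, ← Finset.sum_smul, ← Int.cast_sum, hc x, Int.cast_zero, zero_smul]
    have h1 := congrArg Matrix.trace hzero
    rw [Matrix.trace_sum, Matrix.trace_zero] at h1
    simp only [Matrix.trace_smul, htr, smul_eq_mul] at h1
    rw [← ZMod.intCast_zmod_eq_zero_iff_dvd]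
    simp only [z, Int.cast_sum, Int.cast_mul, Int.cast_natCast]
    exact h1
  exact Int.eq_zero_of_dvd_of_natAbs_lt_natAbs (key z.natAbs)
    (by rw [Int.natAbs_natCast]; exact (Nat.lt_pow_self hp.out.one_lt).trans_le (Nat.pow_le_pow_right hp.out.pos (Nat.le_succ _)))

end Cfsg.Lib.FixedDim
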