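import Cfsg.Agent.Coprime.FrobeniusFixed
import Mathlib.GroupTheory.Nilpotent
import Mathlib.LinearAlgebra.Determinant
import Mathlib.RingTheory.IntegralDomain
import Mathlib.FieldTheory.Tower
import Mathlib.RingTheory.Adjoin.Basic

/-!
# Nilpotent groups acting irreducibly in dimension prime to their order
-/

set_option linter.unusedSectionVars false
set_option linter.style.haveILetI false

namespace Cfsg.Lib.Coprime

open Subgroup Module

universe u v w

/-- A nilpotent group acting irreducibly on a space of dimension prime to its order is abelian. -/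
theorem commute_of_irreducible {F : Type w} [Field F] [Finite F] {V : Type u} [AddCommGroup V]
    [Module F V] [Finite V] [Nontrivial V] {G₀ : Type v} [Group G₀] [Finite G₀] [Group.IsNilpotent G₀]
    (ρ : G₀ →* Module.End F V) (hinj : Function.Injective ρ)
    (hirr : ∀ W : Submodule F V, (∀ g : G₀, ∀ x ∈ W, ρ g x ∈ W) → W = ⊥ ∨ W = ⊤)
    (hcop : (Nat.card G₀).Coprime (finrank F V)) (a₀ b₀ : G₀) : a₀ * b₀ = b₀ * a₀ := by
  classical
  by_contra hab
  have hnt : center G₀ ≠ ⊤ := fun h => hab (mem_center_iff.mp (h ▸ mem_top b₀) a₀)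
  haveI : Nontrivial (G₀ ⧸ center G₀) := QuotientGroup.nontrivial_iff.mpr hnt
  obtain ⟨xb, hxb, hxb1⟩ := (bot_or_exists_ne_one _).resolve_left
    (Group.IsNilpotent.center_ne_bot (G₀ ⧸ center G₀))
  obtain ⟨x, rfl⟩ := QuotientGroup.mk'_surjective (center G₀) xb
  have hxc : x ∉ center G₀ := fun h => hxb1 ((QuotientGroup.eq_one_iff _).mpr h)
  obtain ⟨a, ha⟩ : ∃ a : G₀, a * x ≠ x * a := by
    by_contra h
    push Not at h
    exact hxc (mem_center_iff.mpr h)
  have hzc : a * x * a⁻¹ * x⁻¹ ∈ center G₀ := by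
    rw [← QuotientGroup.eq_one_iff]
    show QuotientGroup.mk' (center G₀) (a * x * a⁻¹ * x⁻¹) = 1
    rw [map_mul, map_mul, map_mul, map_inv, map_inv, mem_center_iff.mp hxb, mul_inv_cancel_right,
      mul_inv_cancel]
  set z := a * x * a⁻¹ * x⁻¹ with hz
  have hz1 : z ≠ 1 := fun h => ha (by rwa [hz, mul_inv_eq_one, mul_inv_eq_iff_eq_mul] at h)
  set L : Subalgebra F (Module.End F V) := Algebra.adjoin F {ρ z}
  letI : CommRing L := { (inferInstance : Ring L) with
    mul_comm := fun u v => Subtype.ext
      (Algebra.commute_of_mem_adjoin_singleton_of_commute u.2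
        (Algebra.commute_of_mem_adjoin_singleton_of_commute v.2 (Commute.refl _)).symm).eq.symm }
  have hLcomm : ∀ (l : L) (g : G₀), Commute (l : Module.End F V) (ρ g) := by
    intro l g
    refine (Algebra.commute_of_mem_adjoin_singleton_of_commute l.2 ?_).symm
    show ρ g * ρ z = ρ z * ρ g
    rw [← map_mul, ← map_mul]
    exact congrArg ρ (mem_center_iff.mp hzc g)
  haveI : Nontrivial L := ⟨1, 0, fun h => by
    obtain ⟨y, hy⟩ := exists_ne (0 : V)
    exact hy (LinearMap.congr_fun (congrArg Subtype.val h) y)⟩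
  haveI : NoZeroDivisors L := ⟨fun {u v} huv => by
    by_contra hc
    push Not at hc
    have hker : ∀ l : L, l ≠ 0 → LinearMap.ker (l : Module.End F V) = ⊥ := fun l hl =>
      (hirr (LinearMap.ker (l : Module.End F V)) fun g y hy => by
        rw [LinearMap.mem_ker] at hy ⊢
        rw [← Module.End.mul_apply, (hLcomm l g).eq, Module.End.mul_apply, hy, map_zero]).resolve_right
        fun h => hl (Subtype.ext (LinearMap.ker_eq_top.mp h))
    obtain ⟨y, hy⟩ := exists_ne (0 : V)
    have h1 : (u : Module.End F V) ((v : Module.End F V) y) = 0 :=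
      LinearMap.congr_fun (congrArg Subtype.val huv) y
    exact hy (LinearMap.ker_eq_bot'.mp (hker v hc.2) y (LinearMap.ker_eq_bot'.mp (hker u hc.1) _ h1))⟩
  haveI : IsDomain L := NoZeroDivisors.to_isDomain L
  haveI : Finite (Module.End F V) :=
    Finite.of_injective (fun f => (f : V → V)) DFunLike.coe_injective
  letI := Fintype.ofFinite L
  letI : Field L := Fintype.fieldOfDomain L
  haveI : IsScalarTower F L V := ⟨fun c l y => rfl⟩
  haveI : FiniteDimensional L V := Module.Finite.of_finite
  haveI : FiniteDimensional F L := Module.Finite.of_finite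
  have hdvd : finrank L V ∣ finrank F V := Dvd.intro_left _ (Module.finrank_mul_finrank F L V)
  let rL : G₀ → (V →ₗ[L] V) := fun g =>
    { toFun := ρ g
      map_add' := map_add _
      map_smul' := fun l y => LinearMap.congr_fun (hLcomm l g).eq.symm y }
  have hrmul : ∀ g h : G₀, rL (g * h) = rL g * rL h := fun g h => LinearMap.ext fun y => by
    show ρ (g * h) y = ρ g (ρ h y)
    rw [map_mul]; rfl
  have hr1 : rL 1 = 1 := LinearMap.ext fun y => by
    show ρ 1 y = y
    rw [map_one]; rfl
  let D : G₀ →* L :=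
    { toFun := fun g => LinearMap.det (rL g)
      map_one' := by rw [hr1, map_one]
      map_mul' := fun g h => by rw [hrmul, map_mul] }
  let zL : L := ⟨ρ z, Algebra.self_mem_adjoin_singleton _ _⟩
  have hzL : rL z = zL • (1 : V →ₗ[L] V) := LinearMap.ext fun y => rfl
  have hu : ∀ g : G₀, D g * D g⁻¹ = 1 := fun g => by rw [← map_mul, mul_inv_cancel, map_one]
  have hD : D z = 1 := by
    rw [hz, map_mul, map_mul, map_mul, mul_comm (D a) (D x), mul_assoc (D x), hu, mul_one, hu]
  have hzd : zL ^ finrank L V = 1 := by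
    have h : LinearMap.det (rL z) = 1 := hD
    rwa [hzL, LinearMap.det_smul, map_one, mul_one] at h
  have hzpow : z ^ finrank L V = 1 := hinj (by
    rw [map_pow, map_one]
    have h2 := congrArg L.val hzd
    rwa [map_pow, map_one] at h2)
  exact hz1 (orderOf_eq_one_iff.mp (Nat.eq_one_of_dvd_coprimes hcop (orderOf_dvd_natCard z)
    ((orderOf_dvd_of_pow_eq_one hzpow).trans hdvd)))

end Cfsg.Lib.Coprime
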