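import Cfsg.Agent.Coprime.FrobeniusDim
import Cfsg.Agent.Frobenius.FpfGroups
import Cfsg.Agent.PGroups.Basic

/-!
Frobenius groups `U ⋊ E` acting coprimely, with cyclic fixed points of `E`: the derived
group of `U` acts trivially.
-/

set_option linter.unusedSectionVars false
set_option linter.style.haveILetI false

namespace Cfsg.Lib.Coprime

open Subgroup Module
open scoped commutatorElement

universe u v

theorem commute_of_cyclic_fixed {F : Type u} [Group F] [Finite F] {M : Type v} [CommGroup M]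
    [Finite M] {q : ℕ} [hq : Fact q.Prime] (hM : ∀ x : M, x ^ q = 1) (φ : F →* MulAut M)
    (hcop : (Nat.card F).Coprime q) (U E : Subgroup F) [U.Normal] [Group.IsNilpotent U]
    (hinf : U ⊓ E = ⊥) (hsup : U ⊔ E = ⊤)
    (hfpf : ∀ e ∈ E, e ≠ 1 → ∀ u ∈ U, e * u = u * e → u = 1) (hE : (Nat.card E).Prime)
    (hCU : ∀ v : M, (∀ a ∈ U, φ a v = v) → v = 1)
    (hCE : Nat.card {v : M // ∀ a ∈ E, φ a v = v} ≤ q)
    (x : F) (hx : x ∈ U) (y : F) (hy : y ∈ U) : φ x * φ y = φ y * φ x := by
  classical
  rcases subsingleton_or_nontrivial M with hs | hnt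
  · exact MulEquiv.ext fun m => Subsingleton.elim _ _
  letI : Module (ZMod q) (Additive M) := AddCommGroup.zmodModule (n := q) (G := Additive M) fun x => hM x.toMul
  let ψ : F →* AddMonoid.End (Additive M) :=
    { toFun := fun a => MonoidHom.toAdditive (φ a).toMonoidHom
      map_one' := AddMonoidHom.ext fun v => show Additive.ofMul (φ 1 v.toMul) = v by rw [map_one]; rfl
      map_mul' := fun a b => AddMonoidHom.ext fun v =>
        show Additive.ofMul (φ (a * b) v.toMul) = Additive.ofMul (φ a (φ b v.toMul)) by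
          rw [map_mul]; rfl }
  let ρ : F →* Module.End (ZMod q) (Additive M) := Cfsg.Lib.FixedDim.zmodEnd ψ
  -- invariant subgroups are either trivial or everything
  have hfix1 : ∀ v : M, (∀ a : F, φ a v = v) → v = 1 := fun v h => hCU v fun a _ => h a
  have hform := Cfsg.Lib.FixedDim.frobenius_fixed_elementary hM φ hcop U E hinf hsup hfpf
  have c0 : Nat.card {v : M // ∀ a : F, φ a v = v} = 1 := Nat.card_eq_one_iff_unique.mpr
    ⟨⟨fun a b => Subtype.ext ((hfix1 _ a.2).trans (hfix1 _ b.2).symm)⟩, ⟨⟨1, fun a => map_one _⟩⟩⟩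
  have c2 : Nat.card {v : M // ∀ a ∈ U, φ a v = v} = 1 := Nat.card_eq_one_iff_unique.mpr
    ⟨⟨fun a b => Subtype.ext ((hCU _ a.2).trans (hCU _ b.2).symm)⟩, ⟨⟨1, fun a _ => map_one _⟩⟩⟩
  rw [c0, c2, one_pow, one_mul, mul_one] at hform
  have hirrF : ∀ W : Submodule (ZMod q) (Additive M),
      (∀ g : F, ∀ w ∈ W, ρ g w ∈ W) → W = ⊥ ∨ W = ⊤ := by
    intro W hW
    by_contra hne
    push Not at hne
    let S : Subgroup M := AddSubgroup.toSubgroup' W.toAddSubgroup
    have hS : ∀ {m : M}, m ∈ S ↔ Additive.ofMul m ∈ W := Iff.rfl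
    have hSinv : ∀ (a : F) (m : M), m ∈ S → φ a m ∈ S := fun a m hm => hW a _ hm
    let φS : F →* MulAut S :=
      { toFun := fun a =>
          { toFun := fun m => ⟨φ a m, hSinv a m m.2⟩
            invFun := fun m => ⟨φ a⁻¹ m, hSinv a⁻¹ m m.2⟩
            left_inv := fun m => Subtype.ext (by
              show φ a⁻¹ (φ a m) = m
              rw [← MulAut.mul_apply, ← map_mul, inv_mul_cancel, map_one]; rfl)
            right_inv := fun m => Subtype.ext (by
              show φ a (φ a⁻¹ m) = m
              rw [← MulAut.mul_apply, ← map_mul, mul_inv_cancel, map_one]; rfl)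
            map_mul' := fun m n => Subtype.ext (map_mul (φ a) _ _) }
        map_one' := MulEquiv.ext fun m => Subtype.ext (by
          show φ 1 (m : M) = m
          rw [map_one]; rfl)
        map_mul' := fun a b => MulEquiv.ext fun m => Subtype.ext (by
          show φ (a * b) (m : M) = φ a (φ b m)
          rw [map_mul]; rfl) }
    have hSform := Cfsg.Lib.FixedDim.frobenius_fixed_elementary (M := S)
      (fun m => Subtype.ext (hM m)) φS hcop U E hinf hsup hfpf
    have d0 : Nat.card {v : S // ∀ a : F, φS a v = v} = 1 := Nat.card_eq_one_iff_unique.mpr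
      ⟨⟨fun a b => Subtype.ext (Subtype.ext ((hfix1 _ fun g => congrArg Subtype.val (a.2 g)).trans
        (hfix1 _ fun g => congrArg Subtype.val (b.2 g)).symm))⟩, ⟨⟨1, fun a => map_one _⟩⟩⟩
    have d2 : Nat.card {v : S // ∀ a ∈ U, φS a v = v} = 1 := Nat.card_eq_one_iff_unique.mpr
      ⟨⟨fun a b => Subtype.ext (Subtype.ext ((hCU _ fun g hg => congrArg Subtype.val (a.2 g hg)).trans
        (hCU _ fun g hg => congrArg Subtype.val (b.2 g hg)).symm))⟩, ⟨⟨1, fun a _ => map_one _⟩⟩⟩
    rw [d0, d2, one_pow, one_mul, mul_one] at hSform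
    have hSb : S ≠ ⊥ := fun h => hne.1 ((Submodule.eq_bot_iff W).mpr fun w hw => by
      have : w.toMul ∈ S := hw
      rw [h, Subgroup.mem_bot] at this
      exact this)
    have hSt : S ≠ ⊤ := fun h => hne.2 (Submodule.eq_top_iff'.mpr fun w => by
      show w.toMul ∈ S
      rw [h]; trivial)
    -- the fixed points of `E` in `S`
    let CS := {v : S // ∀ a ∈ E, φS a v = v}
    let CM := {v : M // ∀ a ∈ E, φ a v = v}
    let i : CS → CM := fun v => ⟨((v.1 : S) : M), fun a ha => congrArg Subtype.val (v.2 a ha)⟩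
    have hi : Function.Injective i := fun v w h =>
      Subtype.ext (Subtype.ext (congrArg (fun z : CM => (z : M)) h))
    have hCS : Nat.card CS ≠ 1 := fun h1 => hSb (Subgroup.card_eq_one.mp (by
      rw [hSform, show Nat.card {v : S // ∀ a ∈ E, φS a v = v} = 1 from h1, one_pow]))
    -- `CS` is a `q`-group of order at least `q`
    let T : Subgroup S :=
      { carrier := {v | ∀ a ∈ E, φS a v = v}
        one_mem' := fun a _ => map_one _
        mul_mem' := fun hv hw a ha => by rw [map_mul, hv a ha, hw a ha]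
        inv_mem' := fun hv a ha => by rw [map_inv, hv a ha] }
    have hT : Nat.card T = Nat.card CS := Nat.card_congr (Equiv.refl _)
    have hTp : IsPGroup q T := fun t => ⟨1, by
      rw [pow_one]; exact Subtype.ext (Subtype.ext (hM _))⟩
    have hqT : q ≤ Nat.card CS := by
      rw [← hT]
      rcases hTp.card_eq_or_dvd with h | h
      · exact absurd (hT ▸ h) hCS
      · exact Nat.le_of_dvd Nat.card_pos h
    have heq : Nat.card CS = Nat.card CM :=
      le_antisymm (Nat.card_le_card_of_injective i hi) (le_trans hCE hqT)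
    exact hSt (Subgroup.eq_top_of_card_eq S (by rw [hSform, hform]; exact congrArg (· ^ _) heq))
  -- the dimension
  let CT : Subgroup M :=
    { carrier := {v | ∀ a ∈ E, φ a v = v}
      one_mem' := fun a _ => map_one _
      mul_mem' := fun hv hw a ha => by rw [map_mul, hv a ha, hw a ha]
      inv_mem' := fun hv a ha => by rw [map_inv, hv a ha] }
  have hCT : Nat.card CT = Nat.card {v : M // ∀ a ∈ E, φ a v = v} := Nat.card_congr (Equiv.refl _)
  have hCTq : Nat.card CT = q := by
    have hne : Nat.card CT ≠ 1 := fun h1 => (Finite.one_lt_card (α := M)).ne'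
      (by rw [hform, ← hCT, h1, one_pow])
    have hTp : IsPGroup q CT := fun t => ⟨1, by rw [pow_one]; exact Subtype.ext (hM _)⟩
    refine le_antisymm (hCT ▸ hCE) ?_
    rcases hTp.card_eq_or_dvd with h | h
    · exact absurd h hne
    · exact Nat.le_of_dvd Nat.card_pos h
  haveI : FiniteDimensional (ZMod q) (Additive M) := Module.Finite.of_finite
  have hdim : finrank (ZMod q) (Additive M) = Nat.card E := by
    have h1 : Nat.card (Additive M) = q ^ finrank (ZMod q) (Additive M) := by
      rw [Module.natCard_eq_pow_finrank (K := ZMod q), Nat.card_zmod]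
    have h2 : Nat.card (Additive M) = Nat.card M := rfl
    rw [h2, hform, ← hCT, hCTq] at h1
    exact (Nat.pow_right_injective hq.out.two_le h1).symm
  -- minimal `U`-submodules
  let P : Set (Submodule (ZMod q) (Additive M)) :=
    {W | W ≠ ⊥ ∧ ∀ g ∈ U, ∀ w ∈ W, ρ g w ∈ W}
  haveI : Nontrivial (Additive M) := hnt
  haveI : Finite (Submodule (ZMod q) (Additive M)) :=
    Finite.of_injective (fun W => (W : Set (Additive M))) SetLike.coe_injective
  obtain ⟨W, hWP, hWmin⟩ := (Set.toFinite P).exists_minimal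
    ⟨⊤, top_ne_bot, fun g _ w _ => trivial⟩
  set d := finrank (ZMod q) W
  have hinjρ : ∀ g : F, Function.Injective (ρ g) := fun g v w h => by
    have h2 := congrArg (ρ g⁻¹) h
    rwa [← Module.End.mul_apply, ← Module.End.mul_apply, ← map_mul, inv_mul_cancel, map_one] at h2
  let T : F → Submodule (ZMod q) (Additive M) := fun e => W.map (ρ e)
  have hTd : ∀ e, finrank (ZMod q) (T e) = d := fun e =>
    ((W.equivMapOfInjective (ρ e) (hinjρ e)).finrank_eq).symm
  have hTinv : ∀ e, ∀ g ∈ U, ∀ w ∈ T e, ρ g w ∈ T e := by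
    rintro e g hg - ⟨w, hw, rfl⟩
    refine ⟨ρ (e⁻¹ * g * e) w, hWP.2 _ ?_ w hw, ?_⟩
    · simpa using (inferInstance : U.Normal).conj_mem g hg e⁻¹
    · rw [← Module.End.mul_apply, ← Module.End.mul_apply, ← map_mul, ← map_mul]
      congr 2; group
  have hTmin : ∀ e (Z : Submodule (ZMod q) (Additive M)), Z ≤ T e →
      (∀ g ∈ U, ∀ w ∈ Z, ρ g w ∈ Z) → Z = ⊥ ∨ Z = T e := by
    intro e Z hZ hZinv
    by_contra hc
    push Not at hc
    let Z' := Z.map (ρ e⁻¹)
    have hZ'W : Z' ≤ W := by
      rintro - ⟨z, hz, rfl⟩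
      obtain ⟨w, hw, rfl⟩ := hZ hz
      rwa [← Module.End.mul_apply, ← map_mul, inv_mul_cancel, map_one]
    have hZ'P : Z' ∈ P := by
      refine ⟨fun h => hc.1 (Submodule.map_injective_of_injective (hinjρ e⁻¹)
        (by rw [Submodule.map_bot]; exact h)), ?_⟩
      rintro g hg - ⟨z, hz, rfl⟩
      refine ⟨ρ (e * g * e⁻¹) z, hZinv _ ((inferInstance : U.Normal).conj_mem g hg e) z hz, ?_⟩
      rw [← Module.End.mul_apply, ← Module.End.mul_apply, ← map_mul, ← map_mul]
      congr 2; group
    refine hc.2 (le_antisymm hZ ?_)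
    rintro - ⟨w, hw, rfl⟩
    obtain ⟨z, hz, rfl⟩ := hWmin hZ'P hZ'W hw
    rwa [← Module.End.mul_apply, ← map_mul, mul_inv_cancel, map_one]
  have hsum : ⨆ e ∈ E, T e = ⊤ := by
    refine (hirrF _ ?_).resolve_left fun h => hWP.1 (eq_bot_iff.mpr ?_)
    · intro g w hw
      obtain ⟨a, ha, b, hb, rfl⟩ := (Cfsg.Lib.Coprime.mem_sup_of_le_normalizer (x := g)
        (by rw [normalizer_eq_top]; exact le_top : E ≤ normalizer (U : Set F))).mp
          (hsup ▸ Subgroup.mem_top _)
      have hb' : ρ b w ∈ ⨆ e ∈ E, T e := by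
        have : Submodule.map (ρ b) (⨆ e ∈ E, T e) ≤ ⨆ e ∈ E, T e := by
          rw [Submodule.map_iSup]
          refine iSup_le fun e => ?_
          rw [Submodule.map_iSup]
          refine iSup_le fun he => ?_
          refine le_trans ?_ (le_iSup₂ (f := fun e (_ : e ∈ E) => T e) (b * e) (E.mul_mem hb he))
          rw [← Submodule.map_comp, ← Module.End.mul_eq_comp, ← map_mul]
        exact this ⟨w, hw, rfl⟩
      rw [map_mul]
      have : Submodule.map (ρ a) (⨆ e ∈ E, T e) ≤ ⨆ e ∈ E, T e := by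
        rw [Submodule.map_iSup]
        refine iSup_le fun e => ?_
        rw [Submodule.map_iSup]
        refine iSup_le fun he => ?_
        refine le_trans ?_ (le_iSup₂ (f := fun e (_ : e ∈ E) => T e) e he)
        rintro - ⟨z, hz, rfl⟩
        exact hTinv e a ha z hz
      exact this ⟨_, hb', rfl⟩
    · rw [← h]
      refine le_trans ?_ (le_iSup₂ (f := fun e (_ : e ∈ E) => T e) 1 E.one_mem)
      show W ≤ W.map (ρ 1)
      rw [map_one, Module.End.one_eq_id, Submodule.map_id]
  -- the dimension of a minimal `U`-submodule divides the dimension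
  have hsup : ∀ s : Finset F,
      (∀ g ∈ U, ∀ w ∈ s.sup T, ρ g w ∈ s.sup T) ∧ d ∣ finrank (ZMod q) ↥(s.sup T) := by
    intro s
    induction s using Finset.induction with
    | empty =>
      simp only [Finset.sup_empty]
      refine ⟨fun g _ w hw => ?_, by show d ∣ finrank (ZMod q) ↥(⊥ : Submodule (ZMod q) (Additive M)); rw [finrank_bot]; exact dvd_zero d⟩
      rw [(Submodule.mem_bot _).mp hw, map_zero]; exact Submodule.zero_mem _
    | @insert e s hes ih =>
      rw [Finset.sup_insert]
      refine ⟨fun g hg w hw => ?_, ?_⟩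
      · obtain ⟨a, ha, b, hb, rfl⟩ := Submodule.mem_sup.mp hw
        rw [map_add]
        exact Submodule.add_mem_sup (hTinv e g hg a ha) (ih.1 g hg b hb)
      · have h1 := Submodule.finrank_sup_add_finrank_inf_eq (T e) (s.sup T)
        rw [hTd] at h1
        rcases hTmin e (T e ⊓ s.sup T) inf_le_left
          (fun g hg w hw => ⟨hTinv e g hg w hw.1, ih.1 g hg w hw.2⟩) with h | h
        · rw [h, finrank_bot, add_zero] at h1
          rw [h1]; exact dvd_add dvd_rfl ih.2
        · rw [h, hTd] at h1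
          rw [show finrank (ZMod q) ↥(T e ⊔ s.sup T) = finrank (ZMod q) ↥(s.sup T) by omega]
          exact ih.2
  haveI := Fintype.ofFinite F
  have hd : d ∣ Nat.card E := by
    rw [← hdim, ← finrank_top (R := ZMod q) (M := Additive M), ← hsum]
    have he : (⨆ e ∈ E, T e) = (Finset.univ.filter (· ∈ E)).sup T := by
      rw [Finset.sup_eq_iSup]; simp
    rw [he]
    exact (hsup _).2
  -- the two cases
  suffices hcomm : ρ x * ρ y = ρ y * ρ x from
    MulEquiv.ext fun m => Additive.ofMul.injective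
      (LinearMap.congr_fun hcomm (Additive.ofMul m))
  rcases hE.eq_one_or_self_of_dvd d hd with h1 | hp
  · -- scalars
    have hle : (⨆ e ∈ E, T e) ≤ LinearMap.eqLocus (ρ x * ρ y) (ρ y * ρ x) := by
      refine iSup₂_le fun e _ w hw => ?_
      show ρ x (ρ y w) = ρ y (ρ x w)
      by_cases hw0 : w = 0
      · simp [hw0]
      have hgen := (finrank_eq_one_iff_of_nonzero' (⟨w, hw⟩ : T e) (by simpa using hw0)).mp
        ((hTd e).trans h1)
      obtain ⟨cx, hcx⟩ := hgen ⟨ρ x w, hTinv e x hx w hw⟩
      obtain ⟨cy, hcy⟩ := hgen ⟨ρ y w, hTinv e y hy w hw⟩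
      have hcx' : cx • w = ρ x w := congrArg Subtype.val hcx
      have hcy' : cy • w = ρ y w := congrArg Subtype.val hcy
      rw [← hcy', map_smul, ← hcx', map_smul, ← hcy', smul_comm]
    rw [hsum] at hle
    exact LinearMap.ext fun w => hle trivial
  · -- irreducible
    have hWtop : W = ⊤ := Submodule.eq_top_of_finrank_eq (hp.trans hdim.symm)
    let f : U →* (Module.End (ZMod q) (Additive M))ˣ := (ρ.comp U.subtype).toHomUnits
    let ρ₀ : f.range →* Module.End (ZMod q) (Additive M) :=
      (Units.coeHom _).comp f.range.subtype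
    haveI : Group.IsNilpotent f.range :=
      Group.nilpotent_of_surjective f.rangeRestrict f.rangeRestrict_surjective
    have hc0 : (Nat.card f.range).Coprime (finrank (ZMod q) (Additive M)) := by
      rw [hdim]
      refine Nat.Coprime.coprime_dvd_left ?_
        (Cfsg.Lib.Frobenius.Fpf.coprime (A := E) (V := U)
          (by rw [normalizer_eq_top]; exact le_top) (fun e he he1 => ?_)).symm
      · exact Subgroup.card_dvd_of_surjective f.rangeRestrict f.rangeRestrict_surjective
      · rw [eq_bot_iff]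
        rintro u ⟨hu, huc⟩
        exact hfpf e he he1 u hu (mem_centralizer_singleton_iff.mp huc).symm
    have h := commute_of_irreducible ρ₀ (Units.val_injective.comp Subtype.val_injective) (fun Z hZ => ?_)
      hc0 ⟨f ⟨x, hx⟩, ⟨x, hx⟩, rfl⟩ ⟨f ⟨y, hy⟩, ⟨y, hy⟩, rfl⟩
    · exact congrArg ρ₀ h
    · by_contra hc
      push Not at hc
      have hZP : Z ∈ P := ⟨hc.1, fun g hg w hw => hZ ⟨f ⟨g, hg⟩, ⟨g, hg⟩, rfl⟩ w hw⟩
      exact hc.2 (eq_top_iff.mpr (hWtop ▸ hWmin hZP (by rw [hWtop]; exact le_top)))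

end Cfsg.Lib.Coprime
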