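import Cfsg.Agent.Coprime.Hall

/-!
Hall theory that rests on the solvability of groups of odd order.
-/

set_option autoImplicit false
set_option linter.style.haveILetI false
set_option linter.unusedSectionVars false

namespace Cfsg.Lib.HallFT

open Subgroup Cfsg.Lib.Coprime

universe u

/-- the solvability of groups of odd order, at one universe -/
def OddSolvable : Prop := ∀ (H : Type u) [Group H] [Finite H], Odd (Nat.card H) → Group.IsSolvable H

variable {G : Type u} [Group G] [Finite G]

theorem solvable_or_of_coprime (hFT : OddSolvable.{u}) {N H : Subgroup G}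
    (hc : (Nat.card N).Coprime (Nat.card H)) : Group.IsSolvable N ∨ Group.IsSolvable H := by
  rcases Nat.even_or_odd (Nat.card N) with hN | hN
  · refine Or.inr (hFT H (Nat.not_even_iff_odd.1 fun hH => ?_))
    have h := Nat.dvd_gcd hN.two_dvd hH.two_dvd
    rw [hc] at h
    exact absurd h (by norm_num)
  · exact Or.inl (hFT N hN)

theorem conj_complement (hFT : OddSolvable.{u}) {N H K : Subgroup G}
    (hH : H ≤ normalizer (N : Set G)) (hcop : (Nat.card N).Coprime (Nat.card H)) (hK : K ≤ N ⊔ H)
    (hcard : Nat.card K = Nat.card H) : ∃ x ∈ N, K = conjMap x H :=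
  exists_conj_eq_of_coprime hH hcop (solvable_or_of_coprime hFT hcop) hK hcard

/-- a Hall subgroup containing a conjugate of every `π`-subgroup -/
def HasDom (π : Set ℕ) (G : Type u) [Group G] : Prop :=
  ∃ H : Subgroup G, IsPiHall π H ∧
    ∀ U : Subgroup G, (∀ p : ℕ, p.Prime → p ∣ Nat.card U → p ∈ π) → ∃ g : G, U ≤ conjMap g H

theorem hasDom_of_normal (hFT : OddSolvable.{u}) {π : Set ℕ} (M : Subgroup G) [M.Normal]
    (hM : (∀ q : ℕ, q.Prime → q ∣ Nat.card M → q ∈ π) ∨ (∀ q : ℕ, q.Prime → q ∣ Nat.card M → q ∉ π))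
    (hQ : HasDom π (G ⧸ M)) : HasDom π G := by
  obtain ⟨Q, hQ, hdom⟩ := hQ
  set f := QuotientGroup.mk' M with hf
  have hs : Function.Surjective f := QuotientGroup.mk'_surjective M
  set X := Q.comap f with hX
  have hXc : Nat.card X = Nat.card M * Nat.card Q := card_comap_mk' Q
  have hXi : X.index = Q.index := index_comap_of_surjective _ hs
  have hMX : M ≤ X := fun x hx => by
    rw [hX, mem_comap, hf, QuotientGroup.mk'_apply, (QuotientGroup.eq_one_iff x).mpr hx]
    exact one_mem _
  have hUX : ∀ U : Subgroup G, (∀ p : ℕ, p.Prime → p ∣ Nat.card U → p ∈ π) →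
      ∃ g : G, conjMap g⁻¹ U ≤ X := by
    intro U hU
    obtain ⟨g', hg'⟩ := hdom (U.map f) (piSubgroup_map hU f)
    obtain ⟨g, rfl⟩ := hs g'
    refine ⟨g, ?_⟩
    rw [hX, ← map_le_iff_le_comap, map_conjMap, map_inv]
    have := conjMap_mono (g := (f g)⁻¹) hg'
    rwa [conjMap_inv_conjMap] at this
  rcases hM with hM | hM
  · refine ⟨X, ⟨fun q hq h => ?_, fun q hq hqi => hXi ▸ hQ.2 q hq hqi⟩, fun U hU => ?_⟩
    · rw [hXc] at h
      exact (hq.dvd_mul.mp h).elim (hM q hq) (hQ.1 q hq)
    · obtain ⟨g, hg⟩ := hUX U hU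
      refine ⟨g, ?_⟩
      have := conjMap_mono (g := g) hg
      rwa [conjMap_conjMap_inv] at this
  · have hcopQ : (Nat.card M).Coprime (Nat.card Q) :=
      coprime_of_forall_prime fun q hq h h' => hM q hq h (hQ.1 q hq h')
    have hrel : M.relIndex X = Nat.card Q := by
      apply Nat.eq_of_mul_eq_mul_left (Nat.card_pos (α := M))
      rw [← hXc, ← relIndex_bot_left, relIndex_mul_relIndex _ _ _ bot_le hMX, relIndex_bot_left]
    obtain ⟨H, hHX, -, hHc⟩ := exists_complement_in hMX le_normalizer_of_normal (hrel.symm ▸ hcopQ)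
    rw [hrel] at hHc
    have hcop : (Nat.card M).Coprime (Nat.card H) := hHc.symm ▸ hcopQ
    have hsup : M ⊔ H = X := eq_of_le_of_card_eq (sup_le hMX hHX)
      (by rw [card_sup_coprime le_normalizer_of_normal hcop, hHc, hXc])
    refine ⟨H, ⟨fun q hq h => hQ.1 q hq (hHc ▸ h), fun q hq hqi h => ?_⟩, fun U hU => ?_⟩
    · have hi : H.index = Nat.card M * Q.index := by
        apply Nat.eq_of_mul_eq_mul_left (Nat.card_pos (α := H))
        rw [H.card_mul_index, hHc, ← mul_assoc, mul_comm (Nat.card Q), ← hXc, ← hXi, X.card_mul_index]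
      rw [hi] at h
      exact (hq.dvd_mul.mp h).elim (fun h => hM q hq h hqi) (hQ.2 q hq hqi)
    · obtain ⟨g, hg⟩ := hUX U hU
      have hcU : (Nat.card M).Coprime (Nat.card (conjMap g⁻¹ U)) := by
        rw [card_conjMap]
        exact coprime_of_forall_prime fun q hq h h' => hM q hq h (hU q hq h')
      obtain ⟨x, -, hx⟩ := exists_conj_le_of_coprime le_normalizer_of_normal hcop
        (solvable_or_of_coprime hFT hcU) (hsup ▸ hg) hcU
      refine ⟨g * x, ?_⟩
      have := conjMap_mono (g := g) hx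
      rwa [conjMap_conjMap_inv, conjMap_mul] at this

theorem relIndex_map_dvd {G' : Type*} [Group G'] (f : G →* G') (A B : Subgroup G) :
    (A.map f).relIndex (B.map f) ∣ A.relIndex B := by
  refine dvd_trans ?_ ((A.subgroupOf B).index_map_dvd (f.subgroupMap_surjective B))
  refine index_dvd_of_le ?_
  rintro _ ⟨b, hb, rfl⟩
  exact ⟨(b : G), hb, rfl⟩

theorem hasDom_of_series (hFT : OddSolvable.{u}) {π : Set ℕ} (n : ℕ) :
    ∀ (G : Type u) [Group G] [Finite G] (S : Fin (n + 1) → Subgroup G), S 0 = ⊥ → S (Fin.last n) = ⊤ →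
      (∀ i, (S i).Normal) →
      (∀ i : Fin n, (∀ q : ℕ, q.Prime → q ∣ (S i.castSucc).relIndex (S i.succ) → q ∈ π) ∨
        (∀ q : ℕ, q.Prime → q ∣ (S i.castSucc).relIndex (S i.succ) → q ∉ π)) → HasDom π G := by
  induction n with
  | zero =>
    intro G _ _ S h0 hl _ _
    have hbot : (⊤ : Subgroup G) = ⊥ := by rw [← hl, ← h0]; rfl
    have hc : Nat.card G = 1 := by rw [← Subgroup.card_top, hbot, Subgroup.card_bot]
    refine ⟨⊥, ⟨fun q hq h => ?_, fun q hq _ h => ?_⟩, fun U _ => ⟨1, fun x _ => ?_⟩⟩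
    · rw [Subgroup.card_bot] at h; exact absurd h hq.not_dvd_one
    · rw [index_bot, hc] at h; exact hq.not_dvd_one h
    · have : x ∈ (⊥ : Subgroup G) := hbot ▸ mem_top x
      rw [mem_bot] at this
      rw [this]; exact one_mem _
  | succ n ih =>
    intro G _ _ S h0 hl hn hst
    haveI := hn (Fin.succ 0)
    refine hasDom_of_normal hFT (S (Fin.succ 0)) ?_ ?_
    · have := hst 0
      rwa [Fin.castSucc_zero, h0, relIndex_bot_left] at this
    · set f := QuotientGroup.mk' (S (Fin.succ 0)) with hf
      have hs : Function.Surjective f := QuotientGroup.mk'_surjective _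
      refine ih (G ⧸ S (Fin.succ 0)) (fun i => (S i.succ).map f) ?_ ?_ (fun i => (hn i.succ).map f hs)
        (fun i => ?_)
      · exact QuotientGroup.map_mk'_self _
      · show (S (Fin.last n).succ).map f = ⊤
        rw [Fin.succ_last, hl, map_top_of_surjective f hs]
      · have := hst i.succ
        rw [← Fin.succ_castSucc] at this
        exact this.imp (fun h q hq hd => h q hq (hd.trans (relIndex_map_dvd f _ _)))
          (fun h q hq hd => h q hq (hd.trans (relIndex_map_dvd f _ _)))

theorem hall_of_series (hFT : OddSolvable.{u}) {π : Set ℕ} {n : ℕ} (S : Fin (n + 1) → Subgroup G)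
    (h0 : S 0 = ⊥) (hl : S (Fin.last n) = ⊤) (hn : ∀ i, (S i).Normal)
    (hst : ∀ i : Fin n, (∀ q : ℕ, q.Prime → q ∣ (S i.castSucc).relIndex (S i.succ) → q ∈ π) ∨
        (∀ q : ℕ, q.Prime → q ∣ (S i.castSucc).relIndex (S i.succ) → q ∉ π)) :
    (∃ K : Subgroup G, IsPiHall π K) ∧
      (∀ K L : Subgroup G, IsPiHall π K → IsPiHall π L → ∃ g : G, L = K.map (MulAut.conj g).toMonoidHom) ∧
      ∀ U : Subgroup G, (∀ q : ℕ, q.Prime → q ∣ Nat.card U → q ∈ π) → ∃ K : Subgroup G, IsPiHall π K ∧ U ≤ K := by
  obtain ⟨H, hH, hdom⟩ := hasDom_of_series hFT n G S h0 hl hn hst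
  refine ⟨⟨H, hH⟩, fun K L hK hL => ?_, fun U hU => ?_⟩
  · obtain ⟨a, ha⟩ := hdom K hK.1
    obtain ⟨b, hb⟩ := hdom L hL.1
    have hKe := eq_of_le_of_card_eq ha (by rw [card_conjMap, piHall_card_eq hH hK])
    have hLe := eq_of_le_of_card_eq hb (by rw [card_conjMap, piHall_card_eq hH hL])
    refine ⟨b * a⁻¹, ?_⟩
    show L = conjMap (b * a⁻¹) K
    rw [hKe, hLe, conjMap_mul, inv_mul_cancel_right]
  · obtain ⟨g, hg⟩ := hdom U hU
    exact ⟨_, isPiHall_conjMap hH g, hg⟩

theorem inf_normal_hall (A : Subgroup G) [A.Normal] {π : Set ℕ} {S : Subgroup G} (hS : IsPiHall π S) :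
    IsPiHall π ((A ⊓ S).subgroupOf A) := by
  refine ⟨fun q hq h => ?_, fun q hq hqi h => hS.2 q hq hqi (h.trans ?_)⟩
  · rw [Nat.card_congr (subgroupOfEquivOfLe (inf_le_left : A ⊓ S ≤ A)).toEquiv] at h
    exact hS.1 q hq (h.trans (card_dvd_of_le inf_le_right))
  · have h1 := card_sup_mul_card_inf (N := A) (H := S) le_normalizer_of_normal
    have h2 : Nat.card ↥(A ⊓ S) * (A ⊓ S).relIndex A = Nat.card A := by
      rw [← relIndex_bot_left, relIndex_mul_relIndex _ _ _ bot_le inf_le_left, relIndex_bot_left]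
    have h3 : Nat.card ↥(A ⊔ S) = Nat.card S * (A ⊓ S).relIndex A := by
      apply Nat.eq_of_mul_eq_mul_left (Nat.card_pos (α := ↥(A ⊓ S)))
      rw [mul_comm, h1, ← h2]
      ring
    have h4 : Nat.card S * (A ⊓ S).relIndex A ∣ Nat.card S * S.index := by
      rw [← h3, S.card_mul_index]
      exact card_subgroup_dvd_card _
    exact Nat.dvd_of_mul_dvd_mul_left Nat.card_pos h4

theorem cPi_exists {π : Set ℕ} (A : Subgroup G) [A.Normal] (hA : IsCPiGroup π A)
    (hQ : IsCPiGroup π (G ⧸ A)) : IsEPiGroup π G := by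
  obtain ⟨⟨H0, hH0⟩, hconj⟩ := hA
  obtain ⟨⟨Q, hQ⟩, -⟩ := hQ
  set H : Subgroup G := H0.map A.subtype with hHdef
  have hHA : H ≤ A := map_subtype_le _
  have hHc : Nat.card H = Nat.card H0 := card_map_of_injective A.subtype_injective
  set f := QuotientGroup.mk' A with hf
  set N : Subgroup G := normalizer (H : Set G) ⊓ Q.comap f with hN
  set φ : N →* G ⧸ A := f.comp N.subtype with hφ
  have hrange : φ.range = Q := by
    refine le_antisymm ?_ fun y hy => ?_
    · rintro _ ⟨x, rfl⟩
      exact x.2.2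
    obtain ⟨x, rfl⟩ := QuotientGroup.mk'_surjective A y
    have hxA : conjMap x H ≤ A := by
      intro z hz
      rw [mem_conjMap] at hz
      have := (inferInstance : A.Normal).conj_mem _ (hHA hz) x
      simpa [mul_assoc] using this
    have hxH : IsPiHall π ((conjMap x H).subgroupOf A) := by
      have hc : Nat.card ((conjMap x H).subgroupOf A) = Nat.card H0 := by
        rw [Nat.card_congr (subgroupOfEquivOfLe hxA).toEquiv, card_conjMap, hHc]
      refine ⟨fun q hq h => hH0.1 q hq (hc ▸ h), fun q hq hqi h => hH0.2 q hq hqi ?_⟩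
      have : ((conjMap x H).subgroupOf A).index = H0.index := by
        apply Nat.eq_of_mul_eq_mul_left (Nat.card_pos (α := H0))
        rw [H0.card_mul_index, ← hc, card_mul_index]
      exact this ▸ h
    obtain ⟨a, ha⟩ := hconj H0 _ hH0 hxH
    have heq : conjMap x H = conjMap (a : G) H := by
      have := congrArg (Subgroup.map A.subtype) ha
      rw [map_subgroupOf_eq_of_le hxA] at this
      rw [this]
      exact map_conjMap A.subtype a H0
    have hmem : (a : G)⁻¹ * x ∈ normalizer (H : Set G) := by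
      rw [← conjMap_eq_self_iff, ← conjMap_mul, heq, conjMap_inv_conjMap]
    have hfx : f ((a : G)⁻¹ * x) = f x := by
      rw [map_mul, map_inv, hf, QuotientGroup.mk'_apply, (QuotientGroup.eq_one_iff _).mpr a.2, inv_one,
        one_mul]
    exact ⟨⟨_, hmem, show f ((a : G)⁻¹ * x) ∈ Q from hfx ▸ hy⟩, hfx⟩
  have hHN : H ≤ N := le_inf le_normalizer fun z hz => by
    rw [mem_comap, hf, QuotientGroup.mk'_apply, (QuotientGroup.eq_one_iff _).mpr (hHA hz)]
    exact one_mem _
  haveI : (H.subgroupOf N).Normal := normal_subgroupOf_iff_le_normalizer hHN |>.2 inf_le_left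
  set B : Subgroup N := φ.ker with hB
  have hkerB : φ.ker = A.subgroupOf N := by
    rw [hφ, ← MonoidHom.comap_ker, hf, QuotientGroup.ker_mk']; rfl
  have hHB : H.subgroupOf N ≤ B := by
    rw [hB, hkerB]; exact comap_mono hHA
  set g := QuotientGroup.mk' (H.subgroupOf N) with hg
  have hgs : Function.Surjective g := QuotientGroup.mk'_surjective _
  have hBi : (B.map g).index = Nat.card Q := by
    rw [index_map_eq B hgs (by rw [hg, QuotientGroup.ker_mk']; exact hHB), hB, ← hrange]
    exact index_ker φ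
  have hBc : Nat.card B = Nat.card H * Nat.card (B.map g) := by
    have h1 := card_comap_mk' (N := H.subgroupOf N) (B.map g)
    rw [← hg, comap_map_eq_self (by rw [hg, QuotientGroup.ker_mk']; exact hHB),
      Nat.card_congr (subgroupOfEquivOfLe hHN).toEquiv] at h1
    exact h1
  have hBA : Nat.card (B.map g) ∣ H0.index := by
    have h1 : Nat.card B ∣ Nat.card A := by
      rw [hB, hkerB, ← Subgroup.card_map_of_injective N.subtype_injective, subgroupOf_map_subtype]
      exact card_dvd_of_le inf_le_left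
    rw [hBc, ← H0.card_mul_index, hHc] at h1
    exact Nat.dvd_of_mul_dvd_mul_left Nat.card_pos h1
  have hcop : (Nat.card (B.map g)).Coprime (B.map g).index := by
    rw [hBi]
    exact coprime_of_forall_prime fun q hq h h' => hH0.2 q hq (hQ.1 q hq h') (h.trans hBA)
  haveI : (B.map g).Normal := (inferInstance : B.Normal).map g hgs
  obtain ⟨K, hK⟩ := exists_right_complement'_of_coprime hcop
  set P : Subgroup G := (K.comap g).map N.subtype with hP
  have hPc : Nat.card P = Nat.card H * Nat.card Q := by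
    rw [hP, card_map_of_injective N.subtype_injective, hg, card_comap_mk',
      Nat.card_congr (subgroupOfEquivOfLe hHN).toEquiv, ← hBi, hK.symm.index_eq_card]
  refine ⟨P, fun q hq h => ?_, fun q hq hqi h => ?_⟩
  · rw [hPc, hHc] at h
    exact (hq.dvd_mul.mp h).elim (hH0.1 q hq) (hQ.1 q hq)
  · have hi : P.index = H0.index * Q.index := by
      apply Nat.eq_of_mul_eq_mul_left (Nat.card_pos (α := P))
      rw [P.card_mul_index, hPc, hHc, card_eq_card_quotient_mul_card_subgroup A, ← H0.card_mul_index,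
        ← Q.card_mul_index]
      ring
    rw [hi] at h
    exact (hq.dvd_mul.mp h).elim (hH0.2 q hq hqi) (hQ.2 q hq hqi)

theorem cPi_extension (hFT : OddSolvable.{u}) {π : Set ℕ} (A : Subgroup G) [A.Normal] (hA : IsCPiGroup π A)
    (hQ : IsCPiGroup π (G ⧸ A)) : IsCPiGroup π G := by
  refine ⟨cPi_exists A hA hQ, fun S0 T hS0 hT => ?_⟩
  obtain ⟨-, hconj⟩ := hA
  set f := QuotientGroup.mk' A with hf
  have hs : Function.Surjective f := QuotientGroup.mk'_surjective A
  -- move `S0` so that it has the image of `T`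
  obtain ⟨q, hq⟩ := hQ.2 _ _ (isPiHall_map hS0 hs) (isPiHall_map hT hs)
  obtain ⟨c, rfl⟩ := hs q
  have hS1 : IsPiHall π (conjMap c S0) := isPiHall_conjMap hS0 c
  have himg : (conjMap c S0).map f = T.map f := by rw [map_conjMap]; exact hq.symm
  obtain ⟨a, ha⟩ := hconj _ _ (inf_normal_hall A hS1) (inf_normal_hall A hT)
  set S := conjMap (a : G) (conjMap c S0) with hSdef
  have hS : IsPiHall π S := isPiHall_conjMap hS1 _
  have hSimg : S.map f = T.map f := by
    rw [hSdef, map_conjMap, himg, hf, QuotientGroup.mk'_apply, (QuotientGroup.eq_one_iff _).mpr a.2,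
      conjMap_one]
  have hinf : A ⊓ S = A ⊓ T := by
    have hAc : conjMap (a : G) A = A := conjMap_eq_self (le_normalizer a.2)
    have := congrArg (Subgroup.map A.subtype) ha
    rw [map_subgroupOf_eq_of_le inf_le_left] at this
    refine Eq.trans ?_ this.symm
    have h2 : ((((A ⊓ conjMap c S0).subgroupOf A).map (MulAut.conj a).toMonoidHom)).map A.subtype =
        conjMap (a : G) (((A ⊓ conjMap c S0).subgroupOf A).map A.subtype) :=
      map_conjMap A.subtype a _
    rw [h2, map_subgroupOf_eq_of_le inf_le_left, conjMap_inf, hAc]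
  set H := A ⊓ T with hH
  have hSN : S ≤ normalizer (H : Set G) := hinf ▸ le_normalizer_inf le_normalizer_of_normal le_normalizer
  have hTN : T ≤ normalizer (H : Set G) := le_normalizer_inf le_normalizer_of_normal le_normalizer
  have hTX : T ≤ A ⊔ S := by
    have := le_comap_map f T
    rw [← hSimg, comap_map_eq, hf, QuotientGroup.ker_mk', sup_comm] at this
    exact this
  set N := normalizer (H : Set G)
  haveI : (H.subgroupOf N).Normal := normal_subgroupOf_iff_le_normalizer le_normalizer |>.2 le_rfl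
  set g := QuotientGroup.mk' (H.subgroupOf N) with hg
  have hgs : Function.Surjective g := QuotientGroup.mk'_surjective _
  set B := (A.subgroupOf N).map g with hB
  haveI : B.Normal := (inferInstance : (A.subgroupOf N).Normal).map g hgs
  have hHA : H ≤ A := inf_le_left
  have hker : g.ker = H.subgroupOf N := QuotientGroup.ker_mk' _
  have hcard : ∀ R : Subgroup G, H ≤ R → R ≤ N →
      Nat.card H * Nat.card ((R.subgroupOf N).map g) = Nat.card R := by
    intro R h1 h2
    have h3 := card_comap_mk' (N := H.subgroupOf N) ((R.subgroupOf N).map g)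
    rw [← hg, comap_map_eq_self (by rw [hker]; exact comap_mono h1),
      Nat.card_congr (subgroupOfEquivOfLe h2).toEquiv,
      Nat.card_congr (subgroupOfEquivOfLe (le_normalizer : H ≤ N)).toEquiv] at h3
    exact h3.symm
  have hHS : H ≤ S := hinf ▸ inf_le_right
  have hST : Nat.card ((T.subgroupOf N).map g) = Nat.card ((S.subgroupOf N).map g) := by
    apply Nat.eq_of_mul_eq_mul_left (Nat.card_pos (α := H))
    rw [hcard S hHS hSN, hcard T inf_le_right hTN, piHall_card_eq hS hT]
  have hcop : (Nat.card B).Coprime (Nat.card ((S.subgroupOf N).map g)) := by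
    refine coprime_of_forall_prime fun r hr h h' => ?_
    have hrS : r ∈ π := hS.1 r hr ((h'.trans (dvd_mul_left _ _)).trans (dvd_of_eq (hcard S hHS hSN)))
    have h1 : Nat.card H * Nat.card B ∣ Nat.card H * (H.subgroupOf A).index := by
      have h2 := hcard (A ⊓ N) (le_inf hHA le_normalizer) inf_le_right
      rw [inf_subgroupOf_right, ← hB] at h2
      rw [h2]
      have h4 : Nat.card H * (H.subgroupOf A).index = Nat.card A := by
        rw [← Nat.card_congr (subgroupOfEquivOfLe hHA).toEquiv, card_mul_index]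
      rw [h4]
      exact card_dvd_of_le inf_le_left
    exact (inf_normal_hall A hT).2 r hr hrS (h.trans (Nat.dvd_of_mul_dvd_mul_left Nat.card_pos h1))
  have hle : (T.subgroupOf N).map g ≤ B ⊔ (S.subgroupOf N).map g := by
    rw [hB, ← Subgroup.map_sup]
    refine map_mono fun t ht => ?_
    obtain ⟨x, hx, s, hs', hxs⟩ := (mem_sup_of_le_normalizer le_normalizer_of_normal).mp (hTX ht)
    have hxN : x ∈ N := by
      have : x = (t : G) * s⁻¹ := eq_mul_inv_of_mul_eq hxs
      rw [this]
      exact mul_mem t.2 (inv_mem (hSN hs'))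
    have hts : t = (⟨x, hxN⟩ : N) * ⟨s, hSN hs'⟩ := Subtype.ext hxs.symm
    rw [hts]
    exact mul_mem (mem_sup_left (show (⟨x, hxN⟩ : N) ∈ A.subgroupOf N from hx))
      (mem_sup_right (show (⟨s, hSN hs'⟩ : N) ∈ S.subgroupOf N from hs'))
  obtain ⟨b', -, hb⟩ := conj_complement hFT le_normalizer_of_normal hcop hle hST
  obtain ⟨b, rfl⟩ := hgs b'
  rw [← map_conjMap] at hb
  have hfin : T.subgroupOf N = conjMap b (S.subgroupOf N) := by
    have h1 := congrArg (comap g) hb
    rwa [comap_map_eq_self (by rw [hker]; exact comap_mono (inf_le_right : H ≤ T)),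
      comap_map_eq_self (by
        rw [hker, ← conjMap_eq_self (le_normalizer_of_normal (mem_top b) : b ∈ normalizer (H.subgroupOf N : Set N))]
        exact conjMap_mono (comap_mono hHS))] at h1
  have hfin' := congrArg (Subgroup.map N.subtype) hfin
  rw [map_conjMap, map_subgroupOf_eq_of_le hTN, map_subgroupOf_eq_of_le hSN] at hfin'
  refine ⟨(b : G) * a * c, ?_⟩
  show T = conjMap _ S0
  rw [hfin', hSdef, conjMap_mul, conjMap_mul]
  simp only [Subgroup.coe_subtype, mul_assoc]

end Cfsg.Lib.HallFT
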