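import Cfsg.Agent.Coprime.MaximalInvariant
import Cfsg.Agent.Coprime.InvariantHall
import Cfsg.Agent.Coprime.HallFT
import Cfsg.Agent.SolvStruct.GlaubermanThompson
import Cfsg.Agent.Splitting.Basic
import Cfsg.Agent.SolvStruct.SThree.Main

/-!
Coprime actions all of whose maximal invariant proper subgroups are nilpotent.
-/

set_option autoImplicit false
set_option linter.style.haveILetI false
set_option linter.unusedSectionVars false

namespace Cfsg.Lib.NilpotentMaxInvariant

open Subgroup Cfsg.Lib.Coprime

universe u v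

variable {A : Type v} [Group A] [Finite A]

/-- every proper invariant subgroup is nilpotent -/
def ProperNil (A : Type v) [Group A] (G : Type u) [Group G] [MulDistribMulAction A G] : Prop :=
  ∀ H : Subgroup G, H ≠ ⊤ → (∀ a : A, ∀ x ∈ H, a • x ∈ H) → Group.IsNilpotent H

variable {G : Type u} [Group G] [Finite G] [MulDistribMulAction A G]

theorem char_invariant {K : Subgroup G} [hK : K.Characteristic] (a : A) {x : G} (hx : x ∈ K) : a • x ∈ K :=
  characteristic_iff_le_comap.1 hK (MulDistribMulAction.toMulEquiv G a) hx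

theorem normalizer_invariant {K : Subgroup G} (hK : ∀ a : A, ∀ x ∈ K, a • x ∈ K) (a : A) {x : G}
    (hx : x ∈ normalizer (K : Set G)) : a • x ∈ normalizer (K : Set G) := by
  rw [mem_normalizer_iff] at hx ⊢
  intro y
  constructor
  · intro hy
    have h := hK a _ ((hx (a⁻¹ • y)).1 (hK a⁻¹ y hy))
    rwa [smul_mul', smul_mul', smul_inv', smul_inv_smul] at h
  · intro hy
    have h := hK a _ ((hx (a⁻¹ • y)).2 (by
      have := hK a⁻¹ _ hy
      rwa [smul_mul', smul_mul', smul_inv', inv_smul_smul] at this))
    rwa [smul_inv_smul] at h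

theorem zj_invariant {q : ℕ} [Fact q.Prime] {S : Subgroup G} (hS : ∀ a : A, ∀ x ∈ S, a • x ∈ S) (a : A) {x : G}
    (hx : x ∈ Cfsg.centerThompsonOf q S) : a • x ∈ Cfsg.centerThompsonOf q S := by
  let f := (MulDistribMulAction.toMulEquiv G a).toMonoidHom
  have hSf : S.map f = S := by
    refine le_antisymm ?_ fun y hy => ⟨a⁻¹ • y, hS _ _ hy, smul_inv_smul a y⟩
    rintro _ ⟨y, hy, rfl⟩
    exact hS a y hy
  have h := Cfsg.Lib.SolvStruct.zjOf_map (p := q) (D := S) (f := f)
    (MulDistribMulAction.toMulEquiv G a).injective.injOn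
  rw [hSf] at h
  exact h.le ⟨x, hx, rfl⟩

theorem solvable_aux (hA : Group.IsSolvable A) (n : ℕ) : ∀ (G : Type u) [Group G] [Finite G]
    [MulDistribMulAction A G], Nat.card G ≤ n → (Nat.card A).Coprime (Nat.card G) → ProperNil A G →
      Group.IsSolvable G := by
  induction n with
  | zero => intro G _ _ _ hc; exact absurd hc (by have := Nat.card_pos (α := G); omega)
  | succ n ih =>
    intro G _ _ _ hc hcop hnil
    by_cases hN : ∃ N : Subgroup G, N.Normal ∧ N ≠ ⊥ ∧ N ≠ ⊤ ∧ ∀ a : A, ∀ x ∈ N, a • x ∈ N
    · obtain ⟨N, hNn, hNb, hNt, hNi⟩ := hN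
      haveI := hnil N hNt hNi
      letI act : MulDistribMulAction A (G ⧸ N) :=
        { smul := fun a => QuotientGroup.map N N (MulDistribMulAction.toMonoidHom G a) (hNi a)
          one_smul := fun x => by
            obtain ⟨x, rfl⟩ := QuotientGroup.mk_surjective x
            show (((1 : A) • x : G) : G ⧸ N) = _
            rw [one_smul]
          mul_smul := fun a b x => by
            obtain ⟨x, rfl⟩ := QuotientGroup.mk_surjective x
            show (((a * b) • x : G) : G ⧸ N) = ((a • b • x : G) : G ⧸ N)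
            rw [mul_smul]
          smul_mul := fun a x y => map_mul (QuotientGroup.map N N (MulDistribMulAction.toMonoidHom G a) (hNi a)) x y
          smul_one := fun a => map_one (QuotientGroup.map N N (MulDistribMulAction.toMonoidHom G a) (hNi a)) }
      have hQ : Group.IsSolvable (G ⧸ N) := by
        refine ih (G ⧸ N) (by have := card_quotient_lt hNb; omega)
          (hcop.coprime_dvd_right ?_) fun H hH hHi => ?_
        · exact ⟨_, card_eq_card_quotient_mul_card_subgroup N⟩
        have hM : H.comap (QuotientGroup.mk' N) ≠ ⊤ := fun e => hH (by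
          rw [← map_comap_eq_self_of_surjective (QuotientGroup.mk'_surjective N) H, e,
            map_top_of_surjective _ (QuotientGroup.mk'_surjective N)])
        haveI := hnil _ hM fun a x hx => hHi a _ hx
        exact Group.nilpotent_of_surjective ((QuotientGroup.mk' N).subgroupComap H)
          ((QuotientGroup.mk' N).subgroupComap_surjective_of_surjective H (QuotientGroup.mk'_surjective N))
      haveI := hQ
      exact Group.isSolvable_of_ker_le_range N.subtype (QuotientGroup.mk' N) (by simp)
    have hmin : ∀ N : Subgroup G, N.Normal → (∀ a : A, ∀ x ∈ N, a • x ∈ N) → N = ⊥ ∨ N = ⊤ := by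
      intro N h1 h2
      by_cases hb : N = ⊥
      · exact Or.inl hb
      · exact Or.inr (by_contra fun ht => hN ⟨N, h1, hb, ht, h2⟩)
    by_cases hp : ∃ q : ℕ, q.Prime ∧ IsPGroup q G
    · obtain ⟨q, hq, hG⟩ := hp
      haveI := Fact.mk hq
      haveI := hG.isNilpotent
      infer_instance
    obtain ⟨q, hq, hq2, hqd⟩ : ∃ q : ℕ, q.Prime ∧ q ≠ 2 ∧ q ∣ Nat.card G := by
      by_contra! hno
      refine hp ⟨2, Nat.prime_two, IsPGroup.of_card (n := (Nat.card G).factorization 2) ?_⟩
      refine (Nat.eq_pow_of_factorization_eq_single Nat.card_pos.ne' ?_)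
      ext r
      by_cases hr : r = 2
      · simp [hr]
      · rw [Finsupp.single_eq_of_ne (by omega)]
        by_cases hrp : r.Prime
        · exact Nat.factorization_eq_zero_of_not_dvd (hno r hrp hr)
        · exact Nat.factorization_eq_zero_of_not_prime _ hrp
    haveI := Fact.mk hq
    obtain ⟨S, hSp, hSi, hSinv⟩ := MaximalInvariant.exists_invariant_sylow_ext hcop (Or.inl hA) q
    let P : Sylow q G := hSp.toSylow hSi
    have hSne : S ≠ ⊥ := fun e => by
      apply hSi
      rw [e, index_bot]
      exact hqd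
    set Z := Cfsg.centerThompsonOf q S
    set N := normalizer (Z : Set G) with hNdef
    have hNt : N ≠ ⊤ := fun e => by
      have hZn : Z.Normal := normalizer_eq_top_iff.1 e
      rcases hmin Z hZn fun a x hx => zj_invariant hSinv a hx with h | h
      · exact Cfsg.Lib.SolvStruct.zjOf_ne_bot hSp hSne h
      · have : S = ⊤ := top_le_iff.1 (h ▸ Cfsg.Lib.SolvStruct.zjOf_le S)
        exact hp ⟨q, hq, this ▸ hSp |>.of_equiv Subgroup.topEquiv⟩
    haveI : Group.IsNilpotent ↥(normalizer (Cfsg.Lib.SolvStruct.zjOf q (P : Subgroup G) : Set G)) :=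
      hnil N hNt fun a x hx => normalizer_invariant (fun a x hx => zj_invariant hSinv a hx) a hx
    have hcomp : Cfsg.HasNormalPComplement q G :=
      (Cfsg.Lib.SolvStruct.hasNormalPComplement_iff_zj hq2 P).2
        (Cfsg.Lib.Splitting.hasNormalPComplement_of_nilpotent q)
    rw [Cfsg.Lib.Transfer.hasNormalPComplement_iff_pResidual] at hcomp
    rcases hmin (Cfsg.pResidual q G) inferInstance fun a x hx => char_invariant a hx with h | h
    · obtain ⟨k, hk⟩ := Cfsg.Lib.Transfer.exists_index_pResidual (G := G) (p := q)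
      rw [h, index_bot] at hk
      exact absurd ⟨q, hq, IsPGroup.of_card hk⟩ hp
    · rw [h, card_top] at hcomp
      exact absurd hqd (hq.coprime_iff_not_dvd.1 hcomp.symm)

/-- all proper invariant subgroups nilpotent forces solvability -/
theorem solvable (hFTA : Odd (Nat.card A) → Group.IsSolvable A) (hFTG : Odd (Nat.card G) → Group.IsSolvable G)
    (hcop : (Nat.card A).Coprime (Nat.card G)) (hnil : ProperNil A G) : Group.IsSolvable G := by
  rcases Nat.even_or_odd (Nat.card A) with hA | hA
  · refine hFTG (Nat.not_even_iff_odd.1 fun hG => ?_)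
    have h := Nat.dvd_gcd hA.two_dvd hG.two_dvd
    rw [hcop] at h
    exact absurd h (by norm_num)
  · exact solvable_aux (hFTA hA) _ G le_rfl hcop hnil

theorem properNil_of_max (hmax : ∀ H : Subgroup G, H ≠ ⊤ → (∀ a : A, ∀ x ∈ H, a • x ∈ H) →
    (∀ K : Subgroup G, H < K → (∀ a : A, ∀ x ∈ K, a • x ∈ K) → K = ⊤) → Group.IsNilpotent H) :
    ProperNil A G := fun H hH hHi => by
  obtain ⟨M, hM, hHM⟩ := MaximalInvariant.exists_maxInv hH hHi
  haveI := hmax M hM.1 hM.2.1 hM.2.2
  exact Group.nilpotent_of_surjective (subgroupOfEquivOfLe hHM).toMonoidHom (subgroupOfEquivOfLe hHM).surjective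

theorem structure_of_solvable (hG : Group.IsSolvable G) (hcop : (Nat.card A).Coprime (Nat.card G))
    (hnil : ProperNil A G) (hnn : ¬ Group.IsNilpotent G) :
    (∃ p q a b : ℕ, p.Prime ∧ q.Prime ∧ p ≠ q ∧ Nat.card G = p ^ a * q ^ b) ∧
      ∃ (p : ℕ) (P : Sylow p G), p.Prime ∧ p ∣ Nat.card G ∧ (P : Subgroup G).Normal ∧
        (∀ a : A, ∀ x ∈ (P : Subgroup G), a • x ∈ (P : Subgroup G)) := by
  classical
  haveI := hG
  -- move to the semidirect product for the invariant Hall machinery
  let φ : A →* MulAut G := MulDistribMulAction.toMulAut A G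
  let X := SemidirectProduct G A φ
  haveI : Finite X := Finite.of_equiv (G × A) SemidirectProduct.equivProd.symm
  set ι : G →* X := SemidirectProduct.inl with hι
  have hιi : Function.Injective ι := SemidirectProduct.inl_injective
  set A' : Subgroup X := (SemidirectProduct.inr : A →* X).range with hA'
  set K : Subgroup X := ι.range with hK
  haveI hKn : K.Normal := by
    rw [hK, hι, SemidirectProduct.range_inl_eq_ker_rightHom]; infer_instance
  have hcA : Nat.card A' = Nat.card A :=
    (Nat.card_congr (MonoidHom.ofInjective (SemidirectProduct.inr_injective (φ := φ))).toEquiv).symm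
  have hcK : Nat.card K = Nat.card G := (Nat.card_congr (MonoidHom.ofInjective hιi).toEquiv).symm
  have hsolK : Group.IsSolvable K := Group.isSolvable_of_surjective ι.rangeRestrict_surjective
  have hcop' : (Nat.card A').Coprime (Nat.card K) := by rwa [hcA, hcK]
  have hconj : ∀ (a : A) (x : G), SemidirectProduct.inr a * ι x * (SemidirectProduct.inr a)⁻¹ = ι (a • x) := by
    intro a x
    rw [← map_inv, hι, ← SemidirectProduct.inl_aut]
    rfl
  have hinv : ∀ H : Subgroup G, (∀ a : A, ∀ x ∈ H, a • x ∈ H) ↔ A' ≤ normalizer (H.map ι : Set X) := by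
    intro H
    constructor
    · rintro hH _ ⟨a, rfl⟩
      rw [← Cfsg.Lib.Coprime.conjMap_eq_self_iff]
      refine Subgroup.eq_of_le_of_card_ge ?_ (card_conjMap _ _).ge
      rintro _ ⟨_, ⟨x, hx, rfl⟩, rfl⟩
      exact ⟨a • x, hH a x hx, (hconj a x).symm⟩
    · intro hH a x hx
      obtain ⟨y, hy, hye⟩ := (mem_normalizer_iff.1 (hH ⟨a, rfl⟩) (ι x)).1 ⟨x, hx, rfl⟩
      rw [hconj] at hye
      exact hιi hye ▸ hy
  -- two primes suffice
  have hpq : ∃ p q a b : ℕ, p.Prime ∧ q.Prime ∧ p ≠ q ∧ Nat.card G = p ^ a * q ^ b := by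
    have hp1 : ∃ p : ℕ, p.Prime ∧ p ∣ Nat.card G ∧
        ∀ P : Sylow p G, ¬ (P : Subgroup G).Normal := by
      by_contra! hall
      refine hnn ((Group.isNilpotent_of_finite_tfae (G := G)).out 3 0 |>.1 fun p hp P => ?_)
      haveI := hp
      by_cases hd : p ∣ Nat.card G
      · obtain ⟨P', hP'⟩ := hall p hp.out hd
        haveI := Sylow.unique_of_normal P' hP'
        rw [Subsingleton.elim P P']
        exact hP'
      · obtain ⟨k, hk⟩ := P.2.exists_card_eq
        have : (P : Subgroup G) = ⊥ := Subgroup.card_eq_one.1 (by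
          rcases k with _ | k
          · simpa using hk
          · exact absurd ((dvd_pow_self p k.succ_ne_zero).trans (hk ▸ card_subgroup_dvd_card _)) hd)
        rw [this]
        infer_instance
    obtain ⟨p, hp, hpd, hpn⟩ := hp1
    haveI := Fact.mk hp
    obtain ⟨S, hSp, hSi, hSinv⟩ := MaximalInvariant.exists_invariant_sylow_ext hcop (Or.inr hG) p
    have hSK : S.map ι ≤ K := map_le_range _ _
    by_cases hex : ∃ q : ℕ, q.Prime ∧ q ≠ p ∧ ∀ H : Subgroup G, Cfsg.IsPiHall {r | r = p ∨ r = q} H → H = ⊤
    · obtain ⟨q, hq, hqp, hall⟩ := hex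
      obtain ⟨H, hH⟩ := exists_piHall (G := G) {r | r = p ∨ r = q}
      have htop := hall H hH
      subst htop
      refine ⟨p, q, (Nat.card G).factorization p, (Nat.card G).factorization q, hp, hq, hqp.symm, ?_⟩
      have hne : Nat.card G ≠ 0 := Nat.card_pos.ne'
      refine Nat.eq_of_factorization_eq hne
        (mul_ne_zero (pow_ne_zero _ hp.ne_zero) (pow_ne_zero _ hq.ne_zero)) fun r => ?_
      rw [Nat.factorization_mul (pow_ne_zero _ hp.ne_zero) (pow_ne_zero _ hq.ne_zero), Finsupp.add_apply,
        hp.factorization_pow, hq.factorization_pow, Finsupp.single_apply, Finsupp.single_apply]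
      by_cases hr : r.Prime ∧ r ∣ Nat.card G
      · rcases hH.1 r hr.1 (by rw [card_top]; exact hr.2) with rfl | rfl
        · simp [hqp]
        · simp [hqp.symm]
      · rw [not_and_or] at hr
        have h0 : (Nat.card G).factorization r = 0 := hr.elim (Nat.factorization_eq_zero_of_not_prime _)
          Nat.factorization_eq_zero_of_not_dvd
        split_ifs with h1 h2 <;> simp_all
    push Not at hex
    exfalso
    have hkey : ∀ q : ℕ, q.Prime → q ≠ p →
        q ^ (Nat.card G).factorization q ∣ Nat.card (normalizer (S : Set G)) := by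
      intro q hq hqp
      obtain ⟨H₀, hH₀, hH₀top⟩ := hex q hq hqp
      haveI := Fact.mk hq
      obtain ⟨H', hH', hAH', hSH'⟩ := exists_invariantHall_ge (A := A') (K := K) (U := S.map ι)
        le_normalizer_of_normal hcop' hsolK (π := {r | r = p ∨ r = q}) hSK ((hinv S).1 hSinv) (by
          intro r hr hrd
          rw [card_map_of_injective hιi] at hrd
          obtain ⟨k, hk⟩ := hSp.exists_card_eq
          exact Or.inl ((Nat.prime_dvd_prime_iff_eq hr hp).1 (hr.dvd_of_dvd_pow (hk ▸ hrd))))
      set H := H'.comap ι with hHdef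
      have hHmap : H.map ι = H' := map_comap_eq_self hH'.1
      have hHc : Nat.card H = Nat.card H' := by rw [← hHmap, card_map_of_injective hιi]
      have hHinv : ∀ a : A, ∀ x ∈ H, a • x ∈ H := (hinv H).2 (hHmap.symm ▸ hAH')
      have hHh : Cfsg.IsPiHall {r | r = p ∨ r = q} H := by
        refine ⟨fun r hr h => hH'.2.1 r hr (hHc ▸ h), fun r hr hrp h => hH'.2.2 r hr hrp ?_⟩
        have : H.index = H'.relIndex K := index_comap H' ι
        exact this ▸ h
      have hHtop : H ≠ ⊤ := fun e => hH₀top (Subgroup.eq_top_of_card_eq H₀ (by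
        rw [piHall_card_eq hH₀ hHh, e, card_top]))
      haveI := hnil H hHtop hHinv
      have hSH : S ≤ H := fun x hx => hSH' ⟨x, hx, rfl⟩
      have hnS : H ≤ normalizer (S : Set G) := by
        have hi : ¬ p ∣ (S.subgroupOf H).index := fun hd =>
          hSi (hd.trans (relIndex_dvd_index_of_le hSH))
        let P : Sylow p H := (hSp.of_equiv (subgroupOfEquivOfLe hSH).symm).toSylow hi
        have hPn : (P : Subgroup H).Normal := Cfsg.Lib.SThree.normal_sylow_of_nilpotent inferInstance P
        exact (normal_subgroupOf_iff_le_normalizer hSH).1 hPn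
      refine dvd_trans ?_ (card_dvd_of_le hnS)
      refine (Nat.Coprime.dvd_of_dvd_mul_right ?_ ((Nat.ordProj_dvd (Nat.card G) q).trans (dvd_of_eq H.card_mul_index.symm)))
      exact Nat.Coprime.pow_left _ (hq.coprime_iff_not_dvd.2 (hHh.2 q hq (Or.inr rfl)))
    have hN : normalizer (S : Set G) = ⊤ := by
      refine Subgroup.eq_top_of_card_eq _ (Nat.dvd_antisymm (card_subgroup_dvd_card _) ?_)
      rw [← Nat.factorization_le_iff_dvd Nat.card_pos.ne' Nat.card_pos.ne']
      intro r
      by_cases hr : r.Prime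
      swap
      · simp [Nat.factorization_eq_zero_of_not_prime _ hr]
      refine (hr.pow_dvd_iff_le_factorization Nat.card_pos.ne').1 ?_
      by_cases hrp : r = p
      · subst hrp
        refine dvd_trans ?_ (card_dvd_of_le le_normalizer)
        have := (hSp.toSylow hSi).card_eq_multiplicity
        exact dvd_of_eq this.symm
      · exact hkey r hr hrp
    exact hpn (hSp.toSylow hSi) (normalizer_eq_top_iff.1 hN)
  refine ⟨hpq, ?_⟩
  -- the invariant normal subgroup `G'` lies in a maximal one, nilpotent
  have hcomm : commutator G ≠ ⊤ := fun e => by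
    haveI : Nontrivial G := not_subsingleton_iff_nontrivial.1 fun h => hnn (by haveI := h; infer_instance)
    exact (Group.IsSolvable.commutator_lt_top_of_nontrivial G).ne e
  obtain ⟨M, hM, hcM⟩ := MaximalInvariant.exists_maxInv (A := A) hcomm fun a x hx => char_invariant a hx
  haveI hMn : M.Normal := normal_of_commutator_le hcM
  haveI := hnil M hM.1 hM.2.1
  obtain ⟨p, q, a, b, hp, hq, hne, hcard⟩ := hpq
  -- one of the two primes does not divide the index
  have hex : ∃ r : ℕ, r.Prime ∧ r ∣ Nat.card G ∧ ¬ r ∣ M.index := by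
    by_contra! hno
    -- powers modulo the index give a larger invariant subgroup
    have hr : ∀ r : ℕ, r.Prime → r ∣ M.index → M.index ∣ r ^ (Nat.card G).factorization r := by
      intro r hr hrd
      let f := QuotientGroup.mk' M
      have hcom : ∀ x y : G ⧸ M, Commute x y := by
        intro x y
        obtain ⟨x, rfl⟩ := QuotientGroup.mk_surjective x
        obtain ⟨y, rfl⟩ := QuotientGroup.mk_surjective y
        show _ * _ = _ * _
        rw [← commutatorElement_eq_one_iff_mul_comm]
        exact (QuotientGroup.eq_one_iff _).2 (hcM (commutator_mem_commutator (mem_top x) (mem_top y)))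
      haveI := Fact.mk hr
      -- elements of `r`-power order modulo `M`
      let L : Subgroup G :=
        { carrier := {x | ∃ k : ℕ, x ^ r ^ k ∈ M}
          one_mem' := ⟨0, by simp⟩
          mul_mem' := by
            rintro x y ⟨i, hx⟩ ⟨j, hy⟩
            refine ⟨i + j, ?_⟩
            rw [← QuotientGroup.eq_one_iff, QuotientGroup.mk_pow, QuotientGroup.mk_mul, (hcom _ _).mul_pow]
            have h1 : (x : G ⧸ M) ^ r ^ i = 1 := by rw [← QuotientGroup.mk_pow]; exact (QuotientGroup.eq_one_iff _).2 hx
            have h2 : (y : G ⧸ M) ^ r ^ j = 1 := by rw [← QuotientGroup.mk_pow]; exact (QuotientGroup.eq_one_iff _).2 hy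
            rw [pow_add, pow_mul, h1, one_pow, one_mul, mul_comm, pow_mul, h2, one_pow]
          inv_mem' := by
            rintro x ⟨i, hx⟩
            exact ⟨i, by rw [inv_pow]; exact inv_mem hx⟩ }
      have hLi : ∀ a : A, ∀ x ∈ L, a • x ∈ L := by
        rintro a x ⟨k, hk⟩
        exact ⟨k, by rw [← smul_pow']; exact hM.2.1 a _ hk⟩
      obtain ⟨y, hy⟩ := exists_prime_orderOf_dvd_card' (G := G ⧸ M) r (by rwa [← index_eq_card])
      obtain ⟨y, rfl⟩ := QuotientGroup.mk_surjective y
      have hlt : M < L := by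
        refine lt_of_le_of_ne (fun x hx => ⟨0, by simpa using hx⟩) fun e => ?_
        have hyL : y ∈ L := ⟨1, by
          rw [pow_one, ← QuotientGroup.eq_one_iff, QuotientGroup.mk_pow, ← hy, pow_orderOf_eq_one]⟩
        rw [← e, ← QuotientGroup.eq_one_iff] at hyL
        rw [hyL, orderOf_one] at hy
        exact hr.one_lt.ne hy
      have hLt := hM.2.2 L hlt hLi
      have hpg : IsPGroup r (G ⧸ M) := fun x => by
        obtain ⟨x, rfl⟩ := QuotientGroup.mk_surjective x
        obtain ⟨k, hk⟩ := hLt.ge (mem_top x)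
        exact ⟨k, by rw [← QuotientGroup.mk_pow]; exact (QuotientGroup.eq_one_iff _).2 hk⟩
      obtain ⟨k, hk⟩ := IsPGroup.iff_card.1 hpg
      rw [index_eq_card, hk]
      refine pow_dvd_pow r ((hr.pow_dvd_iff_le_factorization Nat.card_pos.ne').1 ?_)
      rw [← hk, ← index_eq_card]
      exact index_dvd_card M
    have ha : a ≠ 0 := fun ha => hnn (by
      subst ha
      haveI := Fact.mk hq
      exact (IsPGroup.of_card (by simpa using hcard)).isNilpotent)
    have hb : b ≠ 0 := fun hb => hnn (by
      subst hb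
      haveI := Fact.mk hp
      exact (IsPGroup.of_card (by simpa using hcard)).isNilpotent)
    have hpd : p ∣ Nat.card G := hcard ▸ dvd_mul_of_dvd_left (dvd_pow_self p ha) _
    have hqd : q ∣ Nat.card G := hcard ▸ dvd_mul_of_dvd_right (dvd_pow_self q hb) _
    have h1 := hr p hp (hno p hp hpd)
    have h2 := (hno q hq hqd).trans h1
    exact hne ((Nat.prime_dvd_prime_iff_eq hq hp).1 (hq.dvd_of_dvd_pow h2)).symm
  obtain ⟨r, hr, hrd, hri⟩ := hex
  haveI := Fact.mk hr
  obtain ⟨R⟩ : Nonempty (Sylow r M) := inferInstance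
  haveI hRn : (R : Subgroup M).Normal := Cfsg.Lib.SThree.normal_sylow_of_nilpotent inferInstance R
  haveI hRc : (R : Subgroup M).Characteristic := R.characteristic_of_normal hRn
  have hRi : ¬ r ∣ ((R : Subgroup M).map M.subtype).index := by
    rw [index_map_subtype]
    exact fun h => (hr.dvd_mul.1 h).elim R.not_dvd_index hri
  refine ⟨r, (R.2.map M.subtype).toSylow hRi, hr, hrd, ?_, ?_⟩
  · exact (inferInstance : ((R : Subgroup M).map M.subtype).Normal)
  · rintro c _ ⟨y, hy, rfl⟩
    let e : M ≃* M :=
      { toFun := fun z => ⟨c • (z : G), hM.2.1 c _ z.2⟩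
        invFun := fun z => ⟨c⁻¹ • (z : G), hM.2.1 _ _ z.2⟩
        left_inv := fun z => Subtype.ext (inv_smul_smul c _)
        right_inv := fun z => Subtype.ext (smul_inv_smul c _)
        map_mul' := fun z w => Subtype.ext (smul_mul' c _ _) }
    exact ⟨e y, characteristic_iff_le_comap.1 hRc e hy, rfl⟩

end Cfsg.Lib.NilpotentMaxInvariant
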