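/-
An automorphism group of odd order of a `2`-group fixing all elements of order at most `4` is trivial.
-/
import Cfsg.Agent.Coprime.Sylow
import Cfsg.Agent.PGroups.Basic

namespace Cfsg.Lib.Coprime

open Subgroup
open scoped commutatorElement

variable {G : Type*} [Group G] [Finite G]

theorem coprime_odd_two_group {A P : Subgroup G} (hA : Odd (Nat.card A)) (hP : IsPGroup 2 P) :
    (Nat.card A).Coprime (Nat.card P) := by
  haveI : Fact (Nat.Prime 2) := ⟨Nat.prime_two⟩
  obtain ⟨n, hn⟩ := IsPGroup.iff_card.1 hP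
  rw [hn]
  exact hA.coprime_two_right.pow_right n

theorem isSolvable_of_two_group {P : Subgroup G} (hP : IsPGroup 2 P) : Group.IsSolvable P := by
  haveI : Fact (Nat.Prime 2) := ⟨Nat.prime_two⟩
  haveI := hP.isNilpotent
  infer_instance

theorem le_centralizer_of_fix_four_aux : ∀ (n : ℕ) (A P : Subgroup G), Nat.card P = n → IsPGroup 2 P →
    Odd (Nat.card A) → A ≤ normalizer (P : Set G) →
    (∀ x ∈ P, x ^ 4 = 1 → ∀ a ∈ A, a * x = x * a) → A ≤ centralizer (P : Set G) := by
  intro n
  induction n using Nat.strong_induction_on with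
  | _ n ih =>
  intro A P hn hP hA hAP hfix
  haveI : Fact (Nat.Prime 2) := ⟨Nat.prime_two⟩
  have hind : ∀ Q : Subgroup G, Q < P → A ≤ normalizer (Q : Set G) → A ≤ centralizer (Q : Set G) :=
    fun Q hQ hAQ => ih _ (hn ▸ lt_of_le_of_ne (Nat.le_of_dvd Nat.card_pos (card_dvd_of_le hQ.le))
      (fun h => hQ.ne (eq_of_le_of_card_ge hQ.le h.ge))) A Q rfl (hP.to_le hQ.le) hA hAQ
      fun x hx => hfix x (hQ.le hx)
  have hcop := coprime_odd_two_group hA hP
  have hsol : Group.IsSolvable A ∨ Group.IsSolvable P := Or.inr (isSolvable_of_two_group hP)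
  by_cases hPb : P = ⊥
  · subst hPb
    intro a _
    rw [mem_centralizer_iff]
    intro y hy
    rw [SetLike.mem_coe, mem_bot] at hy
    simp [hy]
  haveI : Nontrivial P := (nontrivial_iff_ne_bot P).2 hPb
  set F := (frattini P).map P.subtype with hF
  have hFP : F ≤ P := map_subtype_le _
  have hFne : F ≠ P := fun h => by
    have h2 : frattini P = ⊤ := map_injective P.subtype_injective
      (show (frattini P).map P.subtype = (⊤ : Subgroup P).map P.subtype by
        rw [← hF, h, ← MonoidHom.range_eq_map, range_subtype])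
    have : (⊥ : Subgroup P) = ⊤ := frattini_nongenerating (by rw [h2, bot_sup_eq])
    exact bot_ne_top this
  have hKF : ∀ g ∈ normalizer (P : Set G), ∀ x ∈ F, g * x * g⁻¹ ∈ F := by
    rintro g hg - ⟨y, hy, rfl⟩
    have hc := (characteristic_iff_map_eq.mp (frattini_characteristic (G := P)))
      (P.normalizerMonoidHom ⟨g, hg⟩)
    exact ⟨P.normalizerMonoidHom ⟨g, hg⟩ y, hc.le ⟨y, hy, rfl⟩, rfl⟩
  have hnF : normalizer (P : Set G) ≤ normalizer (F : Set G) := fun g hg =>
    mem_normalizer_of_conj_mem (hKF g hg) (fun x hx => by simpa using hKF _ (inv_mem hg) x hx)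
  have hAF := hind F (lt_of_le_of_ne hFP hFne) (hAP.trans hnF)
  have hle := commutator_le_of_le_normalizer hAP
  by_cases hPA : ⁅P, A⁆ = P
  · -- the Frattini subgroup is central in `P`
    have h1 : ⁅⁅A, F⁆, P⁆ = ⊥ := by
      rw [commutator_eq_bot_iff_le_centralizer.2 hAF, commutator_bot_left]
    have h2 : ⁅⁅F, P⁆, A⁆ = ⊥ := by
      rw [commutator_eq_bot_iff_le_centralizer]
      have h3 : ⁅F, P⁆ ≤ F := by
        rw [commutator_le]
        intro f hf x hx
        have := hKF x (le_normalizer hx) _ (inv_mem hf)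
        rw [commutatorElement_def]
        have : f * (x * f⁻¹ * x⁻¹) ∈ F := mul_mem hf this
        simpa [mul_assoc] using this
      refine h3.trans ?_
      exact le_centralizer_iff.1 hAF
    have h4 := commutator_commutator_eq_bot_of_rotate h1 h2
    rw [hPA, commutator_eq_bot_iff_le_centralizer] at h4
    have hcen : ∀ f ∈ F, ∀ x ∈ P, f * x = x * f := fun f hf x hx => mem_centralizer_iff.1 (h4 hx) f hf
    have hsq : ∀ x ∈ P, x ^ 2 ∈ F := fun x hx =>
      ⟨⟨x, hx⟩ ^ 2, Cfsg.Lib.PGroups.pow_mem_frattini hP _, rfl⟩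
    have hcomm : ∀ x ∈ P, ∀ y ∈ P, ⁅x, y⁆ ∈ F := fun x hx y hy =>
      ⟨⁅(⟨x, hx⟩ : P), ⟨y, hy⟩⁆, Cfsg.Lib.PGroups.commutator_le_frattini hP
        (commutator_mem_commutator (mem_top _) (mem_top _)), rfl⟩
    have hpow : ∀ x ∈ P, ∀ c ∈ P, (x * c) ^ 4 = x ^ 4 * c ^ 4 := by
      intro x hx c hc
      set z := ⁅c, x⁆ with hz
      have hzF : z ∈ F := hcomm c hc x hx
      have hzc := hcen z hzF c hc
      have hzx := hcen z hzF x hx
      have hcx : c * x = z * x * c := by rw [hz, commutatorElement_def]; group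
      have hz2 : z * z = 1 := by
        have h := hcen _ (hsq c hc) x hx
        rw [pow_two] at h
        have h' : z * z * (x * (c * c)) = x * (c * c) := by
          calc z * z * (x * (c * c)) = z * (z * x * c) * c := by group
            _ = z * (c * x) * c := by rw [hcx]
            _ = (z * c) * (x * c) := by group
            _ = (c * z) * (x * c) := by rw [hzc]
            _ = c * (z * x * c) := by group
            _ = c * c * x := by rw [← hcx, mul_assoc]
            _ = x * (c * c) := h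
        exact mul_eq_right.1 h'
      have hzxc : ∀ u ∈ P, z * u = u * z := fun u hu => hcen z hzF u hu
      have h2 : (x * c) ^ 2 = z * (x ^ 2 * c ^ 2) := by
        calc (x * c) ^ 2 = x * (c * x) * c := by rw [pow_two]; group
          _ = x * (z * x * c) * c := by rw [hcx]
          _ = (x * z) * (x * c * c) := by group
          _ = (z * x) * (x * c * c) := by rw [hzx]
          _ = _ := by simp only [pow_two, mul_assoc]
      have hm : x ^ 2 * c ^ 2 ∈ P := mul_mem (pow_mem hx 2) (pow_mem hc 2)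
      have hxc2 : c ^ 2 * x ^ 2 = x ^ 2 * c ^ 2 := hcen _ (hsq c hc) _ (pow_mem hx 2)
      calc (x * c) ^ 4 = ((x * c) ^ 2) ^ 2 := by rw [← pow_mul]
        _ = z * ((x ^ 2 * c ^ 2) * z) * (x ^ 2 * c ^ 2) := by rw [h2, pow_two]; group
        _ = z * (z * (x ^ 2 * c ^ 2)) * (x ^ 2 * c ^ 2) := by rw [hzxc _ hm]
        _ = (z * z) * (x ^ 2 * (c ^ 2 * x ^ 2) * c ^ 2) := by group
        _ = x ^ 4 * c ^ 4 := by rw [hz2, hxc2, one_mul]; group
    have hle2 : ⁅P, A⁆ ≤ centralizer (A : Set G) := by
      rw [commutator_le]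
      intro k hk a ha
      have hc : ⁅k, a⁆ ∈ P := hle (commutator_mem_commutator hk ha)
      rw [mem_centralizer_iff]
      intro b hb
      refine hfix _ hc ?_ b hb
      have hk4 : k⁻¹ ^ 4 ∈ F := by
        have := hsq _ (pow_mem (inv_mem hk) 2)
        rwa [← pow_mul] at this
      have h := hpow k⁻¹ (inv_mem hk) ⁅k, a⁆ hc
      have h5 : a * k⁻¹ ^ 4 * a⁻¹ = k⁻¹ ^ 4 := by
        rw [← mem_centralizer_iff.1 (hAF ha) _ hk4, mul_inv_cancel_right]
      have h6 : k⁻¹ * ⁅k, a⁆ = a * k⁻¹ * a⁻¹ := by rw [commutatorElement_def]; group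
      rw [h6, conj_pow, h5] at h
      exact (mul_eq_left).1 h.symm
    rw [hPA] at hle2
    exact le_centralizer_iff.1 hle2
  · have h := hind _ (lt_of_le_of_ne hle hPA) (le_normalizer_commutator_right A P)
    have h2 : ⁅⁅P, A⁆, A⁆ = ⊥ := commutator_eq_bot_iff_le_centralizer.2 (le_centralizer_iff.1 h)
    rw [commutator_commutator_eq hAP hcop hsol, commutator_eq_bot_iff_le_centralizer] at h2
    exact le_centralizer_iff.1 h2

/-- An odd group fixing all elements of order dividing `4` of a `2`-group centralizes it. -/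
theorem le_centralizer_of_fix_four {A P : Subgroup G} (hP : IsPGroup 2 P) (hA : Odd (Nat.card A))
    (hAP : A ≤ normalizer (P : Set G)) (hfix : ∀ x ∈ P, x ^ 4 = 1 → ∀ a ∈ A, a * x = x * a) :
    A ≤ centralizer (P : Set G) :=
  le_centralizer_of_fix_four_aux _ A P rfl hP hA hAP hfix

end Cfsg.Lib.Coprime
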